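import Cfsg.Agent.Lib.Classical.LinNine.Basic

/-!
The action of the normaliser of the standard group of order 27 on its central quotient, a plane over the field of
three elements, and lifts of all determinant one actions.
-/

set_option autoImplicit false
set_option linter.unusedSectionVars false
set_option quotPrecheck false

namespace Cfsg.Agent.Classical.LinNine

open Matrix HeisenbergThree SLThree.Hessian

universe u

variable {F : Type u} [Field F]

local notation "G3" => GL (Fin 3) F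
local notation "M3" => Matrix (Fin 3) (Fin 3) F
local notation "Z3" => ZMod 3
local notation "V2" => (Fin 2 → ZMod 3)
local notation "S2" => Matrix (Fin 2) (Fin 2) (ZMod 3)

/-- The monomial representatives. -/
def mv (w : Fˣ) (v : Fin 2 → ZMod 3) : GL (Fin 3) F := dia (A w) ^ (v 0).val * cyc ^ (v 1).val

/-- The symplectic product. -/
def br (u v : Fin 2 → ZMod 3) : ZMod 3 := u 0 * v 1 - u 1 * v 0

/-- The action on the central quotient. -/
def Acts (w : Fˣ) (g : GL (Fin 3) F) (M : Matrix (Fin 2) (Fin 2) (ZMod 3)) : Prop :=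
  ∀ v, pr g * pr (mv w v) * (pr g)⁻¹ = pr (mv w (M *ᵥ v))

variable {w : Fˣ}

theorem mv_mem (v : V2) : mv w v ∈ std w := mul_mem (pow_mem (dia_A_mem w) _) (pow_mem (cyc_mem w) _)

theorem mv_e0 : mv w (![1, 0] : V2) = dia (A w) := by simp [mv, ZMod.val_one]

theorem mv_e1 : mv w (![0, 1] : V2) = cyc := by simp [mv, ZMod.val_one]

theorem mv_zero : mv w (0 : V2) = 1 := by simp [mv]

variable (hw : w ^ 3 = 1) (hw1 : w ≠ 1)
include hw hw1

theorem pr_mv_add (u v : V2) : pr (mv w (u + v)) = pr (mv w u) * pr (mv w v) := by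
  obtain ⟨ha, hb⟩ := pr_pow_three hw hw1
  have hc : Commute (pr (cyc : G3)) (pr (dia (A w))) := pr_cyc_mul hw hw1
  simp only [mv, map_mul, map_pow, Pi.add_apply]
  rw [mul_assoc, ← mul_assoc (pr cyc ^ (u 1).val), (hc.pow_pow (u 1).val (v 0).val).eq, mul_assoc, ← pow_add,
    ← mul_assoc, ← pow_add, ZMod.val_add, ZMod.val_add, ← pow_eq_pow_mod _ ha, ← pow_eq_pow_mod _ hb]

theorem pr_mv_neg (v : V2) : pr (mv w (-v)) = (pr (mv w v))⁻¹ := by
  refine (inv_eq_of_mul_eq_one_left ?_).symm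
  rw [← pr_mv_add hw hw1, neg_add_cancel, mv_zero, map_one]

theorem pr_mv_eq_one {v : V2} (h : pr (mv w v) = 1) : v = 0 := by
  rw [mv, map_mul, map_pow, map_pow] at h
  obtain ⟨h0, h1⟩ := pr_form_eq_one hw hw1 (ZMod.val_lt (v 0)) (ZMod.val_lt (v 1)) h
  funext i
  fin_cases i
  · exact (ZMod.val_eq_zero _).1 h0
  · exact (ZMod.val_eq_zero _).1 h1

theorem pr_mv_inj {u v : V2} (h : pr (mv w u) = pr (mv w v)) : u = v := by
  have := pr_mv_eq_one hw hw1 (v := u + -v) (by rw [pr_mv_add hw hw1, pr_mv_neg hw hw1, h, mul_inv_cancel])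
  rwa [← sub_eq_add_neg, sub_eq_zero] at this

theorem exists_mv {g : G3} (hg : g ∈ std w) : ∃ v, pr g = pr (mv w v) := by
  obtain ⟨i, j, hi, hj, h⟩ := exists_form hw hw1 hg
  exact ⟨![(i : Z3), (j : Z3)], by
    simp [h, mv, ZMod.val_natCast, Nat.mod_eq_of_lt hi, Nat.mod_eq_of_lt hj]⟩

theorem cyc_pow_mul_A_pow (j k : ℕ) :
    (cyc : G3) ^ j * dia (A w) ^ k = dia (fun _ => w ^ (2 * j * k)) * (dia (A w) ^ k * cyc ^ j) := by
  have hp : ∀ n : ℕ, prev (A w ^ n) = (fun _ => w ^ (2 * n)) * A w ^ n := fun n => by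
    funext i
    fin_cases i <;> simp [prev, A, ← pow_mul, ← pow_add] <;> rw [pow_mod_three hw]
    · rw [show (2 * n + n) % 3 = 0 by omega, pow_zero]
    · rw [pow_mod_three hw (_ + _)]
      congr 1; omega
  have hz : ∀ (z : Fˣ) (g : G3), dia (fun _ => z) * g = g * dia (fun _ => z) := fun z g => by
    refine Units.ext ?_
    rw [Units.val_mul, Units.val_mul, coe_dia, show Matrix.diagonal (fun _ : Fin 3 => (z : F)) = (z : F) • 1 from
      (Matrix.smul_one_eq_diagonal _).symm, Matrix.smul_mul, Matrix.mul_smul, one_mul, mul_one]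
  have key : ∀ n : ℕ, (cyc : G3) * dia (A w) ^ n = dia (fun _ => w ^ (2 * n)) * (dia (A w) ^ n * cyc) := fun n => by
    rw [← map_pow, cyc_mul_dia, hp, map_mul, mul_assoc]
  induction j with
  | zero => rw [pow_zero, one_mul, mul_one, show (fun _ => w ^ (2 * 0 * k)) = (1 : Fin 3 → Fˣ) by funext; simp,
      map_one, one_mul]
  | succ j ih =>
    calc (cyc : G3) ^ (j + 1) * dia (A w) ^ k = cyc * (cyc ^ j * dia (A w) ^ k) := by rw [pow_succ', mul_assoc]
      _ = dia (fun _ => w ^ (2 * j * k)) * (cyc * dia (A w) ^ k) * cyc ^ j := by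
        rw [ih, ← mul_assoc, ← hz]; simp only [← mul_assoc]
      _ = dia ((fun _ => w ^ (2 * j * k)) * fun _ => w ^ (2 * k)) * (dia (A w) ^ k * cyc ^ (j + 1)) := by
        rw [key, map_mul, pow_succ']; simp only [← mul_assoc]
      _ = _ := by
        congr 2
        funext
        rw [Pi.mul_apply, ← pow_add]; congr 1; ring

/-- The commutation of the representatives. -/
theorem mv_comm (u v : V2) : mv w u * mv w v = dia (fun _ => w ^ (br u v).val) * (mv w v * mv w u) := by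
  have hz : ∀ (z : Fˣ) (g : G3), g * dia (fun _ => z) = dia (fun _ => z) * g := fun z g => by
    refine Units.ext ?_
    rw [Units.val_mul, Units.val_mul, coe_dia, show Matrix.diagonal (fun _ : Fin 3 => (z : F)) = (z : F) • 1 from
      (Matrix.smul_one_eq_diagonal _).symm, Matrix.smul_mul, Matrix.mul_smul, one_mul, mul_one]
  have e : ∀ u v : V2, mv w u * mv w v =
      dia (fun _ => w ^ (2 * (u 1).val * (v 0).val)) * (dia (A w) ^ ((u 0).val + (v 0).val) *
        (cyc : G3) ^ ((u 1).val + (v 1).val)) := fun u v => by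
    rw [mv, mv, mul_assoc, ← mul_assoc (cyc ^ (u 1).val), cyc_pow_mul_A_pow hw hw1, ← mul_assoc, ← mul_assoc, hz,
      pow_add, pow_add]
    simp only [mul_assoc]
  rw [e, e, ← mul_assoc (dia fun _ => w ^ (br u v).val), ← map_mul, add_comm (v 0).val, add_comm (v 1).val]
  congr 2
  funext
  rw [Pi.mul_apply, ← pow_add, pow_mod_three hw, pow_mod_three hw (_ + _)]
  congr 1
  have key : ∀ a b c d : Z3, (2 * b.val * c.val) % 3 = ((a * d - b * c).val + 2 * d.val * a.val) % 3 := by decide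
  exact key (u 0) (u 1) (v 0) (v 1)

theorem Acts.mul {g h : G3} {M N : S2} (hg : Acts w g M) (hh : Acts w h N) : Acts w (g * h) (M * N) := fun v => by
  rw [map_mul, _root_.mul_inv_rev, ← Matrix.mulVec_mulVec, ← hg (N *ᵥ v), ← hh v]
  group

theorem Acts.unique {g : G3} {M N : S2} (hg : Acts w g M) (hg' : Acts w g N) : M = N :=
  Matrix.ext_iff_mulVec.2 fun v => pr_mv_inj hw hw1 ((hg v).symm.trans (hg' v))

theorem acts_of_pr {g : G3} {v : V2} (hg : pr g = pr (mv w v)) : Acts w g 1 := fun u => by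
  rw [Matrix.one_mulVec, hg, ← pr_mv_add hw hw1, ← pr_mv_neg hw hw1, ← pr_mv_add hw hw1]
  congr 2
  abel

theorem Acts.of_pr_eq {g h : G3} {M : S2} (hg : Acts w g M) (e : pr h = pr g) : Acts w h M := fun v => by
  rw [e]; exact hg v

theorem exists_mv_of_acts_one {g : G3} (hg : Acts w g 1) : ∃ v, pr g = pr (mv w v) := by
  have h0 := hg ![1, 0]
  have h1 := hg ![0, 1]
  rw [Matrix.one_mulVec, mul_inv_eq_iff_eq_mul, mv_e0] at h0
  rw [Matrix.one_mulVec, mul_inv_eq_iff_eq_mul, mv_e1] at h1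
  obtain ⟨r, hr, e⟩ := mem_bar_of_commute hw hw1 h0 h1
  obtain ⟨v, hv⟩ := exists_mv hw hw1 hr
  exact ⟨v, e.trans hv⟩

theorem Acts.det {g : G3} {M : S2} (hg : Acts w g M) : M.det = 1 := by
  obtain ⟨u, v, hu, hv⟩ : ∃ u v : V2, u = M *ᵥ ![1, 0] ∧ v = M *ᵥ ![0, 1] := ⟨_, _, rfl, rfl⟩
  have h0 := hg ![1, 0]
  have h1 := hg ![0, 1]
  rw [← map_inv, ← map_mul, ← map_mul, ← hu, pr_eq_pr] at h0
  rw [← map_inv, ← map_mul, ← map_mul, ← hv, pr_eq_pr] at h1
  obtain ⟨a, ha⟩ := h0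
  obtain ⟨b, hb⟩ := h1
  have hC : ∀ z : Fˣ, ((dia fun _ => z : G3) : M3) = (z : F) • 1 := fun z => by
    rw [coe_dia]; exact (Matrix.smul_one_eq_diagonal _).symm
  obtain ⟨c₀, hc₀⟩ : ∃ c, c = w ^ (br (![1, 0] : V2) ![0, 1]).val := ⟨_, rfl⟩
  obtain ⟨c₁, hc₁⟩ : ∃ c, c = w ^ (br u v).val := ⟨_, rfl⟩
  obtain ⟨X, hX⟩ : ∃ X, X = g * mv w ![1, 0] * g⁻¹ := ⟨_, rfl⟩
  obtain ⟨Y, hY⟩ : ∃ Y, Y = g * mv w ![0, 1] * g⁻¹ := ⟨_, rfl⟩
  rw [← hX] at ha
  rw [← hY] at hb
  have hXY : X * Y = dia (fun _ => c₀) * (Y * X) := by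
    have hz : g * dia (fun _ => c₀) = dia (fun _ => c₀) * g := Units.ext (by
      rw [Units.val_mul, Units.val_mul, hC, Matrix.smul_mul, Matrix.mul_smul, one_mul, mul_one])
    calc X * Y = g * (mv w ![1, 0] * mv w ![0, 1]) * g⁻¹ := by rw [hX, hY]; group
      _ = g * dia (fun _ => c₀) * (mv w ![0, 1] * mv w ![1, 0]) * g⁻¹ := by
        rw [mv_comm hw hw1, hc₀]; simp only [mul_assoc]
      _ = _ := by rw [hz, hX, hY]; group
  have h1' := congrArg Units.val hXY
  have h2' := congrArg Units.val (mv_comm hw hw1 u v)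
  rw [← hc₁] at h2'
  simp only [Units.val_mul, hC, Matrix.smul_mul, one_mul] at h1' h2'
  rw [ha, hb, Matrix.smul_mul, Matrix.mul_smul, Matrix.smul_mul, Matrix.mul_smul, h2', smul_smul, smul_smul, smul_smul,
    smul_smul] at h1'
  have hne : ((mv w v : G3) : M3) * (mv w u : G3) ≠ 0 := by rw [← Units.val_mul]; exact Units.ne_zero _
  have h3 := smul_left_injective F hne h1'
  have ha0 : a ≠ 0 := fun e0 => X.ne_zero (by rw [ha, e0, zero_smul])
  have hb0 : b ≠ 0 := fun e0 => Y.ne_zero (by rw [hb, e0, zero_smul])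
  have h4 : c₁ = c₀ := Units.ext (mul_left_cancel₀ (mul_ne_zero ha0 hb0) (by linear_combination h3))
  rw [hc₀, hc₁] at h4
  have h5 := pow_inj_mod.1 h4
  rw [orderOf_eq_prime hw hw1, Nat.mod_eq_of_lt (ZMod.val_lt _), Nat.mod_eq_of_lt (ZMod.val_lt _)] at h5
  have h6 := ZMod.val_injective 3 h5
  rw [Matrix.det_fin_two]
  simp [hu, hv, br, Matrix.mulVec, dotProduct, Fin.sum_univ_two] at h6
  linear_combination h6

theorem exists_acts [Finite F] {g : G3} (hg : g ∈ Subgroup.normalizer (std w : Set G3)) : ∃ M : S2, Acts w g M := by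
  have hs : ∀ v, ∃ v', pr g * pr (mv w v) * (pr g)⁻¹ = pr (mv w v') := fun v => by
    obtain ⟨v', h⟩ := exists_mv hw hw1 ((Subgroup.mem_normalizer_iff.1 hg _).1 (mv_mem (w := w) v))
    exact ⟨v', by rw [← map_inv, ← map_mul, ← map_mul, h]⟩
  choose f hf using hs
  have hadd : ∀ u v, f (u + v) = f u + f v := fun u v => pr_mv_inj hw hw1 (by
    rw [← hf, pr_mv_add hw hw1, pr_mv_add hw hw1, ← hf u, ← hf v]; group)
  obtain ⟨f', hf'⟩ : ∃ f' : V2 →ₗ[Z3] V2, ∀ v, f' v = f v :=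
    ⟨(AddMonoidHom.mk' f hadd).toZModLinearMap 3, fun _ => rfl⟩
  exact ⟨LinearMap.toMatrix' f', fun v => by rw [LinearMap.toMatrix'_mulVec, hf', hf]⟩

theorem mem_std_of_pr {x : G3} (hd : (x : M3).det = 1) {v : V2} (h : pr x = pr (mv w v)) : x ∈ std w := by
  obtain ⟨z, hz⟩ := pr_eq_pr.1 h
  have hdm : ((mv w v : G3) : M3).det = 1 := by
    have hA : (Matrix.diagonal fun i => (A w i : F)).det = 1 := by
      rw [Matrix.det_diagonal, Fin.prod_univ_three]
      simp [A]
      linear_combination (sum_pow hw hw1).1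
    have hC : ((cyc : G3) : M3).det = 1 := by simp [coe_cyc, Matrix.det_fin_three]
    simp [mv, Matrix.det_mul, Matrix.det_pow, coe_dia, hA, hC]
  have hd' := congrArg Matrix.det hz
  rw [hd, Matrix.det_smul, hdm, mul_one, Fintype.card_fin] at hd'
  have hz0 : z ≠ 0 := fun e => by rw [e, zero_pow (by norm_num)] at hd'; exact one_ne_zero hd'
  have e : x = dia (fun _ => Units.mk0 z hz0) * mv w v := Units.ext (by
    rw [Units.val_mul, coe_dia, hz]
    rw [show Matrix.diagonal (fun _ : Fin 3 => ((Units.mk0 z hz0 : Fˣ) : F)) = z • 1 from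
      (Matrix.smul_one_eq_diagonal _).symm, Matrix.smul_mul, one_mul])
  rw [e]
  refine mul_mem (dia_cube_mem hw hw1 (fun _ => Units.ext (by simpa using hd'.symm)) ?_) (mv_mem v)
  exact Units.ext (by simpa [pow_three, mul_assoc] using hd'.symm)

theorem Acts.mem_normalizer [Finite F] {g : G3} {M : S2} (hg : Acts w g M) :
    g ∈ Subgroup.normalizer (std w : Set G3) := by
  haveI : Finite (GL (Fin 3) F) := Finite.of_injective _ Units.val_injective
  refine mem_normalizer_of_gen (S := {dia (A w), cyc}) rfl ?_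
  have key : ∀ v : V2, g * mv w v * g⁻¹ ∈ std w := fun v => by
    refine mem_std_of_pr hw hw1 ?_ (v := M *ᵥ v) (by rw [map_mul, map_mul, map_inv, hg v])
    rw [Units.val_mul, Units.val_mul, Matrix.det_units_conj]
    have hA : (Matrix.diagonal fun i => (A w i : F)).det = 1 := by
      rw [Matrix.det_diagonal, Fin.prod_univ_three]
      simp [A]
      linear_combination (sum_pow hw hw1).1
    have hC : ((cyc : G3) : M3).det = 1 := by simp [coe_cyc, Matrix.det_fin_three]
    simp [mv, Matrix.det_mul, Matrix.det_pow, coe_dia, hA, hC]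
  rintro s (rfl | rfl)
  · have := key ![1, 0]; rwa [mv_e0] at this
  · have := key ![0, 1]; rwa [mv_e1] at this

theorem acts_of_gen {g : G3} {M : S2} (h0 : pr g * pr (dia (A w)) * (pr g)⁻¹ = pr (mv w (M *ᵥ ![1, 0])))
    (h1 : pr g * pr cyc * (pr g)⁻¹ = pr (mv w (M *ᵥ ![0, 1]))) : Acts w g M := fun v => by
  have hs : ∀ (n : ℕ) (x : V2), pr (mv w (n • x)) = pr (mv w x) ^ n := fun n x => by
    induction n with
    | zero => rw [zero_smul, mv_zero, map_one, pow_zero]
    | succ n ih => rw [succ_nsmul, pr_mv_add hw hw1, ih, pow_succ]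
  have e : v = (v 0).val • (![1, 0] : V2) + (v 1).val • ![0, 1] := by
    funext i; fin_cases i <;> simp
  conv_lhs => rw [mv, map_mul, map_pow, map_pow]
  rw [← conj_mul, ← conj_pow, ← conj_pow, h0, h1, ← hs, ← hs, ← pr_mv_add hw hw1, ← Matrix.mulVec_smul,
    ← Matrix.mulVec_smul, ← Matrix.mulVec_add, ← e]

theorem acts_four : Acts w (four hw hw1) (!![0, 1; -1, 0] : S2) := by
  refine acts_of_gen hw hw1 ?_ ?_
  · rw [← map_inv, ← map_mul, ← map_mul, four_conj_A hw hw1, show (!![0, 1; -1, 0] : S2) *ᵥ ![1, 0] = -![0, 1] by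
      decide, pr_mv_neg hw hw1, mv_e1, map_inv]
  · rw [← map_inv, ← map_mul, ← map_mul, four_conj_cyc hw hw1, show (!![0, 1; -1, 0] : S2) *ᵥ ![0, 1] = ![1, 0] by
      decide, mv_e0]

theorem acts_dd : Acts w (dd w) (!![1, 2; 0, 1] : S2) := by
  refine acts_of_gen hw hw1 ?_ ?_
  · rw [← map_inv, ← map_mul, ← map_mul, show (!![1, 2; 0, 1] : S2) *ᵥ ![1, 0] = ![1, 0] by decide, mv_e0, dd,
      ← map_inv, ← map_mul, ← map_mul, mul_comm ![1, w, w], mul_inv_cancel_right]
  · rw [show (!![1, 2; 0, 1] : S2) *ᵥ ![0, 1] = (![2, 1] : V2) by decide, ← map_inv, ← map_mul, ← map_mul,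
      pr_eq_pr]
    refine ⟨(w : F) ^ 2, ?_⟩
    rw [dd, mul_assoc, ← map_inv, cyc_mul_dia, ← mul_assoc, ← map_mul, Units.val_mul, mv,
      show ((![2, 1] : V2) 0).val = 2 from rfl, show ((![2, 1] : V2) 1).val = 1 from rfl, pow_one, ← map_pow,
      Units.val_mul, ← Matrix.smul_mul]
    congr 1
    rw [coe_dia, coe_dia, ← Matrix.diagonal_smul]
    congr 1
    have h3 : (w : F) ^ 3 = 1 := (sum_pow hw hw1).1
    have hwi : ((w⁻¹ : Fˣ) : F) = (w : F) ^ 2 := by
      rw [← Units.val_pow_eq_pow_val]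
      exact congrArg Units.val (inv_eq_of_mul_eq_one_right (by rw [← pow_succ', hw]))
    funext i
    fin_cases i <;> simp [prev, A, hwi]
    · linear_combination (-(w : F)) * h3
    · linear_combination (-(w : F) ^ 3 - 1) * h3

/-- Lifts of all actions of determinant one. -/
theorem exists_lift {M : S2} (hM : M.det = 1) :
    ∃ h ∈ Subgroup.closure ({four hw hw1, dd w} : Set G3), Acts w h M := by
  have key : ∀ M : S2, M.det = 1 → ∃ i j : Fin 3, ∃ s : Fin 2,
      M = (!![1, 2; 0, 1] : S2) ^ (i : ℕ) * (!![0, 1; -1, 0] : S2) ^ (2 * (s : ℕ)) ∨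
      M = (!![1, 2; 0, 1] : S2) ^ (i : ℕ) * (!![0, 1; -1, 0] : S2) ^ (2 * (s : ℕ) + 1) *
        (!![1, 2; 0, 1] : S2) ^ (j : ℕ) := by decide +kernel
  have hf : ∀ n : ℕ, Acts w (four hw hw1 ^ n) ((!![0, 1; -1, 0] : S2) ^ n) := fun n => by
    induction n with
    | zero => simpa using acts_of_pr hw hw1 (g := (1 : G3)) (v := 0) (by rw [mv_zero])
    | succ n ih => rw [pow_succ, pow_succ]; exact ih.mul hw hw1 (acts_four hw hw1)
  have hd : ∀ n : ℕ, Acts w (dd w ^ n) ((!![1, 2; 0, 1] : S2) ^ n) := fun n => by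
    induction n with
    | zero => simpa using acts_of_pr hw hw1 (g := (1 : G3)) (v := 0) (by rw [mv_zero])
    | succ n ih => rw [pow_succ, pow_succ]; exact ih.mul hw hw1 (acts_dd hw hw1)
  have m0 : four hw hw1 ∈ Subgroup.closure ({four hw hw1, dd w} : Set G3) := Subgroup.subset_closure (Or.inl rfl)
  have m1 : dd w ∈ Subgroup.closure ({four hw hw1, dd w} : Set G3) := Subgroup.subset_closure (Or.inr rfl)
  obtain ⟨i, j, s, rfl | rfl⟩ := key M hM
  · exact ⟨_, mul_mem (pow_mem m1 _) (pow_mem m0 _), (hd _).mul hw hw1 (hf _)⟩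
  · exact ⟨_, mul_mem (mul_mem (pow_mem m1 _) (pow_mem m0 _)) (pow_mem m1 _),
      ((hd _).mul hw hw1 (hf _)).mul hw hw1 (hd _)⟩

end Cfsg.Agent.Classical.LinNine
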