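import Cfsg.Agent.Lib.Classical.SLThree.HessianFrame
import Cfsg.Prelude.Def_GeometricClasses

/-!
The standard group of order 243 in degree nine: a tensor square of the standard group of order 27, block diagonal
matrices, the exchange of the factors, and the commutant.
-/

set_option autoImplicit false
set_option linter.unusedSectionVars false
set_option quotPrecheck false

namespace Cfsg.Agent.Classical.LinNine

open Matrix HeisenbergThree

universe u

variable {F : Type u} [Field F]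

local notation "G3" => GL (Fin 3) F
local notation "M3" => Matrix (Fin 3) (Fin 3) F
local notation "I9" => (Fin 3 × Fin 3)
local notation "G9" => GL (Fin 3 × Fin 3) F
local notation "M9" => Matrix (Fin 3 × Fin 3) (Fin 3 × Fin 3) F

/-- The Kronecker product on the monoid of matrices. -/
def krMat : GL (Fin 3) F × GL (Fin 3) F →* Matrix (Fin 3 × Fin 3) (Fin 3 × Fin 3) F where
  toFun p := Matrix.kroneckerMap (· * ·) (p.1 : M3) (p.2 : M3)
  map_one' := by rw [Prod.fst_one, Prod.snd_one, Units.val_one, Matrix.one_kronecker_one]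
  map_mul' p q := by rw [Prod.fst_mul, Prod.snd_mul, Units.val_mul, Units.val_mul, Matrix.mul_kronecker_mul]

/-- The Kronecker product. -/
def kr : GL (Fin 3) F × GL (Fin 3) F →* GL (Fin 3 × Fin 3) F := (krMat (F := F)).toHomUnits

theorem coe_kr (g h : G3) : ((kr (g, h) : G9) : M9) = Matrix.kroneckerMap (· * ·) (g : M3) (h : M3) := rfl

theorem kr_apply (g h : G3) (p q : I9) : ((kr (g, h) : G9) : M9) p q = (g : M3) p.1 q.1 * (h : M3) p.2 q.2 := rfl

theorem kr_mul (g h g' h' : G3) : kr (g, h) * kr (g', h') = kr (g * g', h * h') := by rw [← map_mul, Prod.mk_mul_mk]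

theorem kr_inv (g h : G3) : (kr (g, h))⁻¹ = kr (g⁻¹, h⁻¹) := by rw [← map_inv, Prod.inv_mk]

theorem kr_conj (g h g' h' : G3) :
    kr (g, h) * kr (g', h') * (kr (g, h))⁻¹ = kr (g * g' * g⁻¹, h * h' * h⁻¹) := by rw [kr_inv, kr_mul, kr_mul]

theorem det_kr (g h : G3) : ((kr (g, h) : G9) : M9).det = (g : M3).det ^ 3 * (h : M3).det ^ 3 := by
  rw [coe_kr, Matrix.det_kronecker, Fintype.card_fin]

theorem kr_scalar_comm {z : F} {x : G3} (hz : (x : M3) = z • 1) (g : G9) : kr (x, 1) * g = g * kr (x, 1) := by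
  have e : ((kr (x, 1) : G9) : M9) = z • 1 := by
    rw [coe_kr, hz, Units.val_one, Matrix.smul_kronecker, Matrix.one_kronecker_one]
  exact Units.ext (by rw [Units.val_mul, Units.val_mul, e, Matrix.smul_mul, Matrix.mul_smul, one_mul, mul_one])

/-- The block diagonal matrices, blocks indexed by the second coordinate. -/
def blk : (Fin 3 → GL (Fin 3) F) →* GL (Fin 3 × Fin 3) F :=
  (Units.map (Matrix.blockDiagonalRingHom (Fin 3) (Fin 3) F).toMonoidHom).comp MulEquiv.piUnits.symm.toMonoidHom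

theorem coe_blk (c : Fin 3 → G3) : ((blk c : G9) : M9) = Matrix.blockDiagonal fun a => (c a : M3) := rfl

theorem blk_apply (c : Fin 3 → G3) (p q : I9) :
    ((blk c : G9) : M9) p q = if p.2 = q.2 then (c p.2 : M3) p.1 q.1 else 0 := by
  rw [coe_blk, Matrix.blockDiagonal_apply]

theorem blk_injective : Function.Injective (blk : (Fin 3 → G3) → G9) := fun c d h => by
  funext a
  refine Units.ext ?_
  ext b b'
  have := congrArg (fun g : G9 => (g : M9) (b, a) (b', a)) h
  simpa [blk_apply] using this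

theorem det_blk (c : Fin 3 → G3) : ((blk c : G9) : M9).det = ∏ a, (c a : M3).det := by
  rw [coe_blk, Matrix.det_blockDiagonal]

theorem blk_const (g : G3) : blk (fun _ => g) = kr (g, 1) := Units.ext (by
  ext p q
  rw [blk_apply, kr_apply, Units.val_one, Matrix.one_apply, mul_ite, mul_one, mul_zero])

/-- Scalar blocks. -/
theorem kr_dia (e f : Fin 3 → Fˣ) :
    ((kr (dia e, dia f) : G9) : M9) = Matrix.diagonal fun p => (e p.1 : F) * (f p.2 : F) := by
  rw [coe_kr, coe_dia, coe_dia, Matrix.diagonal_kronecker_diagonal]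

theorem one_dia : (dia (1 : Fin 3 → Fˣ) : G3) = 1 := map_one _

theorem cyc_apply (i j : Fin 3) : ((cyc : G3) : M3) i j = if i = j + 1 then 1 else 0 := by
  fin_cases i <;> fin_cases j <;> simp [coe_cyc]

theorem cyc_inv_apply (i j : Fin 3) : (((cyc : G3)⁻¹ : G3) : M3) i j = if i + 1 = j then 1 else 0 := by
  show (cyc : G3).inv i j = _
  fin_cases i <;> fin_cases j <;> simp [cyc]

/-- Moving the blocks. -/
theorem shift_blk (c : Fin 3 → G3) : kr (1, cyc) * blk c * (kr (1, cyc))⁻¹ = blk fun a => c (a - 1) := by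
  rw [mul_inv_eq_iff_eq_mul]
  refine Units.ext ?_
  ext ⟨b, a⟩ ⟨b', a'⟩
  rw [Units.val_mul, Units.val_mul, Matrix.mul_apply, Matrix.mul_apply, Fintype.sum_prod_type, Fintype.sum_prod_type]
  simp only [kr_apply, blk_apply, Units.val_one, cyc_apply, Fin.sum_univ_three]
  fin_cases a <;> fin_cases a' <;> fin_cases b <;> fin_cases b' <;>
    simp [Matrix.one_apply, show (-1 : Fin 3) = 2 from rfl]

/-- Commuting with the block distinguishing element. -/
theorem exists_blk {w : Fˣ} (hw : w ^ 3 = 1) (hw1 : w ≠ 1) {g : G9}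
    (h : g * kr (1, dia (A w)) = kr (1, dia (A w)) * g) : ∃ c, g = blk c := by
  have hz : ∀ u : G9, u * kr (1, dia (A w)) = kr (1, dia (A w)) * u → ∀ p q : I9, p.2 ≠ q.2 → (u : M9) p q = 0 := by
    intro u hu p q hpq
    have he := congrArg (fun v : G9 => (v : M9) p q) hu
    rw [← one_dia] at he
    simp only [Units.val_mul, kr_dia, Matrix.mul_diagonal, Matrix.diagonal_mul, Pi.one_apply, Units.val_one,
      one_mul] at he
    have hne : ((A w q.2 : Fˣ) : F) - (A w p.2 : F) ≠ 0 := sub_ne_zero.2 fun e => by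
      have e' : w ^ (q.2 : ℕ) = w ^ (p.2 : ℕ) := Units.ext e
      have ho : orderOf w = 3 := orderOf_eq_prime hw hw1
      have h := pow_inj_mod.1 e'
      rw [ho, Nat.mod_eq_of_lt q.2.2, Nat.mod_eq_of_lt p.2.2] at h
      exact hpq (Fin.ext h.symm)
    exact (mul_eq_zero.1 (show (u : M9) p q * (((A w q.2 : Fˣ) : F) - (A w p.2 : F)) = 0 by
      linear_combination he)).resolve_right hne
  have h' : g⁻¹ * kr (1, dia (A w)) = kr (1, dia (A w)) * g⁻¹ := (Commute.inv_left h).eq
  obtain ⟨B, hB⟩ : ∃ B : G9 → Fin 3 → M3, B = fun (u : G9) a => Matrix.of fun b b' => (u : M9) (b, a) (b', a) := ⟨_, rfl⟩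
  have hmul : ∀ u v : G9, u * kr (1, dia (A w)) = kr (1, dia (A w)) * u → ∀ a, B (u * v) a = B u a * B v a := by
    intro u v hu a
    ext b b'
    simp only [hB, Matrix.of_apply]
    rw [Units.val_mul, Matrix.mul_apply, Fintype.sum_prod_type, Matrix.mul_apply]
    simp only [Matrix.of_apply]
    refine Finset.sum_congr rfl fun x _ => Finset.sum_eq_single a (fun y _ hy => ?_) (by simp)
    rw [hz u hu (b, a) (x, y) (Ne.symm hy), zero_mul]
  have hone : ∀ a, B 1 a = 1 := fun a => by ext b b'; simp [hB, Matrix.one_apply]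
  refine ⟨fun a => ⟨B g a, B g⁻¹ a, by rw [← hmul g g⁻¹ h, mul_inv_cancel, hone],
    by rw [← hmul g⁻¹ g h', inv_mul_cancel, hone]⟩, Units.ext ?_⟩
  ext ⟨b, a⟩ ⟨b', a'⟩
  rw [blk_apply]
  rcases eq_or_ne a a' with rfl | hne
  · rw [if_pos rfl]; simp [hB]
  · rw [if_neg (by exact hne)]; exact hz g h _ _ (by exact hne)

/-- Exchange of the factors, negated. -/
def sw : GL (Fin 3 × Fin 3) F where
  val := Matrix.of fun p q => if p = q.swap then -1 else 0
  inv := Matrix.of fun p q => if p = q.swap then -1 else 0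
  val_inv := by
    ext ⟨a, b⟩ ⟨c, d⟩
    simp [Matrix.mul_apply, Matrix.one_apply, Fintype.sum_prod_type, Fin.sum_univ_three]
    fin_cases a <;> fin_cases b <;> fin_cases c <;> fin_cases d <;> simp
  inv_val := by
    ext ⟨a, b⟩ ⟨c, d⟩
    simp [Matrix.mul_apply, Matrix.one_apply, Fintype.sum_prod_type, Fin.sum_univ_three]
    fin_cases a <;> fin_cases b <;> fin_cases c <;> fin_cases d <;> simp

theorem sw_apply (p q : I9) : ((sw : G9) : M9) p q = if p = q.swap then -1 else 0 := rfl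

theorem sw_mul_self : (sw : G9) * sw = 1 := Units.ext sw.val_inv

theorem sw_inv : (sw : G9)⁻¹ = sw := inv_eq_of_mul_eq_one_right sw_mul_self

theorem sw_mul_apply (g : G9) (p q : I9) : ((sw * g : G9) : M9) p q = -(g : M9) p.swap q := by
  rw [Units.val_mul, Matrix.mul_apply, Finset.sum_eq_single p.swap (fun r _ hr => by
    rw [sw_apply, if_neg fun e => hr (by rw [e, Prod.swap_swap]), zero_mul]) (by simp), sw_apply,
    if_pos (Prod.swap_swap p).symm, neg_one_mul]

theorem mul_sw_apply (g : G9) (p q : I9) : ((g * sw : G9) : M9) p q = -(g : M9) p q.swap := by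
  rw [Units.val_mul, Matrix.mul_apply, Finset.sum_eq_single q.swap (fun r _ hr => by
    rw [sw_apply, if_neg hr, mul_zero]) (by simp), sw_apply, if_pos rfl, mul_neg_one]

theorem sw_conj_apply (g : G9) (p q : I9) : ((sw * g * sw : G9) : M9) p q = (g : M9) p.swap q.swap := by
  rw [mul_sw_apply, sw_mul_apply, neg_neg]

theorem sw_kr (g h : G3) : sw * kr (g, h) * sw = kr (h, g) := Units.ext (by
  ext p q
  rw [sw_conj_apply, kr_apply, kr_apply]
  exact mul_comm _ _)

theorem det_sw : ((sw : G9) : M9).det = 1 := by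
  have e : ((sw : G9) : M9) = -(Equiv.Perm.permMatrix F (Equiv.prodComm (Fin 3) (Fin 3))) := by
    ext ⟨a, b⟩ ⟨c, d⟩
    simp [sw_apply, PEquiv.toMatrix_apply]
    fin_cases a <;> fin_cases b <;> fin_cases c <;> fin_cases d <;> simp
  rw [e, Matrix.det_neg, Matrix.det_permutation, Fintype.card_prod, Fintype.card_fin,
    show Equiv.Perm.sign (Equiv.prodComm (Fin 3) (Fin 3) : Equiv.Perm (Fin 3 × Fin 3)) = -1 by decide]
  norm_num

/-- The standard group. -/
def std9 (w : Fˣ) : Subgroup (GL (Fin 3 × Fin 3) F) := ((std w).prod (std w)).map kr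

theorem kr_mem_std9 {w : Fˣ} {g h : G3} (hg : g ∈ std w) (hh : h ∈ std w) : kr (g, h) ∈ std9 w :=
  ⟨(g, h), ⟨hg, hh⟩, rfl⟩

theorem std9_eq {w : Fˣ} : std9 w = Subgroup.closure
    {kr (dia (A w), 1), kr (cyc, 1), kr (1, dia (A w)), kr (1, (cyc : G3))} := by
  refine le_antisymm ?_ ((Subgroup.closure_le _).2 ?_)
  · rintro _ ⟨⟨g, h⟩, ⟨hg, hh⟩, rfl⟩
    rw [show kr (g, h) = (kr.comp (MonoidHom.inl G3 G3) g) * (kr.comp (MonoidHom.inr G3 G3) h) by
      simp [kr_mul]]
    refine mul_mem ?_ ?_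
    · have := Subgroup.mem_map_of_mem (kr.comp (MonoidHom.inl G3 G3)) hg
      rw [std, MonoidHom.map_closure] at this
      refine Subgroup.closure_mono ?_ this
      rintro _ ⟨s, rfl | rfl, rfl⟩ <;> simp
    · have := Subgroup.mem_map_of_mem (kr.comp (MonoidHom.inr G3 G3)) hh
      rw [std, MonoidHom.map_closure] at this
      refine Subgroup.closure_mono ?_ this
      rintro _ ⟨s, rfl | rfl, rfl⟩ <;> simp
  · rintro _ (rfl | rfl | rfl | rfl)
    exacts [kr_mem_std9 (dia_A_mem w) (one_mem _), kr_mem_std9 (cyc_mem w) (one_mem _),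
      kr_mem_std9 (one_mem _) (dia_A_mem w), kr_mem_std9 (one_mem _) (cyc_mem w)]

theorem mem_normalizer_std9 [Finite F] {w : Fˣ} {g : G9}
    (h1 : g * kr (dia (A w), 1) * g⁻¹ ∈ std9 w) (h2 : g * kr (cyc, 1) * g⁻¹ ∈ std9 w)
    (h3 : g * kr (1, dia (A w)) * g⁻¹ ∈ std9 w) (h4 : g * kr (1, (cyc : G3)) * g⁻¹ ∈ std9 w) :
    g ∈ Subgroup.normalizer (std9 w : Set G9) := by
  haveI : Finite (GL (Fin 3 × Fin 3) F) := Finite.of_injective _ Units.val_injective
  have hle : (std9 w).map (MulAut.conj g).toMonoidHom ≤ std9 w := by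
    conv_lhs => rw [std9_eq, MonoidHom.map_closure]
    refine (Subgroup.closure_le _).2 ?_
    rintro _ ⟨s, rfl | rfl | rfl | rfl, rfl⟩
    exacts [h1, h2, h3, h4]
  have heq : (std9 w).map (MulAut.conj g).toMonoidHom = std9 w := by
    refine Subgroup.eq_of_le_of_card_ge hle ?_
    rw [Subgroup.card_map_of_injective (MulAut.conj g).injective]
  rw [Subgroup.mem_normalizer_iff]
  refine fun x => ⟨fun hx => hle ⟨x, hx, rfl⟩, fun hx => ?_⟩
  rw [← heq] at hx
  obtain ⟨y, hy, e⟩ := hx
  exact (MulAut.conj g).injective e ▸ hy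

theorem kr_mem_normalizer [Finite F] {w : Fˣ} {g h : G3} (hg : g ∈ Subgroup.normalizer (std w : Set G3))
    (hh : h ∈ Subgroup.normalizer (std w : Set G3)) : kr (g, h) ∈ Subgroup.normalizer (std9 w : Set G9) := by
  have k : ∀ {x : G3}, x ∈ Subgroup.normalizer (std w : Set G3) → ∀ s ∈ std w, x * s * x⁻¹ ∈ std w :=
    fun hx s hs => (Subgroup.mem_normalizer_iff.1 hx s).1 hs
  refine mem_normalizer_std9 ?_ ?_ ?_ ?_ <;> rw [kr_conj] <;> refine kr_mem_std9 ?_ ?_
  exacts [k hg _ (dia_A_mem w), k hh _ (one_mem _), k hg _ (cyc_mem w), k hh _ (one_mem _), k hg _ (one_mem _),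
    k hh _ (dia_A_mem w), k hg _ (one_mem _), k hh _ (cyc_mem w)]

theorem sw_mem_normalizer [Finite F] {w : Fˣ} : (sw : G9) ∈ Subgroup.normalizer (std9 w : Set G9) := by
  refine mem_normalizer_std9 ?_ ?_ ?_ ?_ <;> rw [sw_inv, sw_kr] <;> refine kr_mem_std9 ?_ ?_ <;>
    first
      | exact one_mem _
      | exact dia_A_mem w
      | exact cyc_mem w

/-- The commutant of the standard group. -/
theorem eq_scalar_of_commute {w : Fˣ} (hw : w ^ 3 = 1) (hw1 : w ≠ 1) {g : G9}
    (h1 : g * kr (dia (A w), 1) = kr (dia (A w), 1) * g) (h2 : g * kr (cyc, 1) = kr (cyc, 1) * g)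
    (h3 : g * kr (1, dia (A w)) = kr (1, dia (A w)) * g)
    (h4 : g * kr (1, (cyc : G3)) = kr (1, (cyc : G3)) * g) : ∃ z : F, (g : M9) = z • 1 := by
  obtain ⟨c, rfl⟩ := exists_blk hw hw1 h3
  rw [← blk_const, ← map_mul, ← map_mul, blk_injective.eq_iff] at h1 h2
  have hc : ∀ a, Sc (c a) := fun a => sc_of_commute hw hw1 (congrFun h1 a) (congrFun h2 a)
  have hs := mul_inv_eq_iff_eq_mul.2 h4.symm
  rw [shift_blk, blk_injective.eq_iff] at hs
  have e : ∀ a, c a = c 0 := fun a => by
    have h10 := congrFun hs 1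
    have h21 := congrFun hs 2
    fin_cases a
    · rfl
    · simpa using h10.symm
    · exact (by simpa using h21.symm : c 2 = c 1).trans (by simpa using h10.symm)
  obtain ⟨z, hz⟩ := hc 0
  refine ⟨z, ?_⟩
  rw [funext e, blk_const, coe_kr, hz, Units.val_one, Matrix.smul_kronecker, Matrix.one_kronecker_one]

end Cfsg.Agent.Classical.LinNine
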