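import Cfsg.Agent.Lib.Classical.LinNine.Over

/-!
Degree nine: every element of a proper group above the standard normaliser commuting with a non-scalar standard
element normalises the standard group.
-/

set_option autoImplicit false
set_option linter.unusedSectionVars false

namespace Cfsg.Agent.Classical.LinNine

open Matrix HeisenbergThree SLThree.Hessian

universe u

variable {F : Type u} [Field F] {w : Fˣ}

local notation "G3" => GL (Fin 3) F
local notation "M3" => Matrix (Fin 3) (Fin 3) F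
local notation "G9" => GL (Fin 3 × Fin 3) F
local notation "M9" => Matrix (Fin 3 × Fin 3) (Fin 3 × Fin 3) F
local notation "V2" => (Fin 2 → ZMod 3)
local notation "S2" => Matrix (Fin 2) (Fin 2) (ZMod 3)

theorem shr_conj_cyc : shr (cyc : G3) * kr (1, cyc) * (shr cyc)⁻¹ = kr ((cyc : G3), cyc) := by
  have hc3 := cyc_pow_three (F := F)
  rw [show kr ((cyc : G3), cyc) = kr (cyc, 1) * kr (1, cyc) by rw [kr_mul, mul_one, one_mul]]
  rw [shr, mul_assoc, ← map_inv,
    show kr (1, (cyc : G3)) * blk (fun a : Fin 3 => cyc ^ (a : ℕ))⁻¹ =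
      blk (fun a : Fin 3 => ((cyc : G3) ^ ((a - 1 : Fin 3) : ℕ))⁻¹) * kr (1, cyc) by
      rw [← mul_inv_eq_iff_eq_mul]; exact shift_blk _,
    ← mul_assoc, ← map_mul, ← blk_const]
  congr 2
  funext a
  rw [Pi.mul_apply, mul_inv_eq_iff_eq_mul, ← pow_succ']
  fin_cases a
  · show (cyc : G3) ^ 0 = cyc ^ 3
    rw [hc3, pow_zero]
  · rfl
  · rfl

/-- Reducible to the distinguished element. -/
def Red (w : Fˣ) (K : Subgroup (GL (Fin 3 × Fin 3) F)) (x : GL (Fin 3 × Fin 3) F) : Prop :=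
  ∃ n ∈ K, n ∈ Subgroup.normalizer (std9 w : Set (GL (Fin 3 × Fin 3) F)) ∧ ∃ z : F,
    ((n * x * n⁻¹ : GL (Fin 3 × Fin 3) F) : Matrix (Fin 3 × Fin 3) (Fin 3 × Fin 3) F) =
      z • ((kr (1, dia (A w)) : GL (Fin 3 × Fin 3) F) : Matrix (Fin 3 × Fin 3) (Fin 3 × Fin 3) F)

theorem Red.conj {K : Subgroup G9} {x m : G9} (hm : m ∈ K)
    (hmn : m ∈ Subgroup.normalizer (std9 w : Set G9)) (h : Red w K (m * x * m⁻¹)) : Red w K x := by
  obtain ⟨n, hn, hnn, z, hz⟩ := h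
  refine ⟨n * m, mul_mem hn hm, mul_mem hnn hmn, z, ?_⟩
  rw [← hz]
  congr 1
  group

theorem Red.smul {K : Subgroup G9} {x y : G9} {c : F} (e : (y : M9) = c • (x : M9)) (h : Red w K x) : Red w K y := by
  obtain ⟨n, hn, hnn, z, hz⟩ := h
  refine ⟨n, hn, hnn, c * z, ?_⟩
  rw [Units.val_mul, Units.val_mul, e, Matrix.mul_smul, Matrix.smul_mul, ← Units.val_mul, ← Units.val_mul, hz,
    smul_smul]

theorem kr_of_pr {r r' s s' : G3} (hr : pr r = pr r') (hs : pr s = pr s') :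
    ∃ z : F, ((kr (r, s) : G9) : M9) = z • ((kr (r', s') : G9) : M9) := by
  obtain ⟨a, ha⟩ := pr_eq_pr.1 hr
  obtain ⟨b, hb⟩ := pr_eq_pr.1 hs
  refine ⟨a * b, ?_⟩
  rw [coe_kr, coe_kr, ha, hb, Matrix.smul_kronecker, Matrix.kronecker_smul, smul_smul]

variable [Fintype F] {p : ℕ} {K : Subgroup (GL (Fin 3 × Fin 3) F)}

theorem Over.red_mv (O : Over w p K) {u v : V2} (h : u ≠ 0 ∨ v ≠ 0) : Red w K (kr (mv w u, mv w v)) := by
  haveI : Finite (GL (Fin 3) F) := Finite.of_injective _ Units.val_injective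
  have hsw : ∀ {u v : V2}, Red w K (kr (mv w v, mv w u)) → Red w K (kr (mv w u, mv w v)) := fun h =>
    Red.conj (O.above _ sw_mem_normalizer det_sw) sw_mem_normalizer (by rwa [sw_inv, sw_kr])
  have hleft : ∀ {M : S2}, M.det = 1 → ∀ {u v : V2}, Red w K (kr (mv w (M *ᵥ u), mv w v)) →
      Red w K (kr (mv w u, mv w v)) := fun {M} hM {u v} hr => by
    obtain ⟨g, hg, hA⟩ := exists_lift O.hw O.hw1 hM
    refine Red.conj (O.ov.kr_lift hg) (kr_mem_normalizer (hA.mem_normalizer O.hw O.hw1) (one_mem _)) ?_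
    rw [kr_conj, one_mul, inv_one, mul_one]
    obtain ⟨z, hz⟩ := kr_of_pr (s := mv w v) (s' := mv w v)
      (show pr (g * mv w u * g⁻¹) = pr (mv w (M *ᵥ u)) by rw [map_mul, map_mul, map_inv, hA]) rfl
    exact hr.smul hz
  have hbase : Red w K (kr (mv w 0, mv w ![1, 0])) := by
    rw [mv_zero, mv_e0]
    exact ⟨1, one_mem _, one_mem _, 1, by simp⟩
  have hone : ∀ {u : V2}, u ≠ 0 → Red w K (kr (mv w u, mv w 0)) := fun {u} hu => by
    obtain ⟨M, hM, e⟩ := (show ∀ v : V2, v ≠ 0 → ∃ M : S2, M.det = 1 ∧ M *ᵥ v = ![1, 0] by decide +kernel) u hu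
    exact hleft hM (by rw [e]; exact hsw hbase)
  rcases eq_or_ne u 0 with rfl | hu
  · exact hsw (hone (h.resolve_left fun e => e rfl))
  rcases eq_or_ne v 0 with rfl | hv
  · exact hone hu
  obtain ⟨M, hM, e⟩ := (show ∀ v : V2, v ≠ 0 → ∃ M : S2, M.det = 1 ∧ M *ᵥ v = ![0, 1] by decide +kernel) u hu
  obtain ⟨M', hM', e'⟩ := (show ∀ v : V2, v ≠ 0 → ∃ M : S2, M.det = 1 ∧ M *ᵥ v = ![0, 1] by decide +kernel) v hv
  refine hleft hM ?_
  rw [e]
  refine hsw (hleft hM' ?_)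
  rw [e', mv_e1]
  refine Red.conj (inv_mem (O.above _ (shr_mem_normalizer O.hw O.hw1) det_shr_cyc))
    (inv_mem (shr_mem_normalizer O.hw O.hw1)) ?_
  rw [← shr_conj_cyc, show ∀ a b : G9, a⁻¹ * (a * b * a⁻¹) * a⁻¹⁻¹ = b from fun a b => by group]
  have := hsw (hone (show (![0, 1] : V2) ≠ 0 by decide))
  rwa [mv_zero, mv_e1] at this

/-- The centralisers of non-scalar standard elements normalise. -/
theorem Over.mem_of_commute (O : Over w p K) {x : G9} (hx : x ∈ std9 w) (hns : ∀ z : F, (x : M9) ≠ z • 1) {g : G9}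
    (hg : g ∈ K) (hgx : g * x = x * g) : g ∈ Subgroup.normalizer (std9 w : Set G9) := by
  obtain ⟨⟨r, s⟩, ⟨hr, hs⟩, rfl⟩ := hx
  obtain ⟨u, hu⟩ := exists_mv O.hw O.hw1 hr
  obtain ⟨v, hv⟩ := exists_mv O.hw O.hw1 hs
  obtain ⟨c, hc⟩ := kr_of_pr hu hv
  have huv : u ≠ 0 ∨ v ≠ 0 := by
    by_contra hcon
    push Not at hcon
    refine hns c ?_
    rw [hc, hcon.1, hcon.2, mv_zero, coe_kr, Units.val_one, Matrix.one_kronecker_one]
  obtain ⟨n, hnK, hnN, z, hz⟩ := (O.red_mv huv).smul hc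
  have hz0 : z ≠ 0 := fun e => (n * kr (r, s) * n⁻¹).ne_zero (by rw [hz, e, zero_smul])
  have hcomm : n * g * n⁻¹ * kr (1, dia (A w)) = kr (1, dia (A w)) * (n * g * n⁻¹) := by
    refine Units.ext (smul_right_injective M9 hz0 ?_)
    show z • _ = z • _
    rw [Units.val_mul, Units.val_mul (kr (1, dia (A w))), ← Matrix.mul_smul, ← Matrix.smul_mul, ← hz, ← Units.val_mul,
      ← Units.val_mul]
    congr 1
    calc n * g * n⁻¹ * (n * kr (r, s) * n⁻¹) = n * (g * kr (r, s)) * n⁻¹ := by group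
      _ = _ := by rw [hgx]; group
  have := mul_mem (mul_mem (inv_mem hnN) (O.mem_normalizer_of_commute (mul_mem (mul_mem hnK hg) (inv_mem hnK)) hcomm)) hnN
  rwa [show n⁻¹ * (n * g * n⁻¹) * n = g by group] at this

end Cfsg.Agent.Classical.LinNine
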