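import Cfsg.Agent.Lib.Classical.LinNine.Small
import Cfsg.Agent.Lib.Classical.SLThree.Hessian

/-!
Degree three over a prime field: a group above the standard group of order 27 and its quaternion group either
normalises the standard group or contains the special linear group.
-/

set_option autoImplicit false
set_option linter.unusedSectionVars false

namespace Cfsg.Agent.Classical.LinNine

open Matrix MaxTv HeisenbergThree SLThree SLThree.Hessian

universe u

variable {F : Type u} [Field F] {w : Fˣ}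

local notation "G3" => GL (Fin 3) F
local notation "M3" => Matrix (Fin 3) (Fin 3) F
local notation "V2" => (Fin 2 → ZMod 3)
local notation "S2" => Matrix (Fin 2) (Fin 2) (ZMod 3)

theorem det_dia_A (hw : w ^ 3 = 1) (hw1 : w ≠ 1) : ((dia (A w) : G3) : M3).det = 1 := by
  rw [coe_dia, Matrix.det_diagonal, Fin.prod_univ_three]
  simp [A]
  linear_combination (sum_pow hw hw1).1

theorem det_cyc : ((cyc : G3) : M3).det = 1 := by simp [coe_cyc, Matrix.det_fin_three]

theorem mem_sl {ι : Type} [Fintype ι] [DecidableEq ι] (s : GL ι F) :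
    s ∈ Geo.specialLinear ι F ↔ (s : Matrix ι ι F).det = 1 :=
  ⟨fun h => congrArg Units.val (MonoidHom.mem_ker.1 h), fun h => MonoidHom.mem_ker.2 (Units.ext h)⟩

theorem irr_of_gen (h3 : (3 : F) ≠ 0) (hw : w ^ 3 = 1) (hw1 : w ≠ 1) {Y : Subgroup G3} (hA : dia (A w) ∈ Y)
    (hc : cyc ∈ Y) : Irr Y := by
  intro W hW
  rcases eq_or_ne W ⊥ with hb | hb
  · exact Or.inl hb
  refine Or.inr ?_
  obtain ⟨v, hv, hv0⟩ := Submodule.exists_mem_ne_zero_of_ne_bot hb
  have hmv : ∀ g ∈ Y, ∀ x ∈ W, (g : M3) *ᵥ x ∈ W := fun g hg x hx =>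
    hW _ ⟨g, hg, rfl⟩ ⟨x, hx, Matrix.toLin'_apply _ _⟩
  obtain ⟨k, hk⟩ : ∃ k, v k ≠ 0 := Function.ne_iff.1 hv0
  obtain ⟨hw3, hsum⟩ := sum_pow hw hw1
  have h1 := hmv _ hA _ hv
  have h2 := hmv _ hA _ h1
  have hcoord : ∀ (x : Fin 3 → F) (i : Fin 3), (((dia (A w) : G3) : M3) *ᵥ x) i = (w : F) ^ (i : ℕ) * x i := fun x i => by
    rw [coe_dia, Matrix.mulVec_diagonal, A, Units.val_pow_eq_pow_val]
  have hs : (Pi.single k 1 : Fin 3 → F) ∈ W := by
    have hu := W.smul_mem ((3 * v k)⁻¹) (W.add_mem (W.add_mem hv (W.smul_mem ((w : F) ^ (2 * (k : ℕ))) h1))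
      (W.smul_mem ((w : F) ^ (k : ℕ)) h2))
    convert hu using 1
    funext i
    simp only [Pi.smul_apply, Pi.add_apply, smul_eq_mul, hcoord]
    rcases eq_or_ne i k with rfl | hik
    · have e : ((w : F) ^ (i : ℕ)) ^ 3 = 1 := by rw [← pow_mul, mul_comm, pow_mul, hw3, one_pow]
      have e2 : (w : F) ^ (2 * (i : ℕ)) = ((w : F) ^ (i : ℕ)) ^ 2 := by rw [← pow_mul, mul_comm]
      rw [Pi.single_eq_same, e2]
      generalize (w : F) ^ (i : ℕ) = a at e ⊢
      rw [show v i + a ^ 2 * (a * v i) + a * (a * (a * v i)) = 3 * v i by linear_combination (2 * v i) * e,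
        inv_mul_cancel₀ (mul_ne_zero h3 hk)]
    · rw [Pi.single_eq_of_ne hik]
      refine (mul_eq_zero_of_right _ ?_).symm
      fin_cases i <;> fin_cases k <;> first
        | exact absurd rfl hik
        | (simp; grind)
  have hall : ∀ n : Fin 3, (Pi.single n 1 : Fin 3 → F) ∈ W := by
    have hstep : ∀ n : Fin 3, (Pi.single n 1 : Fin 3 → F) ∈ W → (Pi.single (n + 1) 1 : Fin 3 → F) ∈ W := fun n hn => by
      have := hmv _ hc _ hn
      convert this using 1
      funext i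
      rw [Matrix.mulVec_single_one, Matrix.col_apply, cyc_apply, Pi.single_apply]
    intro n
    have e0 := hstep _ hs
    have e1 := hstep _ e0
    rcases (show ∀ n k : Fin 3, n = k ∨ n = k + 1 ∨ n = k + 1 + 1 by decide) n k with rfl | rfl | rfl <;> assumption
  refine eq_top_iff.2 fun x _ => ?_
  rw [pi_eq_sum_univ' x]
  exact W.sum_mem fun i _ => W.smul_mem _ (hall i)

/-- Normalisation or everything. -/
theorem acts_or_sl [Fintype F] {p : ℕ} (hp : p.Prime) (hF : Fintype.card F = p) (hd : 3 ∣ p - 1)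
    (hw : w ^ 3 = 1) (hw1 : w ≠ 1) {Γ : Subgroup G3} (mA : dia (A w) ∈ Γ) (mC : cyc ∈ Γ)
    (mJ : (negSwap : G3) ∈ Γ) (mf : four hw hw1 ∈ Γ) (mf' : four' hw hw1 ∈ Γ) :
    (∀ g ∈ Γ, ∃ M : S2, Acts w g M) ∨ Geo.specialLinear (Fin 3) F ≤ Γ := by
  classical
  haveI : Finite (GL (Fin 3) F) := Finite.of_injective _ Units.val_injective
  haveI : Fact p.Prime := ⟨hp⟩
  haveI : CharP F p := charP_of_card_eq_prime hF
  have h3 : (3 : F) ≠ 0 := fun e => by
    have h := (Nat.prime_dvd_prime_iff_eq hp Nat.prime_three).1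
      ((CharP.cast_eq_zero_iff F p 3).1 (by exact_mod_cast e))
    rw [h] at hd
    norm_num at hd
  obtain ⟨X, hX⟩ : ∃ X, X = Γ ⊓ Geo.specialLinear (Fin 3) F := ⟨_, rfl⟩
  have hmem : ∀ {s : G3}, s ∈ Γ → (s : M3).det = 1 → s ∈ X := fun hs hd => hX ▸ ⟨hs, (mem_sl _).2 hd⟩
  by_cases hN : X ≤ Subgroup.normalizer (std w : Set G3)
  · refine Or.inl fun g hg => exists_acts hw hw1 (mem_normalizer_of_gen (S := {dia (A w), cyc}) rfl ?_)
    have key : ∀ s : G3, s ∈ Γ → (s : M3).det = 1 → pr s ^ 3 = 1 →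
        pr negSwap * pr s * (pr negSwap)⁻¹ = pr s ^ 2 → g * s * g⁻¹ ∈ std w := by
      intro s hs hsd hs3 hJs
      have hc : ∀ {x : G3}, x ∈ Γ → (x : M3).det = 1 → ∃ M : S2, Acts w (g * x * g⁻¹) M := fun hx hxd =>
        exists_acts hw hw1 (hN (hmem (mul_mem (mul_mem hg hx) (inv_mem hg))
          (by rw [Units.val_mul, Units.val_mul, Matrix.det_units_conj, hxd])))
      obtain ⟨a, ha⟩ := hc hs hsd
      obtain ⟨h, hh⟩ := hc mJ det_negSwap
      have one : Acts w (1 : G3) (1 : S2) := acts_of_pr hw hw1 (v := 0) (by rw [mv_zero])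
      have hh2 : h * h = 1 := (hh.mul hw hw1 hh).unique hw hw1 (one.of_pr_eq hw hw1 (by
        rw [conj_mul, negSwap_mul_self, mul_one, mul_inv_cancel]))
      have ha3 : a * a * a = 1 := ((ha.mul hw hw1 ha).mul hw hw1 ha).unique hw hw1 (one.of_pr_eq hw hw1 (by
        rw [conj_mul, conj_mul, map_mul, map_mul, map_mul, map_mul, ← pow_two, ← pow_succ, hs3, mul_one, map_inv,
          mul_inv_cancel, map_one]))
      have hrel : h * a = a * a * h := (hh.mul hw hw1 ha).unique hw hw1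
        (((ha.mul hw hw1 ha).mul hw hw1 hh).of_pr_eq hw hw1 (by
          rw [mul_inv_eq_iff_eq_mul] at hJs
          simp only [map_mul, map_inv]
          rw [conj_mul, conj_mul, conj_mul, ← pow_two, hJs]))
      have hsq : a = a * a := by
        rcases (show ∀ h : S2, h.det = 1 → h * h = 1 → h = 1 ∨ h = -1 by decide +kernel) h (hh.det hw hw1) hh2 with
          rfl | rfl
        · simpa using hrel
        · simpa using hrel
      rw [← hsq, ← hsq] at ha3
      rw [ha3] at ha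
      obtain ⟨v, hv⟩ := exists_mv_of_acts_one hw hw1 ha
      exact mem_std_of_pr hw hw1 (by rw [Units.val_mul, Units.val_mul, Matrix.det_units_conj, hsd]) hv
    obtain ⟨ha3, hb3⟩ := pr_pow_three (F := F) hw hw1
    obtain ⟨hna, hnb⟩ := neg_conj (F := F) hw hw1
    rintro s (rfl | rfl)
    exacts [key _ mA (det_dia_A hw hw1) ha3 hna, key _ mC det_cyc hb3 hnb]
  by_cases htv : ∃ v φ : Fin 3 → F, v ≠ 0 ∧ φ ≠ 0 ∧ φ ⬝ᵥ v = 0 ∧ MaxTv.InT X v φ
  · obtain ⟨v, φ, hv, hφ, hvφ, hT⟩ := htv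
    exact Or.inr ((specialLinear_le_of_root
      (irr_of_gen h3 hw hw1 (hmem mA (det_dia_A hw hw1)) (hmem mC det_cyc)) hv hφ hvφ
      (inR_of_prime (by rw [Nat.card_eq_fintype_card, hF]; exact hp) hvφ hT)).trans (hX ▸ inf_le_left))
  push Not at htv
  exfalso
  refine (show Std X w p from ⟨hw, hw1, hp, hF, hd, fun s hs => ?_, fun v φ hv hφ hvφ hT => htv v φ hv hφ hvφ hT,
    hmem mA (det_dia_A hw hw1), hmem mC det_cyc, hmem mJ det_negSwap, hmem mf (det_four hw hw1),
    hmem mf' (det_four' hw hw1), ?_⟩).false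
  · rw [hX] at hs
    exact (mem_sl _).1 hs.2
  · rw [SetLike.not_le_iff_exists] at hN
    exact hN

end Cfsg.Agent.Classical.LinNine
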