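import Cfsg.Agent.Lib.Grp.CoprimeAbelian

/-!
An elementary abelian group of order nine acting on a finite group with all fixed points in a small subgroup.
-/

set_option autoImplicit false
set_option linter.unusedSectionVars false

namespace Cfsg.Agent.Classical.LinNine

universe u

variable {G : Type u} [Group G] [Finite G]

/-- A free action divides. -/
theorem dvd_card_of_free {A α : Type*} [Group A] [MulAction A α] [Finite A] [Finite α]
    (h : ∀ (a : A) (x : α), a • x = x → a = 1) : Nat.card A ∣ Nat.card α := by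
  have hs : ∀ x : α, MulAction.stabilizer A x = ⊥ := fun x => (Subgroup.eq_bot_iff_forall _).2 fun a ha => h a x ha
  exact ⟨_, by rw [Nat.card_congr (MulAction.selfEquivOrbitsQuotientProd hs), Nat.card_prod, mul_comm]⟩

/-- The data. -/
structure Op (A Q Q0 : Subgroup G) : Prop where
  card : Nat.card A = 9
  noncyclic : ¬ IsCyclic A
  comm : IsMulCommutative A
  norm : A ≤ Subgroup.normalizer (Q : Set G)
  le : Q0 ≤ Q
  fixed : ∀ a ∈ A, a ≠ 1 → ∀ q ∈ Q, q * a = a * q → q ∈ Q0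
  cent : ∀ a ∈ A, ∀ q ∈ Q0, a * q = q * a
  nine : ¬ 9 ∣ Nat.card Q0
  nonreal : ∀ x ∈ Q0, ∀ π ∈ Q0, π ^ 3 = 1 → x * π * x⁻¹ = π⁻¹ → π = 1

variable {A Q Q0 : Subgroup G}

theorem Op.le_of_coprime (O : Op A Q Q0) {D : Subgroup G} (hD : D ≤ Q) (hA : A ≤ Subgroup.normalizer (D : Set G))
    (h3 : ¬ 3 ∣ Nat.card D) : D ≤ Q0 := by
  haveI := O.comm
  have hcop : (Nat.card A).Coprime (Nat.card D) := by
    rw [O.card, show (9 : ℕ) = 3 ^ 2 from rfl]
    exact Nat.Coprime.pow_left 2 ((Nat.prime_three.coprime_iff_not_dvd).2 h3)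
  rw [← Cfsg.Agent.Grp.generated_by_centralizers A D O.noncyclic hA hcop]
  refine iSup₂_le fun a ha q hq => ?_
  exact O.fixed a ha.1 ha.2 q (hD hq.1) (Subgroup.mem_centralizer_singleton_iff.1 hq.2)

theorem Op.congr_nine (O : Op A Q Q0) : 9 ∣ Nat.card {q : G // q ∈ Q ∧ q ∉ Q0} := by
  let S := {q : G // q ∈ Q ∧ q ∉ Q0}
  letI : MulAction A S :=
    { smul := fun a q => ⟨(a : G) * q.1 * (a : G)⁻¹, ((Subgroup.mem_normalizer_iff.1 (O.norm a.2) q.1).1 q.2.1),
        fun hq => q.2.2 (by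
          have e := O.cent _ a.2 _ hq
          have e2 : q.1 = (a : G)⁻¹ * ((a : G) * q.1 * (a : G)⁻¹) * a := by group
          rw [e2, mul_assoc, ← e, ← mul_assoc, inv_mul_cancel, one_mul]
          exact hq)⟩
      one_smul := fun q => Subtype.ext (by show (1 : G) * q.1 * (1 : G)⁻¹ = q.1; group)
      mul_smul := fun a b q => Subtype.ext (by
        show ((a : G) * b) * q.1 * ((a : G) * b)⁻¹ = (a : G) * ((b : G) * q.1 * (b : G)⁻¹) * (a : G)⁻¹; group) }
  rw [← O.card]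
  refine dvd_card_of_free (A := A) (α := S) fun a q e => by_contra fun ha => q.2.2 ?_
  have e' : (a : G) * q.1 * (a : G)⁻¹ = q.1 := congrArg Subtype.val e
  exact O.fixed a a.2 (fun h => ha (Subtype.ext h)) _ q.2.1 (mul_inv_eq_iff_eq_mul.1 e').symm

theorem Op.card_mod (O : Op A Q Q0) : Nat.card Q % 9 = Nat.card Q0 % 9 := by
  classical
  have e : Nat.card Q = Nat.card Q0 + Nat.card {q : G // q ∈ Q ∧ q ∉ Q0} := by
    rw [← Nat.card_congr (Equiv.sumCompl fun q : Q => (q : G) ∈ Q0), Nat.card_sum]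
    congr 1
    · exact Nat.card_congr ((Equiv.subtypeSubtypeEquivSubtype (fun {x} h => O.le h)).trans (Equiv.refl _))
    · exact Nat.card_congr (Equiv.subtypeSubtypeEquivSubtypeInter (fun x => x ∈ Q) (fun x => x ∉ Q0))
  obtain ⟨k, hk⟩ := O.congr_nine
  rw [e, hk, Nat.add_mul_mod_self_left]

/-- A subgroup with a central Sylow normaliser. -/
theorem Op.le_of_transfer (O : Op A Q Q0) {D : Subgroup G} (hD : D ≤ Q) (hA : A ≤ Subgroup.normalizer (D : Set G))
    {π : G} (hπ : π ∈ Q0) (hπD : π ∈ D) (hπ3 : orderOf π = 3) (h9 : ¬ 9 ∣ Nat.card D)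
    (hN : ∀ x ∈ D, x * π * x⁻¹ ∈ Subgroup.zpowers π → x * π = π * x) : D ≤ Q0 := by
  classical
  haveI : Fact (Nat.Prime 3) := ⟨Nat.prime_three⟩
  obtain ⟨π', hπ'⟩ : ∃ π' : D, (π' : G) = π := ⟨⟨π, hπD⟩, rfl⟩
  have ho : orderOf π' = 3 := by rw [← hπ3, ← hπ', Subgroup.orderOf_coe]
  have hf : (Nat.card D).factorization 3 = 1 := by
    have h3 : 3 ∣ Nat.card D := ho ▸ orderOf_dvd_natCard π'
    have h1 := Nat.Prime.factorization_pos_of_dvd Nat.prime_three Nat.card_pos.ne' h3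
    have h2 : ¬ 2 ≤ (Nat.card D).factorization 3 := fun h2 => h9 (by
      rw [show (9 : ℕ) = 3 ^ 2 from rfl]
      exact (Nat.prime_three.pow_dvd_iff_le_factorization Nat.card_pos.ne').2 h2)
    omega
  let P : Sylow 3 D := Sylow.ofCard (Subgroup.zpowers π') (by rw [Nat.card_zpowers, ho, hf, pow_one])
  have hPc : (P : Subgroup D) = Subgroup.zpowers π' := rfl
  have hle : Subgroup.normalizer ((P : Subgroup D) : Set D) ≤ Subgroup.centralizer ((P : Subgroup D) : Set D) := by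
    intro x hx
    have h1 : x * π' * x⁻¹ ∈ Subgroup.zpowers π' := by
      rw [← hPc]; exact (Subgroup.mem_normalizer_iff.1 hx π').1 (by rw [hPc]; exact Subgroup.mem_zpowers π')
    have h2 : x * π' = π' * x := Subtype.ext (by
      obtain ⟨n, hn⟩ := h1
      have h3 := hN x x.2 ⟨n, by
        have := congrArg Subtype.val hn
        simpa [hπ'] using this⟩
      simpa [hπ'] using h3)
    rw [Subgroup.mem_centralizer_iff]
    intro y hy
    rw [hPc] at hy
    obtain ⟨n, rfl⟩ := hy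
    exact (Commute.zpow_left (show Commute π' x from h2.symm) n).eq
  obtain ⟨T, hT⟩ : ∃ T, T = (MonoidHom.transferSylow P hle).ker := ⟨_, rfl⟩
  have hcompl := MonoidHom.ker_transferSylow_isComplement' P hle
  have hnd : ¬ 3 ∣ Nat.card T := hT ▸ MonoidHom.not_dvd_card_ker_transferSylow P hle
  have hchar : ∀ d : D, d ^ Nat.card T = 1 → d ∈ T := fun d hd => by
    rw [hT, MonoidHom.mem_ker]
    obtain ⟨y, hy⟩ : ∃ y, y = MonoidHom.transferSylow P hle d := ⟨_, rfl⟩
    rw [← hy]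
    have h1 : y ^ Nat.card T = 1 := by rw [hy, ← map_pow, hd, map_one]
    have h2 : orderOf y ∣ 3 := by
      have := orderOf_dvd_natCard y
      rwa [show Nat.card (P : Subgroup D) = 3 by rw [hPc, Nat.card_zpowers, ho]] at this
    rcases (Nat.dvd_prime Nat.prime_three).1 h2 with h | h
    · exact orderOf_eq_one_iff.1 h
    · exact absurd (h ▸ orderOf_dvd_of_pow_eq_one h1) hnd
  have hTQ : T.map D.subtype ≤ Q0 := by
    refine O.le_of_coprime ((Subgroup.map_subtype_le T).trans hD) (fun a ha => ?_) (by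
      rwa [Subgroup.card_map_of_injective D.subtype_injective])
    have key : ∀ b ∈ A, ∀ x ∈ T.map D.subtype, b * x * b⁻¹ ∈ T.map D.subtype := by
      rintro b hb _ ⟨t, ht, rfl⟩
      have hm : b * (t : G) * b⁻¹ ∈ D := (Subgroup.mem_normalizer_iff.1 (hA hb) _).1 t.2
      refine ⟨⟨_, hm⟩, hchar _ (Subtype.ext ?_), rfl⟩
      have h1 : (t : G) ^ Nat.card T = 1 := by
        have h0 : t ^ Nat.card T = 1 := by
          have := congrArg Subtype.val (pow_card_eq_one' (x := (⟨t, ht⟩ : T)))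
          rwa [SubmonoidClass.coe_pow] at this
        rw [← SubmonoidClass.coe_pow, h0, OneMemClass.coe_one]
      show (b * (t : G) * b⁻¹) ^ Nat.card T = 1
      rw [conj_pow, h1, mul_one, mul_inv_cancel]
    refine Subgroup.mem_normalizer_iff.2 fun x => ⟨key a ha x, fun hx => ?_⟩
    have := key a⁻¹ (inv_mem ha) _ hx
    simpa [mul_assoc] using this
  intro d hd
  obtain ⟨⟨t, q⟩, e⟩ := hcompl.2 ⟨d, hd⟩
  have hq : ((q : D) : G) ∈ Q0 := by
    have hqP : (q : D) ∈ Subgroup.zpowers π' := hPc ▸ q.2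
    obtain ⟨n, hn⟩ := hqP
    rw [← hn]
    simpa [hπ'] using zpow_mem hπ n
  have := mul_mem (hTQ ⟨(t : D), hT ▸ t.2, rfl⟩) hq
  have e' := congrArg Subtype.val e
  simp only [Subgroup.coe_mul] at e'
  rw [← e']
  exact this

/-- The group is the small one. -/
theorem Op.eq (O : Op A Q Q0) : Q ≤ Q0 := by
  classical
  haveI : Fact (Nat.Prime 3) := ⟨Nat.prime_three⟩
  by_cases h3 : 3 ∣ Nat.card Q
  swap
  · exact O.le_of_coprime le_rfl O.norm h3
  have hmod := O.card_mod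
  have h9 : ¬ 9 ∣ Nat.card Q := fun h => O.nine (by omega)
  have h30 : 3 ∣ Nat.card Q0 := by omega
  obtain ⟨π', hπ'⟩ := exists_prime_orderOf_dvd_card' 3 h30
  obtain ⟨π, hπe⟩ : ∃ π : G, π = π' := ⟨_, rfl⟩
  have hπ : π ∈ Q0 := hπe ▸ π'.2
  have ho : orderOf π = 3 := by rw [hπe, Subgroup.orderOf_coe, hπ']
  have hπ3 : π ^ 3 = 1 := ho ▸ pow_orderOf_eq_one π
  -- the centraliser of the element of order three
  obtain ⟨D, hDd⟩ : ∃ D, D = Q ⊓ Subgroup.centralizer {π} := ⟨_, rfl⟩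
  have hmD : ∀ x, x ∈ D ↔ x ∈ Q ∧ x * π = π * x := fun x => by
    rw [hDd, Subgroup.mem_inf, Subgroup.mem_centralizer_singleton_iff]
  have hAD : A ≤ Subgroup.normalizer (D : Set G) := by
    have key : ∀ b ∈ A, ∀ x ∈ D, b * x * b⁻¹ ∈ D := fun b hb x hx => by
      rw [hmD] at hx ⊢
      refine ⟨(Subgroup.mem_normalizer_iff.1 (O.norm hb) x).1 hx.1, ?_⟩
      have e := O.cent b hb π hπ
      have e' : b⁻¹ * π = π * b⁻¹ := (show Commute b π from e).inv_left.eq
      calc b * x * b⁻¹ * π = b * (x * π) * b⁻¹ := by rw [mul_assoc _ _ π, e']; group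
        _ = b * π * x * b⁻¹ := by rw [hx.2]; group
        _ = _ := by rw [e]; group
    intro a ha
    refine Subgroup.mem_normalizer_iff.2 fun x => ⟨key a ha x, fun hx => ?_⟩
    have := key a⁻¹ (inv_mem ha) _ hx
    simpa [mul_assoc] using this
  have hD9 : ¬ 9 ∣ Nat.card D := fun h => h9 (h.trans (Subgroup.card_dvd_of_le (hDd ▸ inf_le_left)))
  have hDQ : D ≤ Q0 := O.le_of_transfer (hDd ▸ inf_le_left) hAD hπ ((hmD π).2 ⟨O.le hπ, rfl⟩) ho hD9
    fun x hx _ => ((hmD x).1 hx).2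
  refine O.le_of_transfer le_rfl O.norm hπ (O.le hπ) ho h9 fun x hx hz => ?_
  have hcase : x * π * x⁻¹ = π ∨ x * π * x⁻¹ = π⁻¹ := by
    obtain ⟨n, hn⟩ := hz
    have hn' : x * π * x⁻¹ = π ^ (n % (3 : ℤ)) :=
      hn.symm.trans ((by rw [← zpow_mod_orderOf, ho]; rfl) : π ^ n = π ^ (n % (3 : ℤ)))
    rcases (show n % 3 = 0 ∨ n % 3 = 1 ∨ n % 3 = 2 by omega) with h | h | h <;> rw [h] at hn'
    · exfalso
      rw [zpow_zero, mul_inv_eq_one, mul_eq_left] at hn'
      rw [hn', orderOf_one] at ho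
      omega
    · exact Or.inl (by rw [hn', zpow_one])
    · refine Or.inr (hn'.trans ?_)
      rw [show (2 : ℤ) = ((2 : ℕ) : ℤ) from rfl, zpow_natCast, eq_inv_iff_mul_eq_one, ← pow_succ, hπ3]
  rcases hcase with h | h
  · exact mul_inv_eq_iff_eq_mul.1 h
  exfalso
  have hxQ0 : x ∉ Q0 := fun hx0 => by
    have := O.nonreal x hx0 π hπ hπ3 h
    rw [this, orderOf_one] at ho
    omega
  -- the operators move the element inside the centraliser
  have hd : ∀ a : A, x⁻¹ * ((a : G) * x * (a : G)⁻¹) ∈ Q0 := fun a => by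
    refine hDQ ((hmD _).2 ⟨mul_mem (inv_mem hx) ((Subgroup.mem_normalizer_iff.1 (O.norm a.2) x).1 hx), ?_⟩)
    have e := O.cent _ a.2 π hπ
    have e' : (a : G)⁻¹ * π = π * (a : G)⁻¹ := (show Commute (a : G) π from e).inv_left.eq
    have h' : x * π = π⁻¹ * x := mul_inv_eq_iff_eq_mul.1 h
    have h'' : x⁻¹ * π⁻¹ = π * x⁻¹ := by
      rw [inv_mul_eq_iff_eq_mul, ← mul_assoc, h', mul_inv_cancel_right]
    have e'' : (a : G) * π⁻¹ = π⁻¹ * a := (show Commute (a : G) π from e).inv_right.eq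
    calc x⁻¹ * ((a : G) * x * (a : G)⁻¹) * π = x⁻¹ * ((a : G) * (x * π) * (a : G)⁻¹) := by
          rw [mul_assoc _ _ π, mul_assoc _ _ π, e']; group
      _ = x⁻¹ * ((a : G) * π⁻¹ * x * (a : G)⁻¹) := by rw [h']; group
      _ = x⁻¹ * π⁻¹ * ((a : G) * x * (a : G)⁻¹) := by rw [e'']; group
      _ = _ := by rw [h'']; group
  let f : A →* Q0 := MonoidHom.mk' (fun a => ⟨_, hd a⟩) fun a b => Subtype.ext (by
    have e := O.cent _ a.2 _ (hd b)
    show x⁻¹ * (((a * b : A) : G) * x * ((a * b : A) : G)⁻¹) =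
      x⁻¹ * ((a : G) * x * (a : G)⁻¹) * (x⁻¹ * ((b : G) * x * (b : G)⁻¹))
    rw [Subgroup.coe_mul]
    calc x⁻¹ * ((a : G) * b * x * ((a : G) * b)⁻¹)
        = x⁻¹ * (a : G) * x * (x⁻¹ * ((b : G) * x * (b : G)⁻¹)) * (a : G)⁻¹ := by group
      _ = x⁻¹ * ((a : G) * x * (a : G)⁻¹) * ((a : G) * (x⁻¹ * ((b : G) * x * (b : G)⁻¹))) * (a : G)⁻¹ := by group
      _ = _ := by rw [e]; group)
  have hf : Function.Injective f := (injective_iff_map_eq_one f).2 fun a ha => by_contra fun hne => hxQ0 (by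
    have h1 : x⁻¹ * ((a : G) * x * (a : G)⁻¹) = 1 := congrArg Subtype.val ha
    rw [inv_mul_eq_one] at h1
    exact O.fixed a a.2 (fun e => hne (Subtype.ext e)) x hx (mul_inv_eq_iff_eq_mul.1 h1.symm).symm)
  exact O.nine (O.card ▸ Subgroup.card_dvd_of_injective f hf)

end Cfsg.Agent.Classical.LinNine
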