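import Cfsg.Agent.Lib.Classical.LinNine.Main
import Cfsg.Agent.Lib.Classical.AschSLProper

/-!
Degree nine: every absolutely irreducible group of symplectic type of exponent three is the standard one in some
basis; its normaliser is maximal in the special linear group over a prime field.
-/

set_option autoImplicit false
set_option linter.unusedSectionVars false
set_option maxHeartbeats 1000000

namespace Cfsg.Agent.Classical.LinNine

open Matrix HeisenbergThree SLThree.Hessian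
open scoped commutatorElement

universe u

variable {F : Type u} [Field F]

local notation "I9" => (Fin 3 × Fin 3)
local notation "G9" => GL (Fin 3 × Fin 3) F
local notation "GN" => GL (Fin 9) F
local notation "MN" => Matrix (Fin 9) (Fin 9) F
local notation "V" => (Fin 9 → F)

/-- The scalar. -/
def sc (t : Fˣ) : GL (Fin 9) F := Matrix.GeneralLinearGroup.scalar (Fin 9) t

theorem coe_sc (t : Fˣ) : ((sc t : GN) : MN) = (t : F) • 1 := by
  simp [sc, Matrix.GeneralLinearGroup.scalar, ← Matrix.smul_one_eq_diagonal]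

theorem sc_comm (t : Fˣ) (g : GN) : sc t * g = g * sc t :=
  Units.ext (by rw [Units.val_mul, Units.val_mul, coe_sc, Matrix.smul_mul, Matrix.mul_smul, one_mul, mul_one])

theorem sc_mulVec (t : Fˣ) (u : V) : ((sc t : GN) : MN) *ᵥ u = (t : F) • u := by
  rw [coe_sc, Matrix.smul_mulVec, Matrix.one_mulVec]

theorem sc_mul (s t : Fˣ) : sc s * sc t = (sc (s * t) : GN) := (map_mul _ _ _).symm

theorem sc_pow (t : Fˣ) (n : ℕ) : (sc t : GN) ^ n = sc (t ^ n) := (map_pow _ _ _).symm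

theorem mv_mul (g h : GN) (u : V) : ((g * h : GN) : MN) *ᵥ u = (g : MN) *ᵥ ((h : MN) *ᵥ u) := by
  rw [Units.val_mul, Matrix.mulVec_mulVec]

theorem comm_pow {w : Fˣ} {g x : GN} {i : ℕ} (h : g * x = sc (w ^ i) * (x * g)) (n : ℕ) :
    g * x ^ n = sc (w ^ (i * n)) * (x ^ n * g) := by
  induction n with
  | zero => rw [pow_zero, mul_zero, pow_zero, sc, map_one, mul_one, one_mul, one_mul]
  | succ n ih =>
    rw [pow_succ, ← mul_assoc, ih]
    calc sc (w ^ (i * n)) * (x ^ n * g) * x = sc (w ^ (i * n)) * x ^ n * (g * x) := by simp only [mul_assoc]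
      _ = sc (w ^ (i * n)) * x ^ n * (sc (w ^ i) * (x * g)) := by rw [h]
      _ = sc (w ^ (i * n)) * sc (w ^ i) * (x ^ n * x * g) := by
        rw [mul_assoc, ← mul_assoc (x ^ n) (sc _), ← sc_comm (w ^ i)]
        simp only [mul_assoc]
      _ = _ := by rw [sc_mul, ← pow_add, Nat.mul_succ]

theorem comm_mul {w : Fˣ} {a b x : GN} {i j : ℕ} (ha : a * x = sc (w ^ i) * (x * a))
    (hb : b * x = sc (w ^ j) * (x * b)) : a * b * x = sc (w ^ (i + j)) * (x * (a * b)) := by
  rw [mul_assoc, hb, ← mul_assoc, ← sc_comm, mul_assoc, ← mul_assoc a, ha, pow_add, ← sc_mul]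
  calc sc (w ^ j) * (sc (w ^ i) * (x * a) * b) = sc (w ^ j) * sc (w ^ i) * (x * (a * b)) := by simp only [mul_assoc]
    _ = _ := by rw [sc_mul, sc_mul, mul_comm]

theorem comm_flip {w : Fˣ} (hw : w ^ 3 = 1) {a b : GN} (h : a * b = sc w * (b * a)) :
    b * a = sc (w ^ 2) * (a * b) := by
  rw [h, ← mul_assoc, sc_mul, ← pow_succ, hw, sc, map_one, one_mul]

/-- Correcting the commutation with a standard pair. -/
theorem exists_adjust {w : Fˣ} (hw : w ^ 3 = 1) {x y g : GN} {i j : ℕ} (hxy : x * y = sc w * (y * x))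
    (hgx : g * x = sc (w ^ i) * (x * g)) (hgy : g * y = sc (w ^ j) * (y * g)) :
    x ^ (2 * j) * y ^ i * g * x = x * (x ^ (2 * j) * y ^ i * g) ∧
      x ^ (2 * j) * y ^ i * g * y = y * (x ^ (2 * j) * y ^ i * g) := by
  have hone : ∀ n : ℕ, 3 ∣ n → (sc (w ^ n) : GN) = 1 := fun n ⟨k, e⟩ => by
    rw [e, pow_mul, hw, one_pow, sc, map_one]
  have pw : ∀ {a b : GN} {k : ℕ}, a * b = sc (w ^ k) * (b * a) → ∀ n : ℕ, a ^ n * b = sc (w ^ (n * k)) * (b * a ^ n) := by
    intro a b k h n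
    induction n with
    | zero => rw [pow_zero, zero_mul, pow_zero, sc, map_one, mul_one, one_mul]
    | succ n ih =>
      rw [pow_succ', Nat.succ_mul, add_comm]
      exact comm_mul h ih
  have hxx : x * x = sc (w ^ 0) * (x * x) := by rw [pow_zero, sc, map_one, one_mul]
  have hyy : y * y = sc (w ^ 0) * (y * y) := by rw [pow_zero, sc, map_one, one_mul]
  have hxy' : x * y = sc (w ^ 1) * (y * x) := by rw [pow_one]; exact hxy
  constructor
  · have h := comm_mul (comm_mul (pw hxx (2 * j)) (pw (comm_flip hw hxy) i)) hgx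
    rwa [hone _ (by omega), one_mul] at h
  · have h := comm_mul (comm_mul (pw hxy' (2 * j)) (pw hyy i)) hgy
    rwa [hone _ (by omega), one_mul] at h

section frame

variable [Fintype F] {p : ℕ} {R : Subgroup (GL (Fin 9) F)}

/-- The data used to find the standard frame. -/
theorem exists_pairs (hsy : Geo.IsSymplecticTypeGroup 3 R) (hirr : Geo.ActsAbsolutelyIrreducibly (Geo.matrixSet R))
    (hZ : Nat.card (Subgroup.center R) = 3) (hcard : 3 < Nat.card R) :
    ∃ (w : Fˣ) (x y x2 y2 : GN), w ^ 3 = 1 ∧ w ≠ 1 ∧ x ∈ R ∧ y ∈ R ∧ x2 ∈ R ∧ y2 ∈ R ∧ sc w ∈ R ∧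
      (∀ g ∈ R, g ^ 3 = 1) ∧ (∀ a ∈ R, ∀ b ∈ R, ∃ k : ℕ, a * b = sc (w ^ k) * (b * a)) ∧
      x * y = sc w * (y * x) ∧ x2 * y2 = sc w * (y2 * x2) ∧ x2 * x = x * x2 ∧ x2 * y = y * x2 ∧
      y2 * x = x * y2 ∧ y2 * y = y * y2 := by
  classical
  haveI : Fact (Nat.Prime 3) := ⟨Nat.prime_three⟩
  haveI : Finite GN := Finite.of_injective _ Units.val_injective
  have hexp : Monoid.exponent R = 3 := hsy.exponent_eq.trans (by norm_num)
  have hcube : ∀ g : R, g ^ 3 = 1 := fun g => by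
    have := Monoid.pow_exponent_eq_one g
    rwa [hexp] at this
  have hsc : ∀ z : R, z ∈ Subgroup.center R → ∃ t : F, ((z : GN) : MN) = t • 1 := fun z hz =>
    hirr.2 _ (by
      rintro _ ⟨g, hg, rfl⟩
      exact (congrArg (fun x : R => ((x : GN) : MN)) (Subgroup.mem_center_iff.1 hz ⟨g, hg⟩)).symm)
  -- the generator of the centre
  have hbot : Subgroup.center R ≠ ⊥ := fun e => by rw [e, Subgroup.card_bot] at hZ; omega
  obtain ⟨z0, hz0, hz01⟩ := (Subgroup.center R).ne_bot_iff_exists_ne_one.1 hbot |> fun ⟨z, hz⟩ =>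
    (⟨(z : R), z.2, fun e => hz (Subtype.ext e)⟩ : ∃ z : R, z ∈ Subgroup.center R ∧ z ≠ 1)
  obtain ⟨t, ht⟩ := hsc z0 hz0
  have ht0 : t ≠ 0 := fun e => (z0 : GN).ne_zero (by rw [ht, e, zero_smul])
  obtain ⟨w, hwd⟩ : ∃ w, w = Units.mk0 t ht0 := ⟨_, rfl⟩
  have hzw : (z0 : GN) = sc w := Units.ext (by rw [ht, coe_sc, hwd, Units.val_mk0])
  have hscinj : ∀ {a b : Fˣ}, (sc a : GN) = sc b → a = b := fun {a b} e => by
    have := congrArg (fun g : GN => (g : MN) 0 0) e
    simp [coe_sc] at this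
    exact Units.ext this
  have hw : w ^ 3 = 1 := hscinj (by
    rw [← sc_pow, ← hzw, ← SubmonoidClass.coe_pow, hcube, OneMemClass.coe_one, sc, map_one])
  have hw1 : w ≠ 1 := fun e => hz01 (Subtype.ext (by rw [hzw, e, sc, map_one, OneMemClass.coe_one]))
  have hwR : (sc w : GN) ∈ R := hzw ▸ z0.2
  have hzk : ∀ z : R, z ∈ Subgroup.center R → ∃ k : ℕ, (z : GN) = sc (w ^ k) := fun z hz => by
    obtain ⟨s, hs⟩ := hsc z hz
    have hs0 : s ≠ 0 := fun e => (z : GN).ne_zero (by rw [hs, e, zero_smul])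
    have hz' : (z : GN) = sc (Units.mk0 s hs0) := Units.ext (by rw [hs, coe_sc, Units.val_mk0])
    obtain ⟨k, -, hk⟩ := cases_cube hw hw1 (t := Units.mk0 s hs0) (hscinj (by
      rw [← sc_pow, ← hz', ← SubmonoidClass.coe_pow, hcube, OneMemClass.coe_one, sc, map_one]))
    exact ⟨k, by rw [hz', hk]⟩
  -- commutators are central
  have hclass : ∀ a b : R, ⁅a, b⁆ ∈ Subgroup.center R := by
    have hstep : ∀ a ∈ Subgroup.upperCentralSeries R 2, ∀ g : R, a * g * a⁻¹ * g⁻¹ ∈ Subgroup.center R := by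
      intro a ha g
      rw [← Subgroup.upperCentralSeries_one]
      exact (Subgroup.mem_upperCentralSeries_succ_iff.1 ha) g
    obtain ⟨A, hA⟩ : ∃ A, A = commutator R ⊓ Subgroup.upperCentralSeries R 2 := ⟨_, rfl⟩
    have hkill : ∀ a ∈ Subgroup.upperCentralSeries R 2, ∀ d ∈ commutator R, a * d = d * a := by
      intro a ha d hd
      let f : R →* Subgroup.center R := MonoidHom.mk' (fun g => ⟨a * g * a⁻¹ * g⁻¹, hstep a ha g⟩) fun g h => by
        refine Subtype.ext ?_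
        show a * (g * h) * a⁻¹ * (g * h)⁻¹ = a * g * a⁻¹ * g⁻¹ * (a * h * a⁻¹ * h⁻¹)
        have hc := Subgroup.mem_center_iff.1 (hstep a ha h) g
        calc a * (g * h) * a⁻¹ * (g * h)⁻¹ = a * g * a⁻¹ * ((a * h * a⁻¹ * h⁻¹) * g⁻¹) := by group
          _ = a * g * a⁻¹ * (g⁻¹ * (g * (a * h * a⁻¹ * h⁻¹)) * g⁻¹) := by group
          _ = a * g * a⁻¹ * (g⁻¹ * ((a * h * a⁻¹ * h⁻¹) * g) * g⁻¹) := by rw [hc]
          _ = _ := by group
      have h1 : d ∈ f.ker := by
        have hle : commutator R ≤ f.ker := by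
          rw [commutator_def, Subgroup.commutator_le]
          intro g _ h _
          rw [MonoidHom.mem_ker, map_commutatorElement, commutatorElement_eq_one_iff_mul_comm]
          exact Subtype.ext (Subgroup.mem_center_iff.1 (f h).2 (f g : R))
        exact hle hd
      have h2 : a * d * a⁻¹ * d⁻¹ = 1 := congrArg Subtype.val (MonoidHom.mem_ker.1 h1)
      exact mul_inv_eq_iff_eq_mul.1 (mul_inv_eq_one.1 h2)
    haveI : (commutator R).Characteristic := inferInstance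
    have hAc : A.Characteristic := by rw [hA]; infer_instance
    have hAcomm : IsMulCommutative A := ⟨⟨fun a b => Subtype.ext (by
      have ha := hA.le a.2
      have hb := hA.le b.2
      exact hkill _ ha.2 _ hb.1)⟩⟩
    haveI := hsy.cyclic_of_characteristic A hAc hAcomm
    have hA3 : Nat.card A ∣ 3 := by
      obtain ⟨a, ha⟩ := IsCyclic.exists_ofOrder_eq_natCard (α := A)
      rw [← ha]
      exact orderOf_dvd_of_pow_eq_one (Subtype.ext (hcube _))
    by_contra hcon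
    push Not at hcon
    obtain ⟨a, b, hab⟩ := hcon
    obtain ⟨D, hD⟩ : ∃ D, D = (commutator R).map (QuotientGroup.mk' (Subgroup.center R)) := ⟨_, rfl⟩
    haveI : D.Normal := hD ▸ Subgroup.Normal.map inferInstance _ (QuotientGroup.mk'_surjective _)
    haveI : Nontrivial D := by
      refine (Subgroup.nontrivial_iff_ne_bot _).2 fun e => hab ?_
      rw [hD, Subgroup.map_eq_bot_iff, QuotientGroup.ker_mk'] at e
      exact e (Subgroup.commutator_mem_commutator (Subgroup.mem_top a) (Subgroup.mem_top b))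
    have hpG := hsy.pGroup
    haveI : Nontrivial (R ⧸ Subgroup.center R) :=
      Function.Injective.nontrivial (f := fun d : D => (d : R ⧸ Subgroup.center R)) Subtype.val_injective
    obtain ⟨q, hq, hq1⟩ : ∃ q, q ∈ D ⊓ Subgroup.center (R ⧸ Subgroup.center R) ∧ q ≠ 1 := by
      have hne : D ⊓ Subgroup.center (R ⧸ Subgroup.center R) ≠ ⊥ := by
        haveI := (hpG.to_quotient (Subgroup.center R)).isNilpotent
        exact (Grp.inf_center_ne_bot D ((Subgroup.nontrivial_iff_ne_bot _).1 inferInstance))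
      obtain ⟨q, hq⟩ := Subgroup.ne_bot_iff_exists_ne_one.1 hne
      exact ⟨q, q.2, fun e => hq (Subtype.ext e)⟩
    obtain ⟨hqD, hqC⟩ := hq
    rw [hD] at hqD
    obtain ⟨d, hd, rfl⟩ := hqD
    have hd2 : d ∈ Subgroup.upperCentralSeries R 2 := by
      rw [Subgroup.mem_upperCentralSeries_succ_iff]
      intro g
      rw [Subgroup.upperCentralSeries_one, ← QuotientGroup.eq_one_iff, commutatorElement_def]
      simp only [QuotientGroup.mk_mul, QuotientGroup.mk_inv]
      rw [show (d : R ⧸ Subgroup.center R) * (g : R ⧸ Subgroup.center R) = g * d from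
        (Subgroup.mem_center_iff.1 hqC _).symm, mul_inv_cancel_right, mul_inv_cancel]
    have hdA : d ∈ A := hA ▸ ⟨hd, hd2⟩
    have hzA : z0 ∈ A := by
      -- the centre is inside the derived group
      have hne : commutator R ≠ ⊥ := fun e => by
        exact hq1 (by rw [show d = 1 from Subgroup.mem_bot.1 (e.le hd)]; rfl)
      haveI := hpG.isNilpotent
      obtain ⟨c, hc⟩ := Subgroup.ne_bot_iff_exists_ne_one.1 (Grp.inf_center_ne_bot (commutator R) hne)
      obtain ⟨hc1, hc2⟩ := c.2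
      have hle : Subgroup.zpowers (c : R) = Subgroup.center R := by
        refine Subgroup.eq_of_le_of_card_ge ((Subgroup.zpowers_le).2 hc2) ?_
        rw [Nat.card_zpowers, hZ, orderOf_eq_prime (hcube _) (fun e => hc (Subtype.ext e))]
      have hz : z0 ∈ commutator R := (Subgroup.zpowers_le.2 hc1) (hle.ge hz0)
      rw [hA]
      exact ⟨hz, Subgroup.upperCentralSeries_mono R (show 1 ≤ 2 by norm_num)
        (by rw [Subgroup.upperCentralSeries_one]; exact hz0)⟩
    have hAeq : Subgroup.zpowers z0 = A := by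
      refine Subgroup.eq_of_le_of_card_ge ((Subgroup.zpowers_le).2 hzA) ?_
      rw [Nat.card_zpowers, orderOf_eq_prime (hcube z0) hz01]
      exact Nat.le_of_dvd (by norm_num) hA3
    refine hq1 ((QuotientGroup.eq_one_iff d).2 ?_)
    rw [← hAeq] at hdA
    exact (Subgroup.zpowers_le.2 hz0) hdA
  have hcomm : ∀ a ∈ R, ∀ b ∈ R, ∃ k : ℕ, a * b = sc (w ^ k) * (b * a) := fun a ha b hb => by
    obtain ⟨k, hk⟩ := hzk _ (hclass ⟨a, ha⟩ ⟨b, hb⟩)
    refine ⟨k, ?_⟩
    rw [← hk]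
    simp [commutatorElement_def, mul_assoc]
  have hpair : ∀ {P : GN → Prop}, (∀ a b, P a → P b → P (b * a * b⁻¹)) → ∀ a ∈ R, ∀ b ∈ R, P a → P b →
      a * b ≠ b * a → ∃ a' b', a' ∈ R ∧ b' ∈ R ∧ P a' ∧ P b' ∧ a' * b' = sc w * (b' * a') := by
    intro P _ a ha b hb hPa hPb hne
    obtain ⟨k, hk⟩ := hcomm a ha b hb
    have hk3 : sc (w ^ k) = (sc (w ^ (k % 3)) : GN) := by rw [← pow_mod_three hw]
    rw [hk3] at hk
    rcases (show k % 3 = 0 ∨ k % 3 = 1 ∨ k % 3 = 2 by omega) with h | h | h <;> rw [h] at hk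
    · exact absurd (by rw [hk, pow_zero, sc, map_one, one_mul]) hne
    · exact ⟨a, b, ha, hb, hPa, hPb, by rw [hk, pow_one]⟩
    · refine ⟨b, a, hb, ha, hPb, hPa, ?_⟩
      rw [hk, ← mul_assoc, sc_mul, ← pow_succ', hw, sc, map_one, one_mul]
  obtain ⟨a₀, b₀, hne⟩ : ∃ a b : R, a * b ≠ b * a := by
    by_contra hcon
    push Not at hcon
    have htop : Subgroup.center R = ⊤ := eq_top_iff.2 fun x _ => Subgroup.mem_center_iff.2 fun y => hcon y x
    rw [htop, Subgroup.card_top] at hZ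
    omega
  obtain ⟨x, y, hx, hy, -, -, hxy⟩ := hpair (P := fun _ => True) (fun _ _ _ _ => trivial) _ a₀.2 _ b₀.2 trivial trivial
    (fun e => hne (Subtype.ext e))
  have hadj : ∀ g ∈ R, ∃ n l : ℕ, x ^ n * y ^ l * g * x = x * (x ^ n * y ^ l * g) ∧
      x ^ n * y ^ l * g * y = y * (x ^ n * y ^ l * g) := fun g hg => by
    obtain ⟨i, hi⟩ := hcomm g hg x hx
    obtain ⟨j, hj⟩ := hcomm g hg y hy
    exact ⟨_, _, exists_adjust hw hxy hi hj⟩
  -- a second pair
  obtain ⟨g, hg, hgx, hgy, hgns⟩ : ∃ g ∈ R, g * x = x * g ∧ g * y = y * g ∧ ∀ c : F, (g : MN) ≠ c • 1 := by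
    by_contra hcon
    push Not at hcon
    obtain ⟨T, hT⟩ : ∃ T : Module.End F V, T = Matrix.toLin' (x : MN) := ⟨_, rfl⟩
    have hT3 : T ^ 3 = 1 := by
      rw [hT, ← Matrix.toLin'_pow, ← Units.val_pow_eq_pow_val,
        show x ^ 3 = 1 from congrArg Subtype.val (hcube ⟨x, hx⟩), Units.val_one, Matrix.toLin'_one]
      rfl
    obtain ⟨k, -, v, -, hv0, hv⟩ := exists_eigen hw hw1 T hT3 ⊤ (fun v _ => Submodule.mem_top)
      (v := Pi.single 0 1) Submodule.mem_top (fun e => one_ne_zero (α := F) (Pi.single_eq_zero_iff.1 e))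
    rw [hT, Matrix.toLin'_apply] at hv
    obtain ⟨W, hW⟩ : ∃ W : Submodule F V, W = Submodule.span F (Set.range fun n : Fin 3 => ((y ^ (n : ℕ) : GN) : MN) *ᵥ v) :=
      ⟨_, rfl⟩
    have hy3 : y ^ 3 = 1 := congrArg Subtype.val (hcube ⟨y, hy⟩)
    have hmem : ∀ n : ℕ, ((y ^ n : GN) : MN) *ᵥ v ∈ W := fun n => by
      rw [show y ^ n = y ^ (n % 3) from pow_eq_pow_mod n hy3, hW]
      exact Submodule.subset_span ⟨⟨n % 3, Nat.mod_lt _ (by norm_num)⟩, rfl⟩
    have hinv : ∀ h : GN, (∀ n : ℕ, (h : MN) *ᵥ (((y ^ n : GN) : MN) *ᵥ v) ∈ W) → ∀ u ∈ W, (h : MN) *ᵥ u ∈ W := by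
      intro h hh u hu
      rw [hW] at hu
      induction hu using Submodule.span_induction with
      | mem u hu => obtain ⟨n, rfl⟩ := hu; exact hh n
      | zero => rw [Matrix.mulVec_zero]; exact W.zero_mem
      | add a b _ _ ha hb => rw [Matrix.mulVec_add]; exact W.add_mem ha hb
      | smul c a _ ha => rw [Matrix.mulVec_smul]; exact W.smul_mem c ha
    have hyW : ∀ u ∈ W, (y : MN) *ᵥ u ∈ W := hinv y fun n => by
      rw [← mv_mul, ← pow_succ']; exact hmem _
    have hxW : ∀ u ∈ W, (x : MN) *ᵥ u ∈ W := hinv x fun n => by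
      rw [← mv_mul, comm_pow (show x * y = sc (w ^ 1) * (y * x) by rw [pow_one]; exact hxy) n, mv_mul, sc_mulVec, mv_mul,
        hv, Matrix.mulVec_smul]
      exact W.smul_mem _ (W.smul_mem _ (hmem n))
    have hpowW : ∀ (h : GN), (∀ u ∈ W, (h : MN) *ᵥ u ∈ W) → ∀ (n : ℕ), ∀ u ∈ W, ((h ^ n : GN) : MN) *ᵥ u ∈ W := by
      intro h hh n
      induction n with
      | zero => intro u hu; simpa using hu
      | succ n ih => intro u hu; rw [pow_succ', mv_mul]; exact hh _ (ih u hu)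
    have hall : ∀ h ∈ R, ∀ u ∈ W, (h : MN) *ᵥ u ∈ W := by
      intro h hh u hu
      obtain ⟨n, l, e1, e2⟩ := hadj h hh
      obtain ⟨c, hc⟩ := hcon _ (mul_mem (mul_mem (pow_mem hx n) (pow_mem hy l)) hh) e1 e2
      have e : h = (y ^ (2 * l) * x ^ (2 * n)) * (x ^ n * y ^ l * h) := by
        have hx3 : x ^ (3 * n) = 1 := by rw [pow_mul, show x ^ 3 = 1 from congrArg Subtype.val (hcube ⟨x, hx⟩), one_pow]
        have hy3' : y ^ (3 * l) = 1 := by rw [pow_mul, hy3, one_pow]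
        calc h = y ^ (3 * l) * h := by rw [hy3', one_mul]
          _ = y ^ (2 * l) * x ^ (3 * n) * y ^ l * h := by
            rw [hx3, mul_one, ← pow_add, show 2 * l + l = 3 * l by ring]
          _ = _ := by rw [show 3 * n = 2 * n + n by ring, pow_add]; simp only [mul_assoc]
      rw [e, mv_mul, hc, Matrix.smul_mulVec, Matrix.one_mulVec, mv_mul]
      exact hpowW y hyW _ _ (hpowW x hxW _ _ (W.smul_mem c hu))
    have hr := hirr.1 W (by
      rintro _ ⟨h, hh, rfl⟩ _ ⟨u, hu, rfl⟩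
      rw [Matrix.toLin'_apply]
      exact hall h hh u hu)
    rcases hr with hr | hr
    · have h0 := hmem 0
      rw [hr, Submodule.mem_bot, pow_zero, Units.val_one, Matrix.one_mulVec] at h0
      exact hv0 h0
    · have h1 : Module.finrank F W ≤ 3 := by
        rw [hW]; exact (finrank_range_le_card _).trans (by simp)
      rw [hr, finrank_top, Module.finrank_fin_fun] at h1
      omega
  obtain ⟨r, hr, hgr⟩ : ∃ r ∈ R, g * r ≠ r * g := by
    by_contra hcon
    push Not at hcon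
    obtain ⟨c, hc⟩ := hsc ⟨g, hg⟩ (Subgroup.mem_center_iff.2 fun b => Subtype.ext (hcon b b.2).symm)
    exact hgns c hc
  obtain ⟨n, l, e1, e2⟩ := hadj r hr
  have hgc : ∀ k : ℕ, g * x ^ k = x ^ k * g ∧ g * y ^ k = y ^ k * g := fun k =>
    ⟨((show Commute g x from hgx).pow_right k).eq, ((show Commute g y from hgy).pow_right k).eq⟩
  have hne' : g * (x ^ n * y ^ l * r) ≠ (x ^ n * y ^ l * r) * g := fun e => hgr (by
    have : x ^ n * y ^ l * (g * r) = x ^ n * y ^ l * (r * g) := by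
      rw [← mul_assoc, mul_assoc (x ^ n) (y ^ l) g, ← (hgc l).2, ← mul_assoc (x ^ n) g, ← (hgc n).1]
      simp only [mul_assoc] at e ⊢
      exact e
    exact mul_left_cancel this)
  obtain ⟨x2, y2, hx2, hy2, ⟨hx2x, hx2y⟩, ⟨hy2x, hy2y⟩, hxy2⟩ := hpair (P := fun a => a * x = x * a ∧ a * y = y * a)
    (fun a b ha hb => ⟨((show Commute b x from hb.1).mul_left ha.1).mul_left (show Commute b x from hb.1).inv_left,
      ((show Commute b y from hb.2).mul_left ha.2).mul_left (show Commute b y from hb.2).inv_left⟩)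
    g hg _ (mul_mem (mul_mem (pow_mem hx n) (pow_mem hy l)) hr) ⟨hgx, hgy⟩ ⟨e1, e2⟩ hne'
  exact ⟨w, x, y, x2, y2, hw, hw1, hx, hy, hx2, hy2, hwR, fun g hg => congrArg Subtype.val (hcube ⟨g, hg⟩), hcomm, hxy,
    hxy2, hx2x, hx2y, hy2x, hy2y⟩

/-- The frame. -/
theorem exists_frame (h3 : (3 : F) ≠ 0) (hsy : Geo.IsSymplecticTypeGroup 3 R)
    (hirr : Geo.ActsAbsolutelyIrreducibly (Geo.matrixSet R)) (hZ : Nat.card (Subgroup.center R) = 3)
    (hcard : 3 < Nat.card R) :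
    ∃ (w : Fˣ) (φ : G9 →* GN), w ^ 3 = 1 ∧ w ≠ 1 ∧ Function.Bijective φ ∧
      (∀ g : G9, (φ g : MN).det = (g : Matrix I9 I9 F).det) ∧ R = (std9 w).map φ ∧
      ∃ Q : Matrix (Fin 9) I9 F, (∀ z, Q *ᵥ z = 0 → z = 0) ∧ ∀ g : G9, (φ g : MN) * Q = Q * (g : Matrix I9 I9 F) := by
  classical
  obtain ⟨w, x, y, x2, y2, hw, hw1, hx, hy, hx2, hy2, hwR, hcube, hcomm, hxy, hxy2, hx2x, hx2y, hy2x, hy2y⟩ :=
    exists_pairs hsy hirr hZ hcard
  have hw3 : (w : F) ^ 3 = 1 := (sum_pow hw hw1).1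
  have h3' : ∀ {g : GN}, g ∈ R → Matrix.toLin' (g : MN) ^ 3 = 1 := fun {g} hg => by
    rw [← Matrix.toLin'_pow, ← Units.val_pow_eq_pow_val, hcube g hg, Units.val_one, Matrix.toLin'_one]; rfl
  -- a common eigenvector
  obtain ⟨i, hi, u, -, hu0, hu⟩ := exists_eigen hw hw1 (Matrix.toLin' (x : MN)) (h3' hx) ⊤
    (fun v _ => Submodule.mem_top) (v := Pi.single 0 1) Submodule.mem_top
    (fun e => one_ne_zero (α := F) (Pi.single_eq_zero_iff.1 e))
  obtain ⟨W, hW⟩ : ∃ W : Submodule F V, W = LinearMap.ker (Matrix.toLin' (x : MN) - ((w ^ i : Fˣ) : F) • 1) := ⟨_, rfl⟩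
  have hmW : ∀ v, v ∈ W ↔ (x : MN) *ᵥ v = ((w ^ i : Fˣ) : F) • v := fun v => by
    rw [hW, LinearMap.mem_ker, LinearMap.sub_apply, sub_eq_zero, Matrix.toLin'_apply]
    rfl
  rw [Matrix.toLin'_apply] at hu
  obtain ⟨k, hk, v0, hv0W, hv00, hv0⟩ := exists_eigen hw hw1 (Matrix.toLin' (x2 : MN)) (h3' hx2) W (fun v hv => by
    rw [hmW] at hv ⊢
    rw [Matrix.toLin'_apply, ← mv_mul, ← hx2x, mv_mul, hv, Matrix.mulVec_smul]) ((hmW u).2 hu) hu0
  rw [hmW] at hv0W
  rw [Matrix.toLin'_apply] at hv0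
  have hxyp : ∀ n : ℕ, x * y ^ n = sc (w ^ n) * (y ^ n * x) := fun n => by
    have := comm_pow (show x * y = sc (w ^ 1) * (y * x) by rw [pow_one]; exact hxy) n
    rwa [one_mul] at this
  have hxyp2 : ∀ n : ℕ, x2 * y2 ^ n = sc (w ^ n) * (y2 ^ n * x2) := fun n => by
    have := comm_pow (show x2 * y2 = sc (w ^ 1) * (y2 * x2) by rw [pow_one]; exact hxy2) n
    rwa [one_mul] at this
  have hc1 : ∀ n : ℕ, x * y2 ^ n = y2 ^ n * x := fun n => ((show Commute x y2 from hy2x.symm).pow_right n).eq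
  have hc2 : ∀ n : ℕ, x2 * y ^ n = y ^ n * x2 := fun n => ((show Commute x2 y from hx2y).pow_right n).eq
  obtain ⟨v, hv⟩ : ∃ v, v = ((y ^ (3 - i) * y2 ^ (3 - k) : GN) : MN) *ᵥ v0 := ⟨_, rfl⟩
  have hvx : (x : MN) *ᵥ v = v := by
    rw [hv, ← mv_mul, ← mul_assoc, hxyp, mul_assoc, mul_assoc (y ^ (3 - i)) x, hc1, ← mul_assoc (y ^ _), mv_mul,
      sc_mulVec, mv_mul, hv0W, Matrix.mulVec_smul, smul_smul, ← Units.val_mul, ← pow_add,
      show 3 - i + i = 3 by omega, hw, Units.val_one, one_smul]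
  have hvx2 : (x2 : MN) *ᵥ v = v := by
    rw [hv, ← mv_mul, ← mul_assoc, hc2, mul_assoc, hxyp2, ← mul_assoc, ← sc_comm, mul_assoc, mv_mul, sc_mulVec,
      ← mul_assoc, mv_mul, hv0, Matrix.mulVec_smul, smul_smul, ← Units.val_mul, ← pow_add,
      show 3 - k + k = 3 by omega, hw, Units.val_one, one_smul]
  have hvne : v ≠ 0 := fun e => hv00 (by
    rw [hv] at e
    exact MaxTv.gl_mulVec_injective (y ^ (3 - i) * y2 ^ (3 - k)) (show _ = _ *ᵥ (0 : V) by
      rw [Matrix.mulVec_zero]; exact e))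
  -- the nine vectors
  obtain ⟨e, he⟩ : ∃ e : I9 → V, e = fun q => ((y ^ (q.1 : ℕ) * y2 ^ (q.2 : ℕ) : GN) : MN) *ᵥ v := ⟨_, rfl⟩
  have hex : ∀ q : I9, (x : MN) *ᵥ e q = ((A w q.1 : Fˣ) : F) • e q := fun q => by
    rw [he]; simp only
    rw [← mv_mul, ← mul_assoc, hxyp, mul_assoc, mul_assoc (y ^ _) x, hc1, ← mul_assoc (y ^ _), mv_mul, sc_mulVec,
      mv_mul, hvx]
    rfl
  have hex2 : ∀ q : I9, (x2 : MN) *ᵥ e q = ((A w q.2 : Fˣ) : F) • e q := fun q => by
    rw [he]; simp only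
    rw [← mv_mul, ← mul_assoc, hc2, mul_assoc, hxyp2, ← mul_assoc, ← sc_comm, mul_assoc, mv_mul, sc_mulVec,
      ← mul_assoc, mv_mul, hvx2]
    rfl
  have hmod : ∀ {g : GN}, g ∈ R → ∀ n : Fin 3, g * g ^ (n : ℕ) = g ^ ((n + 1 : Fin 3) : ℕ) := fun {g} hg n => by
    rw [← pow_succ', Fin.val_add, ← pow_eq_pow_mod _ (hcube g hg)]
    rfl
  have hey : ∀ q : I9, (y : MN) *ᵥ e q = e (q.1 + 1, q.2) := fun q => by
    rw [he]; simp only
    rw [← mv_mul, ← mul_assoc, hmod hy]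
  have hey2 : ∀ q : I9, (y2 : MN) *ᵥ e q = e (q.1, q.2 + 1) := fun q => by
    rw [he]; simp only
    rw [← mv_mul, ← mul_assoc, ((show Commute y2 y from hy2y).pow_right _).eq, mul_assoc, hmod hy2]
  have hene : ∀ q, e q ≠ 0 := fun q h => hvne (by
    rw [he] at h
    exact MaxTv.gl_mulVec_injective (y ^ (q.1 : ℕ) * y2 ^ (q.2 : ℕ)) (show _ = _ *ᵥ (0 : V) by
      rw [Matrix.mulVec_zero]; exact h))
  obtain ⟨M, hM⟩ : ∃ M : Matrix (Fin 9) I9 F, M = Matrix.of fun r q => e q r := ⟨_, rfl⟩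
  have hcolg : ∀ (g : GN) (r : Fin 9) (q : I9), ((g : MN) * M) r q = ((g : MN) *ᵥ e q) r := fun g r q => by
    rw [hM]; rfl
  obtain ⟨eA, heA⟩ : ∃ s : G9, s = kr (dia (A w), 1) := ⟨_, rfl⟩
  obtain ⟨eC, heC⟩ : ∃ s : G9, s = kr (cyc, 1) := ⟨_, rfl⟩
  obtain ⟨eA2, heA2⟩ : ∃ s : G9, s = kr (1, dia (A w)) := ⟨_, rfl⟩
  obtain ⟨eC2, heC2⟩ : ∃ s : G9, s = kr (1, (cyc : GL (Fin 3) F)) := ⟨_, rfl⟩
  have hint : (x : MN) * M = M * (eA : Matrix I9 I9 F) ∧ (y : MN) * M = M * (eC : Matrix I9 I9 F) ∧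
      (x2 : MN) * M = M * (eA2 : Matrix I9 I9 F) ∧ (y2 : MN) * M = M * (eC2 : Matrix I9 I9 F) := by
    refine ⟨?_, ?_, ?_, ?_⟩ <;> refine Matrix.ext fun r q => ?_ <;> rw [hcolg, Matrix.mul_apply]
    · rw [hex, Finset.sum_eq_single q (fun s _ hs => ?_) (by simp), heA, kr_apply, hM]
      · simp [coe_dia, mul_comm]
      · rw [heA, ← one_dia, kr_dia, Matrix.diagonal_apply_ne _ hs, mul_zero]
    · rw [hey, Finset.sum_eq_single (q.1 + 1, q.2) (fun s _ hs => ?_) (by simp), heC, kr_apply, hM]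
      · simp [cyc_apply]
      · rw [heC, kr_apply, cyc_apply, Units.val_one, Matrix.one_apply]
        rcases s with ⟨b, a⟩
        by_cases hb : b = q.1 + 1
        · rw [if_neg (show ¬ a = q.2 from fun ha => hs (by rw [hb, ha])), mul_zero, mul_zero]
        · rw [if_neg hb, zero_mul, mul_zero]
    · rw [hex2, Finset.sum_eq_single q (fun s _ hs => ?_) (by simp), heA2, kr_apply, hM]
      · simp [coe_dia, mul_comm]
      · rw [heA2, ← one_dia, kr_dia, Matrix.diagonal_apply_ne _ hs, mul_zero]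
    · rw [hey2, Finset.sum_eq_single (q.1, q.2 + 1) (fun s _ hs => ?_) (by simp), heC2, kr_apply, hM]
      · simp [cyc_apply]
      · rw [heC2, kr_apply, cyc_apply, Units.val_one, Matrix.one_apply]
        rcases s with ⟨b, a⟩
        by_cases hb : a = q.2 + 1
        · rw [if_neg (show ¬ b = q.1 from fun ha => hs (by rw [hb, ha])), zero_mul, mul_zero]
        · rw [if_neg hb, mul_zero, mul_zero]
  obtain ⟨hix, hiy, hix2, hiy2⟩ := hint
  -- independence
  have hMinj : ∀ u : I9 → F, M *ᵥ u = 0 → u = 0 := by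
    intro u hu
    by_contra hne
    obtain ⟨q, hq⟩ := Function.ne_iff.1 hne
    have hker : ∀ (g : GN) (s : Matrix I9 I9 F), (g : MN) * M = M * s → ∀ z : I9 → F, M *ᵥ z = 0 → M *ᵥ (s *ᵥ z) = 0 :=
      fun g s hgs z hz => by rw [Matrix.mulVec_mulVec, ← hgs, ← Matrix.mulVec_mulVec, hz, Matrix.mulVec_zero]
    have hproj : ∀ (g : GN) (s : G9) (f : I9 → Fin 3), (g : MN) * M = M * (s : Matrix I9 I9 F) →
        (∀ (z : I9 → F) r, ((s : Matrix I9 I9 F) *ᵥ z) r = (w : F) ^ (f r : ℕ) * z r) →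
        ∀ z : I9 → F, M *ᵥ z = 0 → ∀ b : Fin 3, M *ᵥ (fun r => if f r = b then 3 * z r else 0) = 0 := by
      intro g s f hgs hs z hz b
      have e : (fun r => if f r = b then 3 * z r else 0) = z + (w : F) ^ (2 * (b : ℕ)) • ((s : Matrix I9 I9 F) *ᵥ z) +
          (w : F) ^ (b : ℕ) • ((s : Matrix I9 I9 F) *ᵥ ((s : Matrix I9 I9 F) *ᵥ z)) := by
        funext r
        simp only [Pi.add_apply, Pi.smul_apply, smul_eq_mul, hs]
        obtain ⟨-, hsum⟩ := sum_pow hw hw1
        generalize f r = c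
        fin_cases b <;> fin_cases c <;> simp <;> grind
      rw [e, Matrix.mulVec_add, Matrix.mulVec_add, Matrix.mulVec_smul, Matrix.mulVec_smul, hz, hker g _ hgs z hz,
        hker g _ hgs _ (hker g _ hgs z hz), smul_zero, smul_zero, add_zero, add_zero]
    have h1 := hproj x eA Prod.fst hix (fun z r => by
      rw [heA, ← one_dia, kr_dia, Matrix.mulVec_diagonal]; simp [A]) u hu q.1
    have h2 := hproj x2 eA2 Prod.snd hix2 (fun z r => by
      rw [heA2, ← one_dia, kr_dia, Matrix.mulVec_diagonal]; simp [A]) _ h1 q.2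
    have e : (fun r : I9 => if r.2 = q.2 then 3 * (if r.1 = q.1 then 3 * u r else 0) else 0) =
        (3 * (3 * u q)) • (Pi.single q 1 : I9 → F) := by
      funext r
      rcases eq_or_ne r q with rfl | hr
      · simp
      · rw [Pi.smul_apply, Pi.single_eq_of_ne hr, smul_zero]
        split_ifs with ha hb
        · exact absurd (Prod.ext hb ha) hr
        · rw [mul_zero]
        · rfl
    rw [e, Matrix.mulVec_smul, Matrix.mulVec_single_one] at h2
    refine hene q ?_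
    have h3q : (3 : F) * (3 * u q) ≠ 0 := mul_ne_zero h3 (mul_ne_zero h3 hq)
    have := (smul_eq_zero.1 h2).resolve_left h3q
    rw [hM] at this
    exact this
  obtain ⟨ee⟩ : Nonempty (Fin 9 ≃ I9) := ⟨(finProdFinEquiv (m := 3) (n := 3)).symm⟩
  have hu' : IsUnit (M.submatrix id ee) := by
    rw [← Matrix.mulVec_injective_iff_isUnit]
    intro a b hab
    have key : ∀ a : V, M.submatrix id ee *ᵥ a = M *ᵥ (a ∘ ee.symm) := fun a => by
      funext r
      simp only [Matrix.mulVec, dotProduct, Matrix.submatrix_apply, id, Function.comp_apply]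
      exact Fintype.sum_equiv ee _ _ (fun x => by simp)
    have h0 : M *ᵥ (a ∘ ee.symm - b ∘ ee.symm) = 0 := by
      rw [Matrix.mulVec_sub, ← key, ← key, sub_eq_zero]; exact hab
    funext r
    simpa using congrFun (sub_eq_zero.1 (hMinj _ h0)) (ee r)
  obtain ⟨P, hP⟩ := hu'
  let φ : G9 ≃* GN := (Geo.glReindex ee.symm).trans (MulAut.conj P)
  have hφ : ∀ (g : GN) (s : G9), (g : MN) * M = M * (s : Matrix I9 I9 F) → φ s = g := by
    intro g s hgs
    show P * Geo.glReindex ee.symm s * P⁻¹ = g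
    rw [mul_inv_eq_iff_eq_mul]
    refine Units.ext ?_
    rw [Units.val_mul, Units.val_mul, hP]
    show M.submatrix id ee * ((s : Matrix I9 I9 F).submatrix ee ee) = _
    rw [Matrix.submatrix_mul_equiv, ← hgs]
    rfl
  have hφdet : ∀ s : G9, (φ s : MN).det = (s : Matrix I9 I9 F).det := fun s => by
    show ((P * Geo.glReindex ee.symm s * P⁻¹ : GN) : MN).det = _
    rw [Units.val_mul, Units.val_mul, Matrix.det_units_conj]
    exact Matrix.det_submatrix_equiv_self ee _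
  have p1 := hφ x eA hix
  have p2 := hφ y eC hiy
  have p3 := hφ x2 eA2 hix2
  have p4 := hφ y2 eC2 hiy2
  have hφQ : ∀ s : G9, (φ s : MN) * M = M * (s : Matrix I9 I9 F) := by
    intro s
    have h1 : (φ s : MN) * (P : MN) = (P : MN) * (s : Matrix I9 I9 F).submatrix ee ee := by
      show ((P * Geo.glReindex ee.symm s * P⁻¹ : GN) : MN) * (P : MN) = _
      rw [← Units.val_mul, inv_mul_cancel_right]
      rfl
    rw [hP] at h1
    ext r q
    have h2 := congrFun (congrFun h1 r) (ee.symm q)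
    simp only [Matrix.mul_apply, Matrix.submatrix_apply, id, Equiv.apply_symm_apply] at h2 ⊢
    rw [h2]
    exact Equiv.sum_comp ee (fun a => M r a * (s : Matrix I9 I9 F) a q)
  refine ⟨w, φ.toMonoidHom, hw, hw1, φ.bijective, hφdet, le_antisymm ?_ ?_, M, hMinj, hφQ⟩
  · intro g hg
    obtain ⟨i1, hi1⟩ := hcomm g hg x hx
    obtain ⟨j1, hj1⟩ := hcomm g hg y hy
    obtain ⟨i2, hi2⟩ := hcomm g hg x2 hx2
    obtain ⟨j2, hj2⟩ := hcomm g hg y2 hy2
    obtain ⟨g', hg'⟩ : ∃ g', g' = x ^ (2 * j1) * y ^ i1 * g := ⟨_, rfl⟩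
    obtain ⟨g'', hg''⟩ : ∃ g'', g'' = x2 ^ (2 * j2) * y2 ^ i2 * g' := ⟨_, rfl⟩
    obtain ⟨a1, a2⟩ := exists_adjust hw hxy hi1 hj1
    rw [← hg'] at a1 a2
    have hcc : ∀ {a b : GN}, a * b = b * a → a * b = sc (w ^ 0) * (b * a) := fun h => by
      rw [pow_zero, sc, map_one, one_mul]; exact h
    have hgx2 : g' * x2 = sc (w ^ (0 + 0 + i2)) * (x2 * g') := hg' ▸ comm_mul (comm_mul
      (hcc ((show Commute x x2 from hx2x.symm).pow_left _).eq)
      (hcc ((show Commute y x2 from hx2y.symm).pow_left _).eq)) hi2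
    have hgy2 : g' * y2 = sc (w ^ (0 + 0 + j2)) * (y2 * g') := hg' ▸ comm_mul (comm_mul
      (hcc ((show Commute x y2 from hy2x.symm).pow_left _).eq)
      (hcc ((show Commute y y2 from hy2y.symm).pow_left _).eq)) hj2
    rw [zero_add, zero_add] at hgx2 hgy2
    obtain ⟨b3, b4⟩ := exists_adjust hw hxy2 hgx2 hgy2
    rw [← hg''] at b3 b4
    have hb : ∀ t : GN, g' * t = t * g' → x2 * t = t * x2 → y2 * t = t * y2 → g'' * t = t * g'' :=
      fun t h1 h2 h3 => hg'' ▸ ((((show Commute x2 t from h2).pow_left _).mul_left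
        ((show Commute y2 t from h3).pow_left _)).mul_left (show Commute g' t from h1)).eq
    obtain ⟨s, hs⟩ := φ.surjective g''
    have hsc : ∀ {t : GN} {t' : G9}, φ t' = t → g'' * t = t * g'' → s * t' = t' * s := fun {t t'} e h =>
      φ.injective (by rw [map_mul, map_mul, hs, e, h])
    obtain ⟨z, hz⟩ := eq_scalar_of_commute hw hw1 (hsc (heA ▸ p1) (hb x a1 hx2x hy2x))
      (hsc (heC ▸ p2) (hb y a2 hx2y hy2y)) (hsc (heA2 ▸ p3) b3) (hsc (heC2 ▸ p4) b4)
    have hg''R : g'' ∈ R := by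
      rw [hg'', hg']
      exact mul_mem (mul_mem (pow_mem hx2 _) (pow_mem hy2 _)) (mul_mem (mul_mem (pow_mem hx _) (pow_mem hy _)) hg)
    have hs3 : s ^ 3 = 1 := φ.injective (by rw [map_pow, hs, hcube _ hg''R, map_one])
    have hsm : s ∈ std9 w := by
      have hz3 : z ^ 3 = 1 := by
        have := congrArg Units.val hs3
        rw [Units.val_pow_eq_pow_val, hz, smul_pow, one_pow, Units.val_one] at this
        simpa using congrFun (congrFun this (0, 0)) (0, 0)
      have hz0 : z ≠ 0 := fun e0 => s.ne_zero (by rw [hz, e0, zero_smul])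
      obtain ⟨k, -, hk⟩ := cases_cube hw hw1 (t := Units.mk0 z hz0) (Units.ext (by simpa using hz3))
      rw [show s = kr (dia (fun _ => Units.mk0 z hz0), 1) from Units.ext (by
        rw [hz, coe_kr, coe_dia, Units.val_one,
          show Matrix.diagonal (fun _ : Fin 3 => ((Units.mk0 z hz0 : Fˣ) : F)) = z • 1 from
            (Matrix.smul_one_eq_diagonal _).symm, Matrix.smul_kronecker, Matrix.one_kronecker_one])]
      refine kr_mem_std9 ?_ (one_mem _)
      rw [hk, show (fun _ : Fin 3 => w ^ k) = (fun _ => w) ^ k from rfl, map_pow]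
      exact pow_mem (const_mem hw) k
    have hmem : ∀ {t : GN} {t' : G9}, φ t' = t → t' ∈ std9 w → t ∈ (std9 w).map φ.toMonoidHom := fun e h => ⟨_, h, e⟩
    have e : g = (x2 ^ (2 * j2) * y2 ^ i2 * (x ^ (2 * j1) * y ^ i1))⁻¹ * g'' := by
      rw [hg'', hg']; group
    rw [e]
    refine mul_mem (inv_mem (mul_mem (mul_mem (pow_mem ?_ _) (pow_mem ?_ _)) (mul_mem (pow_mem ?_ _) (pow_mem ?_ _))))
      (hmem hs hsm)
    exacts [hmem p3 (heA2 ▸ kr_mem_std9 (one_mem _) (dia_A_mem w)), hmem p4 (heC2 ▸ kr_mem_std9 (one_mem _) (cyc_mem w)),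
      hmem p1 (heA ▸ kr_mem_std9 (dia_A_mem w) (one_mem _)), hmem p2 (heC ▸ kr_mem_std9 (cyc_mem w) (one_mem _))]
  · rw [std9_eq, MonoidHom.map_closure, Subgroup.closure_le]
    rintro _ ⟨s, rfl | rfl | rfl | rfl, rfl⟩
    · exact (show φ (kr (dia (A w), 1)) = x from heA ▸ p1).symm ▸ hx
    · exact (show φ (kr (cyc, 1)) = y from heC ▸ p2).symm ▸ hy
    · exact (show φ (kr (1, dia (A w))) = x2 from heA2 ▸ p3).symm ▸ hx2
    · exact (show φ (kr (1, (cyc : GL (Fin 3) F))) = y2 from heC2 ▸ p4).symm ▸ hy2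

/-- The normaliser of the group of symplectic type is maximal. -/
theorem linear_nine_normalizer_maximal (hp : p.Prime) (hF : Fintype.card F = p) (hp3 : p % 3 = 1)
    (R : Subgroup GN) (hR : Geo.IsLinearSymplecticTypeData 3 R) :
    Geo.IsMaximalIn (Geo.specialLinear (Fin 9) F) (Geo.subgroupNormalizer R ⊓ Geo.specialLinear (Fin 9) F) := by
  classical
  haveI : Fact p.Prime := ⟨hp⟩
  haveI : CharP F p := charP_of_card_eq_prime hF
  have h3 : (3 : F) ≠ 0 := fun e => by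
    have h := (Nat.prime_dvd_prime_iff_eq hp Nat.prime_three).1
      ((CharP.cast_eq_zero_iff F p 3).1 (by exact_mod_cast e))
    rw [h] at hp3
    norm_num at hp3
  obtain ⟨p', e, -, -, ⟨-, -, hZ, m, hm, hcard⟩ | ⟨h, -⟩ | ⟨h, -⟩⟩ := hR.field
  swap; · norm_num at h
  swap; · norm_num at h
  have hlt : 3 < Nat.card R := by
    rw [hcard]
    exact lt_of_lt_of_le (by norm_num) (Nat.pow_le_pow_right (by norm_num) (show 3 ≤ 1 + 2 * m by omega))
  obtain ⟨w, φ, hw, hw1, hφ, hdet, hRφ, -⟩ := exists_frame h3 hR.symplecticType hR.absIrred hZ hlt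
  refine MaxTv.isMaximalIn_intro inf_le_right (fun hle => ?_) fun M hHM hMK g hgM hgH => ?_
  · exact Asch.not_sl_le_normalizer (by simp) hR (hle.trans inf_le_left)
  have hN : ∀ s : G9, s ∈ Subgroup.normalizer (std9 w : Set G9) ↔ φ s ∈ Geo.subgroupNormalizer R := by
    intro s
    have hm : ∀ t, φ t ∈ (std9 w).map φ ↔ t ∈ std9 w := fun t =>
      ⟨fun ⟨u, hu, e⟩ => hφ.1 e ▸ hu, fun h => ⟨t, h, rfl⟩⟩
    rw [Geo.subgroupNormalizer, Subgroup.mem_normalizer_iff, Subgroup.mem_normalizer_iff, hRφ]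
    constructor
    · intro hs t
      obtain ⟨t', rfl⟩ := hφ.2 t
      rw [← map_inv, ← map_mul, ← map_mul, hm, hm]
      exact hs t'
    · intro hs t
      have h1 := hs (φ t)
      rwa [← map_inv, ← map_mul, ← map_mul, hm, hm] at h1
  by_contra hno
  have hle : M.comap φ ≤ Subgroup.normalizer (std9 w : Set G9) := by
    refine (show Over w p (M.comap φ) from ⟨hw, hw1, hp, hF, by omega, fun s hs => ?_, fun s hs hd => ?_, ?_⟩).normalizes
    · rw [← hdet]
      exact (mem_sl _).1 (hMK hs)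
    · exact hHM ⟨(hN s).1 hs, (mem_sl _).2 (by rw [hdet, hd])⟩
    · intro hSL
      refine hno fun t ht => ?_
      obtain ⟨t', rfl⟩ := hφ.2 t
      exact hSL ((mem_sl _).2 (by rw [← hdet]; exact (mem_sl _).1 ht))
  obtain ⟨g', rfl⟩ := hφ.2 g
  exact hgH ⟨(hN g').1 (hle hgM), hMK hgM⟩

end frame

end Cfsg.Agent.Classical.LinNine
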