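import Cfsg.Agent.Lib.Classical.LinNine.Conj
import Cfsg.Agent.Lib.Classical.LinNine.Fix

/-!
Degree nine: the centraliser of the involution of one factor in a proper group above the standard normaliser.
-/

set_option autoImplicit false
set_option linter.unusedSectionVars false
set_option maxHeartbeats 1000000

namespace Cfsg.Agent.Classical.LinNine

open Matrix HeisenbergThree SLThree.Hessian

universe u

variable {F : Type u} [Field F] {w : Fˣ}

local notation "G3" => GL (Fin 3) F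
local notation "M3" => Matrix (Fin 3) (Fin 3) F
local notation "I9" => (Fin 3 × Fin 3)
local notation "G9" => GL (Fin 3 × Fin 3) F
local notation "M9" => Matrix (Fin 3 × Fin 3) (Fin 3 × Fin 3) F
local notation "V2" => (Fin 2 → ZMod 3)
local notation "S2" => Matrix (Fin 2) (Fin 2) (ZMod 3)

/-- The involution of the second factor. -/
def kk : GL (Fin 3 × Fin 3) F := kr (1, negSwap)

/-- The part on the fixed space. -/
def rh (c : GL (Fin 3 × Fin 3) F) : Matrix (Fin 3) (Fin 3) F :=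
  Matrix.of fun b b' => (c : Matrix (Fin 3 × Fin 3) (Fin 3 × Fin 3) F) (b, 1) (b', 1) -
    (c : Matrix (Fin 3 × Fin 3) (Fin 3 × Fin 3) F) (b, 1) (b', 2)

theorem rh_mul {c d : G9} (hd : d * kk = kk * d) : rh (c * d) = rh c * rh d := by
  have key : ∀ b a b', ((d * kk : G9) : M9) (b, a) (b', 1) = ((kk * d : G9) : M9) (b, a) (b', 1) := fun b a b' => by
    rw [hd]
  have e0 : ∀ b b', (d : M9) (b, 0) (b', 1) = (d : M9) (b, 0) (b', 2) := fun b b' => by
    have := key b 0 b'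
    simp [kk, Matrix.mul_apply, Fintype.sum_prod_type, Fin.sum_univ_three, kr_apply, coe_negSwap, Matrix.one_apply] at this
    fin_cases b <;> fin_cases b' <;> simpa [eq_comm] using this
  have e2 : ∀ b b', (d : M9) (b, 2) (b', 1) = (d : M9) (b, 1) (b', 2) := fun b b' => by
    have := key b 1 b'
    simp [kk, Matrix.mul_apply, Fintype.sum_prod_type, Fin.sum_univ_three, kr_apply, coe_negSwap, Matrix.one_apply] at this
    fin_cases b <;> fin_cases b' <;> simpa [eq_comm] using this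
  have e2' : ∀ b b', (d : M9) (b, 1) (b', 1) = (d : M9) (b, 2) (b', 2) := fun b b' => by
    have := key b 2 b'
    simp [kk, Matrix.mul_apply, Fintype.sum_prod_type, Fin.sum_univ_three, kr_apply, coe_negSwap, Matrix.one_apply] at this
    fin_cases b <;> fin_cases b' <;> simpa [eq_comm] using this
  ext b b'
  simp only [rh, Units.val_mul, Matrix.mul_apply, Matrix.of_apply, Fintype.sum_prod_type, Fin.sum_univ_three, e0, e2, ← e2']
  ring

theorem rh_one : rh (1 : G9) = 1 := by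
  ext b b'
  simp [rh, Matrix.one_apply]

theorem rh_kr (g h : G3) : rh (kr (g, h)) = ((h : M3) 1 1 - (h : M3) 1 2) • (g : M3) := by
  ext b b'
  simp [rh, kr_apply]
  ring

theorem rh_left (g : G3) : rh (kr (g, 1)) = (g : M3) := by simp [rh_kr]

theorem rh_smul {c d : G9} {z : F} (h : (c : M9) = z • (d : M9)) : rh c = z • rh d := by
  ext b b'
  simp [rh, h, mul_sub]

theorem left_comm_kk (g : G3) : kr (g, 1) * kk = kk * kr (g, 1) := by
  rw [kk, kr_mul, kr_mul, one_mul, one_mul, mul_one, mul_one]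

theorem mem_centralizer_kk {c : G9} : c ∈ Subgroup.centralizer ({kk} : Set G9) ↔ c * kk = kk * c :=
  Subgroup.mem_centralizer_singleton_iff

/-- The homomorphism to the fixed space. -/
def rho : Subgroup.centralizer ({kk} : Set (GL (Fin 3 × Fin 3) F)) →* GL (Fin 3) F :=
  MonoidHom.toHomUnits
    { toFun := fun c => rh (c : GL (Fin 3 × Fin 3) F)
      map_one' := rh_one
      map_mul' := fun _ d => rh_mul (mem_centralizer_kk.1 d.2) }

theorem coe_rho (c : Subgroup.centralizer ({kk} : Set G9)) : ((rho c : G3) : M3) = rh (c : G9) := rfl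

theorem kr_left_inj {g g' : G3} (h : kr (g, 1) = kr (g', (1 : G3))) : g = g' :=
  Units.ext (by rw [← rh_left g, h, rh_left])

theorem center_scalar {a : G9} (h : a ∈ Subgroup.center G9) : ∃ z : F, (a : M9) = z • 1 := by
  rw [Matrix.GeneralLinearGroup.center_eq_range_scalar] at h
  obtain ⟨u, rfl⟩ := h
  exact ⟨u, by simp [Matrix.GeneralLinearGroup.scalar, ← Matrix.smul_one_eq_diagonal]⟩

theorem exists_smul_of_mk {a b : G9}
    (h : QuotientGroup.mk' (Subgroup.center G9) a = QuotientGroup.mk' (Subgroup.center G9) b) :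
    ∃ z : F, (a : M9) = z • (b : M9) := by
  have h1 : QuotientGroup.mk' (Subgroup.center G9) (a * b⁻¹) = 1 := by rw [map_mul, map_inv, h, mul_inv_cancel]
  rw [← MonoidHom.mem_ker, QuotientGroup.ker_mk'] at h1
  obtain ⟨z, hz⟩ := center_scalar h1
  refine ⟨z, ?_⟩
  have := congrArg (fun m => m * (b : M9)) hz
  simpa [mul_assoc] using this

theorem mk_eq_of_smul {a b : G9} {z : F} (h : (a : M9) = z • (b : M9)) :
    QuotientGroup.mk' (Subgroup.center G9) a = QuotientGroup.mk' (Subgroup.center G9) b := by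
  rw [← mul_inv_eq_one, ← map_inv, ← map_mul, ← MonoidHom.mem_ker, QuotientGroup.ker_mk', Subgroup.mem_center_iff]
  intro g
  have e : ((a * b⁻¹ : G9) : M9) = z • 1 := by rw [Units.val_mul, h, Matrix.smul_mul, Units.mul_inv]
  exact Units.ext (by rw [Units.val_mul g, Units.val_mul (a * b⁻¹), e, Matrix.mul_smul, Matrix.smul_mul, mul_one, one_mul])

theorem eq_zero_of_comm (hw : w ^ 3 = 1) (hw1 : w ≠ 1) {x : G3} {v : V2} (hx : pr x = pr (mv w v))
    (hc : x * negSwap = negSwap * x) : v = 0 := by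
  have hJ : Acts w (negSwap : G3) (-1 : S2) := by
    have := (acts_four hw hw1).mul hw hw1 (acts_four hw hw1)
    rwa [four_sq hw hw1, show (!![0, 1; -1, 0] : S2) * !![0, 1; -1, 0] = -1 by decide +kernel] at this
  have h := hJ v
  rw [← hx, ← map_inv, ← map_mul, ← map_mul, ← hc, mul_inv_cancel_right, hx, Matrix.neg_mulVec, Matrix.one_mulVec] at h
  exact (show ∀ v : V2, v = -v → v = 0 by decide +kernel) v (pr_mv_inj hw hw1 h)

theorem four_facts (hw : w ^ 3 = 1) (hw1 : w ≠ 1) :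
    ((four hw hw1 : G3) : M3) 1 1 - ((four hw hw1 : G3) : M3) 1 2 = 1 ∧
      four hw hw1 * negSwap = negSwap * four hw hw1 ∧
      ((four' hw hw1 : G3) : M3) 1 1 - ((four' hw hw1 : G3) : M3) 1 2 = 1 ∧
      four' hw hw1 * negSwap = negSwap * four' hw hw1 := by
  refine ⟨?_, ?_, ?_, ?_⟩
  · simp [four]
    rw [← mul_sub, inv_mul_cancel₀ (delta_ne hw1)]
  · rw [← four_sq hw hw1, mul_assoc]
  · have hwi : ((w⁻¹ : Fˣ) : F) = (w : F)⁻¹ := Units.val_inv_eq_inv_val w
    rw [four', dd, ← map_inv, Units.val_mul, Units.val_mul, coe_dia, coe_dia, Matrix.mul_diagonal, Matrix.mul_diagonal,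
      Matrix.diagonal_mul, Matrix.diagonal_mul]
    simp [four, hwi]
    have hd := delta_ne (F := F) hw1
    have := w.ne_zero
    field_simp
    exact div_self (sub_ne_zero.2 fun h => hw1 (Units.ext h.symm))
  · rw [← four'_sq hw hw1, mul_assoc]

theorem card_sl2 : Nat.card (Matrix.SpecialLinearGroup (Fin 2) (ZMod 3)) = 24 := by
  rw [show Nat.card (Matrix.SpecialLinearGroup (Fin 2) (ZMod 3)) =
    Nat.card {M : Matrix (Fin 2) (Fin 2) (ZMod 3) // M.det = 1} from rfl, Nat.card_eq_fintype_card]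
  decide +kernel

theorem sl2_not_real : ∀ a : Matrix (Fin 2) (Fin 2) (ZMod 3), a.det = 1 → a * (a * a) = 1 →
    ∀ h : Matrix (Fin 2) (Fin 2) (ZMod 3), h.det = 1 → h * a = a * a * h → a = 1 := by decide +kernel

theorem sl2_cent : ∀ M : Matrix (Fin 2) (Fin 2) (ZMod 3), M.det = 1 → M * M * M = 1 →
    M * !![0, 1; -1, 0] = !![0, 1; -1, 0] * M →
    M * (!![1, 2; 0, 1] * !![0, 1; -1, 0] * (!![1, 2; 0, 1] * !![1, 2; 0, 1])) =
      (!![1, 2; 0, 1] * !![0, 1; -1, 0] * (!![1, 2; 0, 1] * !![1, 2; 0, 1])) * M → M = 1 := by decide +kernel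

theorem dd_inv (hw : w ^ 3 = 1) : (dd w : G3)⁻¹ = dd w * dd w := by
  refine inv_eq_of_mul_eq_one_right ?_
  rw [← mul_assoc, dd, ← map_mul, ← map_mul,
    show (![1, w, w] : Fin 3 → Fˣ) * ![1, w, w] * ![1, w, w] = 1 from ?_, map_one]
  rw [_root_.pow_three, ← mul_assoc] at hw
  funext i
  fin_cases i <;> simp [hw]

theorem kr_one_one : kr ((1 : G3), (1 : G3)) = 1 := map_one _

variable [Fintype F] {p : ℕ} {K : Subgroup (GL (Fin 3 × Fin 3) F)}

theorem Over.std_left (O : Over w p K) {r : G3} (hr : r ∈ std w) : kr (r, 1) ∈ K := O.ov.kr_left hr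

/-- Normalising elements commuting with the involution act on the first factor. -/
theorem Over.conj_left (O : Over w p K) {n : G9} (hn : n ∈ Subgroup.normalizer (std9 w : Set G9))
    (hnk : n * kk = kk * n) {e : G3} (he : e ∈ std w) :
    ∃ r : G3, r ∈ std w ∧ n * kr (e, 1) * n⁻¹ = kr (r, 1) := by
  obtain ⟨⟨r, s⟩, ⟨hr, hs⟩, hx⟩ := (Subgroup.mem_normalizer_iff.1 hn _).1 (kr_mem_std9 he (one_mem _))
  have hc : n * kr (e, 1) * n⁻¹ * kk = kk * (n * kr (e, 1) * n⁻¹) :=
    ((show Commute n kk from hnk).mul_left (left_comm_kk e)).mul_left (show Commute n kk from hnk).inv_left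
  rw [← hx, kk, kr_mul, kr_mul, mul_one, one_mul] at hc
  have hs2 : s * negSwap = negSwap * s := by
    refine Units.ext ?_
    ext a a'
    obtain ⟨b, b', hb⟩ : ∃ b b', (r : M3) b b' ≠ 0 := by
      by_contra hcon
      push Not at hcon
      exact r.ne_zero (Matrix.ext fun i j => hcon i j)
    have := congrArg (fun g : G9 => (g : M9) (b, a) (b', a')) hc
    simp only [kr_apply] at this
    exact mul_left_cancel₀ hb this
  obtain ⟨v, hv⟩ := exists_mv O.hw O.hw1 hs
  rw [eq_zero_of_comm O.hw O.hw1 hv hs2, mv_zero, map_one, pr_eq_one] at hv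
  obtain ⟨z, hz⟩ := hv
  obtain ⟨z', rfl⟩ := scalar_eq hz
  have hdet : ((dia (fun _ : Fin 3 => z') : G3) : M3).det = 1 := by
    have hle : std w ≤ Geo.specialLinear (Fin 3) F := (Subgroup.closure_le _).2 (by
      rintro x (rfl | rfl)
      exacts [(mem_sl _).2 (det_dia_A O.hw O.hw1), (mem_sl _).2 det_cyc])
    exact (mem_sl _).1 (hle hs)
  refine ⟨dia (fun _ => z') * r, mul_mem hs hr, hx.symm.trans (Units.ext ?_)⟩
  ext ⟨b, a⟩ ⟨b', a'⟩
  rw [kr_apply, kr_apply, Units.val_mul, coe_dia, Matrix.diagonal_mul, Units.val_one]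
  simp only [Matrix.diagonal_apply, Matrix.one_apply]
  split_ifs <;> ring

/-- Normalising elements of the kernel. -/
theorem Over.kernel_shape (O : Over w p K) {n : G9} (hnK : n ∈ K)
    (hn : n ∈ Subgroup.normalizer (std9 w : Set G9)) (hnk : n * kk = kk * n) (hr1 : rh n = 1) :
    (∀ e ∈ std w, n * kr (e, 1) = kr (e, 1) * n) ∧
      ∃ (h : G3) (M : S2), n = kr (1, h) ∧ Acts w h M ∧ h * negSwap = negSwap * h ∧ (h : M3) 1 1 - (h : M3) 1 2 = 1 := by
  have hcomm : ∀ e ∈ std w, n * kr (e, 1) = kr (e, 1) * n := fun e he => by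
    obtain ⟨r, -, hr⟩ := O.conj_left hn hnk he
    rw [mul_inv_eq_iff_eq_mul] at hr
    have h1 := congrArg rh hr
    rw [rh_mul (left_comm_kk e), rh_mul hnk, hr1, one_mul, mul_one, rh_left, rh_left] at h1
    rw [hr, ← Units.ext h1]
  refine ⟨hcomm, ?_⟩
  obtain ⟨m, hm⟩ : ∃ m, m = sw * n * sw := ⟨_, rfl⟩
  have hmc : ∀ e ∈ std w, m * kr (1, e) = kr (1, e) * m := fun e he => by
    rw [hm, ← sw_kr e 1]
    have := hcomm e he
    calc sw * n * sw * (sw * kr (e, 1) * sw) = sw * (n * kr (e, 1)) * sw := by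
          simp only [mul_assoc]
          rw [← mul_assoc sw sw, sw_mul_self, one_mul]
      _ = _ := by
          rw [this]
          simp only [mul_assoc]
          rw [← mul_assoc sw sw, sw_mul_self, one_mul]
  obtain ⟨c, hc⟩ := exists_blk O.hw O.hw1 (hmc _ (dia_A_mem w))
  have hs := mul_inv_eq_iff_eq_mul.2 (hmc _ (cyc_mem w)).symm
  rw [hc, shift_blk, blk_injective.eq_iff] at hs
  have hce : c = fun _ => c 0 := funext fun a => by
    have h10 := congrFun hs 1
    have h21 := congrFun hs 2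
    fin_cases a
    · rfl
    · simpa using h10.symm
    · exact (by simpa using h21.symm : c 2 = c 1).trans (by simpa using h10.symm)
  rw [hce, blk_const] at hc
  have hnh : n = kr (1, c 0) := by
    rw [← sw_kr (c 0) 1, ← hc, hm]
    simp only [mul_assoc, sw_mul_self, mul_one]
    rw [← mul_assoc, sw_mul_self, one_mul]
  have hmK : blk (fun _ => c 0) ∈ K := by
    rw [blk_const, ← hc, hm]
    exact O.ov.swK hnK
  obtain ⟨M, hM⟩ := O.acts hmK 0
  refine ⟨c 0, M, hnh, hM, ?_, ?_⟩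
  · rw [hnh, kk, kr_mul, kr_mul] at hnk
    have h2 := congrArg (fun g => sw * g * sw) hnk
    simp only [sw_kr, mul_one, one_mul] at h2
    exact kr_left_inj h2
  · rw [hnh, rh_kr, Units.val_one] at hr1
    simpa using congrFun (congrFun hr1 0) 0

/-- The kernel on the fixed space normalises. -/
theorem Over.kernel_mem (O : Over w p K) {q : G9} (hqK : q ∈ K) (hqk : q * kk = kk * q) (hq1 : rh q = 1) :
    q ∈ Subgroup.normalizer (std9 w : Set G9) := by
  classical
  haveI : Finite (GL (Fin 3) F) := Finite.of_injective _ Units.val_injective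
  haveI : Finite G9 := Finite.of_injective _ Units.val_injective
  have hw := O.hw
  have hw1 := O.hw1
  obtain ⟨Q', hQd⟩ : ∃ Q' : Subgroup G9,
      Q' = K ⊓ (rho (F := F)).ker.map (Subgroup.centralizer ({kk} : Set G9)).subtype := ⟨_, rfl⟩
  have hQm : ∀ x, x ∈ Q' ↔ x ∈ K ∧ x * kk = kk * x ∧ rh x = 1 := fun x => by
    rw [hQd, Subgroup.mem_inf]
    refine and_congr_right fun _ => ⟨?_, fun h => ?_⟩
    · rintro ⟨c, hc, rfl⟩
      exact ⟨mem_centralizer_kk.1 c.2, by simpa [coe_rho] using congrArg Units.val (MonoidHom.mem_ker.1 hc)⟩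
    · exact ⟨⟨x, mem_centralizer_kk.2 h.1⟩, MonoidHom.mem_ker.2 (Units.ext h.2), rfl⟩
  obtain ⟨π, hπ⟩ : ∃ π, π = QuotientGroup.mk' (Subgroup.center G9) := ⟨_, rfl⟩
  have hsep : ∀ {x y : G9}, rh x = 1 → rh y = 1 → π x = π y → x = y := fun {x y} hx hy e => by
    obtain ⟨z, hz⟩ := exists_smul_of_mk (hπ ▸ e)
    have h1 := rh_smul hz
    rw [hx, hy] at h1
    have hz1 : z = 1 := by simpa using (congrFun (congrFun h1 0) 0).symm
    exact Units.ext (by rw [hz, hz1, one_smul])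
  -- the operators
  obtain ⟨A, hA⟩ : ∃ A, A = (std w).map (π.comp (kr.comp (MonoidHom.inl G3 G3))) := ⟨_, rfl⟩
  have hAv : ∀ a, a ∈ A ↔ ∃ v : V2, a = π (kr (mv w v, 1)) := fun a => by
    rw [hA]
    constructor
    · rintro ⟨r, hr, rfl⟩
      obtain ⟨v, hv⟩ := exists_mv hw hw1 hr
      obtain ⟨z, hz⟩ := kr_of_pr hv (rfl : pr (1 : G3) = pr 1)
      exact ⟨v, hπ ▸ mk_eq_of_smul hz⟩
    · rintro ⟨v, rfl⟩
      exact ⟨mv w v, mv_mem v, rfl⟩
  have hinj : ∀ {u v : V2}, π (kr (mv w u, 1)) = π (kr (mv w v, (1 : G3))) → u = v := fun {u v} e => by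
    obtain ⟨z, hz⟩ := exists_smul_of_mk (hπ ▸ e)
    have h1 := rh_smul hz
    rw [rh_left, rh_left] at h1
    exact pr_mv_inj hw hw1 (pr_eq_pr.2 ⟨z, h1⟩)
  have hadd : ∀ u v : V2, π (kr (mv w u, 1)) * π (kr (mv w v, (1 : G3))) = π (kr (mv w (u + v), 1)) := fun u v => by
    rw [← map_mul, kr_mul, mul_one]
    obtain ⟨z, hz⟩ := kr_of_pr (s := (1 : G3)) (s' := 1)
      (show pr (mv w u * mv w v) = pr (mv w (u + v)) by rw [map_mul, pr_mv_add hw hw1]) rfl
    exact hπ ▸ mk_eq_of_smul hz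
  have hA9 : Nat.card A = 9 := by
    rw [← Nat.card_congr (Equiv.ofBijective (fun v : V2 => (⟨_, (hAv _).2 ⟨v, rfl⟩⟩ : A))
      ⟨fun u v e => hinj (congrArg Subtype.val e), fun a => ?_⟩)]
    · simp
    · obtain ⟨v, hv⟩ := (hAv _).1 a.2
      exact ⟨v, Subtype.ext hv.symm⟩
  have hcube : ∀ a : A, a ^ 3 = 1 := fun a => by
    obtain ⟨v, hv⟩ := (hAv _).1 a.2
    refine Subtype.ext ?_
    rw [SubmonoidClass.coe_pow, hv, _root_.pow_three, hadd, hadd,
      (show ∀ v : V2, v + (v + v) = 0 by decide +kernel) v, mv_zero, show ((1, 1) : G3 × G3) = 1 from rfl, map_one,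
      map_one]
    rfl
  obtain ⟨Q0', hQ0d⟩ : ∃ Q0', Q0' = Q' ⊓ Subgroup.normalizer (std9 w : Set G9) := ⟨_, rfl⟩
  -- the small group
  have hshape : ∀ x : Q0', ∃ M : {M : S2 // M.det = 1}, ∃ h : G3, (x : G9) = kr (1, h) ∧ Acts w h M.1 := fun x => by
    have hx := x.2
    simp only [hQ0d, Subgroup.mem_inf, hQm] at hx
    obtain ⟨-, h, M, e, hM, -, -⟩ := O.kernel_shape hx.1.1 hx.2 hx.1.2.1 hx.1.2.2
    exact ⟨⟨M, hM.det hw hw1⟩, h, e, hM⟩
  choose f g hg hf using hshape
  have hkr_inj : ∀ {a b : G3}, kr ((1 : G3), a) = kr (1, b) → a = b := fun {a b} e => by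
    have := congrArg (fun t => sw * t * sw) e
    simp only [sw_kr] at this
    exact kr_left_inj this
  have hfmul : ∀ x y, (f (x * y)).1 = (f x).1 * (f y).1 := fun x y => by
    refine (hf (x * y)).unique hw hw1 ?_
    have e : g (x * y) = g x * g y := hkr_inj (by
      rw [← hg, Subgroup.coe_mul, hg x, hg y, kr_mul, one_mul])
    rw [e]
    exact (hf x).mul hw hw1 (hf y)
  have hf1 : ∀ x, (f x).1 = 1 → x = 1 := fun x h1 => by
    have hx := x.2
    simp only [hQ0d, Subgroup.mem_inf, hQm] at hx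
    obtain ⟨-, h, M, e, hM, hJ, hu⟩ := O.kernel_shape hx.1.1 hx.2 hx.1.2.1 hx.1.2.2
    have hgh : g x = h := hkr_inj ((hg x).symm.trans e)
    have hA1 := hf x
    rw [h1, hgh] at hA1
    obtain ⟨v, hv⟩ := exists_mv_of_acts_one hw hw1 hA1
    rw [eq_zero_of_comm hw hw1 hv hJ, mv_zero, map_one, pr_eq_one] at hv
    obtain ⟨z, hz⟩ := hv
    rw [hz] at hu
    simp at hu
    rw [hu, one_smul] at hz
    refine Subtype.ext ?_
    rw [e, (Units.ext hz : h = 1), kr_one_one, OneMemClass.coe_one]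
  have hfinj : Function.Injective f := fun x y e => by
    have h1 : (f (x * y⁻¹)).1 = 1 := by
      rw [hfmul, e, ← hfmul, mul_inv_cancel]
      have hone := hfmul 1 1
      rw [one_mul] at hone
      have hd : IsUnit (f 1).1.det := by rw [(f 1).2]; exact isUnit_one
      have h2 := congrArg ((f 1).1⁻¹ * ·) hone
      simp only [← mul_assoc, Matrix.nonsing_inv_mul _ hd, one_mul] at h2
      exact h2.symm
    exact mul_inv_eq_one.1 (hf1 _ h1)
  have hf0 : (f 1).1 = 1 := by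
    have hone := hfmul 1 1
    rw [one_mul] at hone
    have hd : IsUnit (f 1).1.det := by rw [(f 1).2]; exact isUnit_one
    have h2 := congrArg ((f 1).1⁻¹ * ·) hone
    simp only [← mul_assoc, Matrix.nonsing_inv_mul _ hd, one_mul] at h2
    exact h2.symm
  let f' : Q0' →* Matrix.SpecialLinearGroup (Fin 2) (ZMod 3) :=
    { toFun := fun x => f x
      map_one' := Subtype.ext hf0
      map_mul' := fun x y => Subtype.ext (hfmul x y) }
  have hOp : Op A (Q'.map π) (Q0'.map π) := by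
    refine ⟨hA9, fun hcyc => ?_, ⟨⟨fun a b => ?_⟩⟩, ?_, Subgroup.map_mono (hQ0d ▸ inf_le_left), ?_, ?_, ?_, ?_⟩
    · obtain ⟨a, ha⟩ := hcyc.exists_ofOrder_eq_natCard
      have := orderOf_dvd_of_pow_eq_one (hcube a)
      rw [ha, hA9] at this
      norm_num at this
    · obtain ⟨u, hu⟩ := (hAv _).1 a.2
      obtain ⟨v, hv⟩ := (hAv _).1 b.2
      exact Subtype.ext (by rw [Subgroup.coe_mul, Subgroup.coe_mul, hu, hv, hadd, hadd, add_comm])
    · have key : ∀ b ∈ A, ∀ x ∈ Q'.map π, b * x * b⁻¹ ∈ Q'.map π := by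
        rintro b hb _ ⟨x, hx, rfl⟩
        obtain ⟨v, rfl⟩ := (hAv _).1 hb
        rw [← map_inv, ← map_mul, ← map_mul]
        refine Subgroup.mem_map_of_mem π ?_
        have hx' := (hQm x).1 hx
        have hi : (kr (mv w v, (1 : G3)))⁻¹ * kk = kk * (kr (mv w v, 1))⁻¹ := by
          rw [kr_inv, inv_one]; exact left_comm_kk _
        refine (hQm _).2 ⟨mul_mem (mul_mem (O.std_left (mv_mem v)) hx'.1) (inv_mem (O.std_left (mv_mem v))), ?_, ?_⟩
        · exact ((show Commute (kr (mv w v, 1)) kk from left_comm_kk _).mul_left hx'.2.1).mul_left hi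
        · rw [rh_mul hi, rh_mul hx'.2.1, hx'.2.2, mul_one, ← rh_mul hi, mul_inv_cancel, rh_one]
      intro a ha
      refine Subgroup.mem_normalizer_iff.2 fun x => ⟨key a ha x, fun hx => ?_⟩
      have := key a⁻¹ (inv_mem ha) _ hx
      simpa [mul_assoc] using this
    · rintro a ha ha1 _ ⟨x, hx, rfl⟩ hc
      obtain ⟨v, rfl⟩ := (hAv _).1 ha
      refine Subgroup.mem_map_of_mem π ?_
      rw [hQ0d]
      refine ⟨hx, ?_⟩
      have hx' := (hQm x).1 hx
      rw [← map_mul, ← map_mul] at hc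
      obtain ⟨z, hz⟩ := exists_smul_of_mk (hπ ▸ hc)
      have h1 := rh_smul hz
      rw [rh_mul (left_comm_kk _), rh_mul hx'.2.1, hx'.2.2, one_mul, mul_one, rh_left] at h1
      have hz1 : z = 1 := by
        refine smul_left_injective F (show ((mv w v : G3) : M3) ≠ 0 from Units.ne_zero _) ?_
        show z • _ = (1 : F) • _
        rw [← h1, one_smul]
      rw [hz1, one_smul] at hz
      refine O.mem_of_commute (kr_mem_std9 (mv_mem v) (one_mem _)) (fun c hc' => ha1 ?_) hx'.1 (Units.ext hz)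
      have h0 : π (kr (mv w v, (1 : G3))) = π 1 :=
        hπ ▸ mk_eq_of_smul (show _ = c • ((1 : G9) : M9) by rw [hc', Units.val_one])
      rw [h0, map_one]
    · rintro a ha _ ⟨x, hx, rfl⟩
      obtain ⟨v, rfl⟩ := (hAv _).1 ha
      simp only [hQ0d, SetLike.mem_coe, Subgroup.mem_inf, hQm] at hx
      rw [← map_mul, ← map_mul, (O.kernel_shape hx.1.1 hx.2 hx.1.2.1 hx.1.2.2).1 _ (mv_mem v)]
    · intro h9
      have h1 := Subgroup.card_dvd_of_injective f' hfinj
      rw [card_sl2] at h1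
      have h2 : Nat.card (Q0'.map π) ∣ Nat.card Q0' := Subgroup.card_map_dvd Q0' π
      exact absurd ((h9.trans h2).trans h1) (by norm_num)
    · rintro _ ⟨x, hx, rfl⟩ _ ⟨y, hy, rfl⟩ h3 hxy
      have hrh : ∀ t ∈ Q0', rh t = 1 := fun t ht => by
        rw [hQ0d] at ht
        exact ((hQm t).1 ht.1).2.2
      have hy3 : y * (y * y) = 1 := hsep (hrh _ (mul_mem hy (mul_mem hy hy))) (hrh _ (one_mem _)) (by
        rw [map_mul, map_mul, map_one, ← _root_.pow_three]; exact h3)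
      have hxy' : x * y * x⁻¹ = y⁻¹ := hsep (hrh _ (mul_mem (mul_mem hx hy) (inv_mem hx))) (hrh _ (inv_mem hy)) (by
        rw [map_mul, map_mul, map_inv, map_inv]; exact hxy)
      have e3 : (⟨y, hy⟩ : Q0') * (⟨y, hy⟩ * ⟨y, hy⟩) = 1 := Subtype.ext hy3
      have ec : (⟨x, hx⟩ : Q0') * ⟨y, hy⟩ = ⟨y, hy⟩ * ⟨y, hy⟩ * ⟨x, hx⟩ := Subtype.ext (by
        show x * y = y * y * x
        rw [mul_inv_eq_iff_eq_mul.1 hxy', inv_eq_of_mul_eq_one_right hy3])
      have k1 := congrArg (fun t => (f t).1) e3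
      simp only [hfmul, hf0] at k1
      have k2 := congrArg (fun t => (f t).1) ec
      simp only [hfmul] at k2
      have hyf : (f ⟨y, hy⟩).1 = 1 := sl2_not_real _ (f ⟨y, hy⟩).2 k1 _ (f ⟨x, hx⟩).2 k2
      rw [show y = 1 from congrArg Subtype.val (hf1 _ hyf), map_one]
  have hmem := hOp.eq (Subgroup.mem_map_of_mem π ((hQm q).2 ⟨hqK, hqk, hq1⟩))
  obtain ⟨q0, hq0, e⟩ := hmem
  rw [hQ0d] at hq0
  exact hsep ((hQm q0).1 hq0.1).2.2 hq1 e ▸ hq0.2

theorem Over.commute_of_rh (O : Over w p K) {c : G9} (hcK : c ∈ K) (hck : c * kk = kk * c) {e : G3} (he : e ∈ std w)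
    (h : rh c * (e : M3) = (e : M3) * rh c) : c * kr (e, 1) = kr (e, 1) * c := by
  haveI : Finite (GL (Fin 3) F) := Finite.of_injective _ Units.val_injective
  have hw := O.hw
  have hw1 := O.hw1
  have hci : c⁻¹ * kk = kk * c⁻¹ := (show Commute c kk from hck).inv_left.eq
  obtain ⟨x, hx⟩ : ∃ x, x = c * kr (e, 1) * c⁻¹ := ⟨_, rfl⟩
  obtain ⟨q, hq⟩ : ∃ q, q = (kr (e, (1 : G3)))⁻¹ * x := ⟨_, rfl⟩
  have hE := O.std_left he
  have hEi : (kr (e, (1 : G3)))⁻¹ * kk = kk * (kr (e, 1))⁻¹ := (show Commute _ kk from left_comm_kk e).inv_left.eq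
  have hxk : x * kk = kk * x := by
    rw [hx]; exact ((show Commute c kk from hck).mul_left (left_comm_kk e)).mul_left hci
  have hxr : rh x = (e : M3) := by
    rw [hx, rh_mul hci, rh_mul (left_comm_kk e), rh_left, h, mul_assoc, ← rh_mul hci, mul_inv_cancel, rh_one, mul_one]
  have hqK : q ∈ K := by rw [hq, hx]; exact mul_mem (inv_mem hE) (mul_mem (mul_mem hcK hE) (inv_mem hcK))
  have hqk : q * kk = kk * q := by rw [hq]; exact (show Commute _ kk from hEi).mul_left hxk
  have hq1 : rh q = 1 := by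
    rw [hq, rh_mul hxk, hxr, ← rh_left e, ← rh_mul (left_comm_kk e), inv_mul_cancel, rh_one]
  -- the discrepancy is central in the kernel
  have hsh := O.kernel_shape hqK (O.kernel_mem hqK hqk hq1) hqk hq1
  obtain ⟨hcomm, hq', M, hqe, hM, hJ, hu⟩ := hsh
  have hcent : ∀ s ∈ K, s * kk = kk * s → rh s = 1 → x * s = s * x := fun s hs hsk hs1 => by
    obtain ⟨s', hs'⟩ : ∃ s', s' = c⁻¹ * s * c := ⟨_, rfl⟩
    have hk' : s' * kk = kk * s' := by
      rw [hs']; exact ((show Commute _ kk from hci).mul_left hsk).mul_left hck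
    have h1' : rh s' = 1 := by
      rw [hs', rh_mul hck, rh_mul hsk, hs1, mul_one, ← rh_mul hck, inv_mul_cancel, rh_one]
    have hK' : s' ∈ K := by rw [hs']; exact mul_mem (mul_mem (inv_mem hcK) hs) hcK
    have hc' := (O.kernel_shape hK' (O.kernel_mem hK' hk' h1') hk' h1').1 e he
    rw [hs'] at hc'
    rw [hx]
    calc c * kr (e, 1) * c⁻¹ * s = c * (kr (e, 1) * (c⁻¹ * s * c)) * c⁻¹ := by group
      _ = c * (c⁻¹ * s * c * kr (e, 1)) * c⁻¹ := by rw [hc']
      _ = _ := by group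
  have hfour : ∀ f : G3, f ∈ Subgroup.normalizer (std w : Set G3) → (f : M3).det = 1 →
      (f : M3) 1 1 - (f : M3) 1 2 = 1 → f * negSwap = negSwap * f → hq' * f = f * hq' := fun f hf hfd hfu hfJ => by
    have hK : kr ((1 : G3), f) ∈ K := O.kr_mem (one_mem _) hf (by simp [hfd])
    have hk : kr ((1 : G3), f) * kk = kk * kr (1, f) := by rw [kk, kr_mul, kr_mul, hfJ]
    have h1 : rh (kr ((1 : G3), f)) = 1 := by rw [rh_kr, hfu, one_smul, Units.val_one]
    have h2 : q * kr (1, f) = kr (1, f) * q := by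
      rw [hq]
      have ha := hcent _ hK hk h1
      have hb : (kr (e, (1 : G3)))⁻¹ * kr (1, f) = kr (1, f) * (kr (e, 1))⁻¹ := by
        rw [kr_inv, inv_one, kr_mul, kr_mul, one_mul, mul_one, one_mul, mul_one]
      rw [mul_assoc, ha, ← mul_assoc, hb, mul_assoc]
    rw [hqe, kr_mul, kr_mul] at h2
    have h3 := congrArg (fun t => sw * t * sw) h2
    simp only [sw_kr, one_mul] at h3
    exact kr_left_inj h3
  obtain ⟨hf1, hf2, hf3, hf4⟩ := four_facts (F := F) hw hw1
  have c1 := hfour _ (four_mem_normalizer hw hw1) (det_four hw hw1) hf1 hf2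
  have c2 := hfour _ (four'_mem_normalizer hw hw1) (det_four' hw hw1) hf3 hf4
  -- its cube is trivial
  have hq3 : hq' ^ 3 = 1 := by
    have hxe : x ^ 3 = 1 := by
      rw [hx, conj_pow, ← map_pow, Prod.pow_mk, one_pow, Ov.no_one_t.std_pow_three hw hw1 he,
        show ((1, 1) : G3 × G3) = 1 from rfl, map_one, mul_one, mul_inv_cancel]
    have hxq : x = kr (e, hq') := by
      rw [show x = kr (e, 1) * q by rw [hq, mul_inv_cancel_left], hqe, kr_mul, mul_one, one_mul]
    rw [hxq, ← map_pow, Prod.pow_mk, Ov.no_one_t.std_pow_three hw hw1 he] at hxe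
    have h3 := congrArg (fun t => sw * t * sw) hxe
    simp only [sw_kr, mul_one, sw_mul_self] at h3
    exact kr_left_inj (h3.trans (by rw [show ((1, 1) : G3 × G3) = 1 from rfl, map_one]))
  have one : Acts w (1 : G3) (1 : S2) := acts_of_pr hw hw1 (v := 0) (by rw [mv_zero])
  have hM3 : M * M * M = 1 := ((hM.mul hw hw1 hM).mul hw hw1 hM).unique hw hw1 (by
    rw [show hq' * hq' * hq' = 1 by rw [← hq3, _root_.pow_three, mul_assoc]]
    exact one)
  obtain ⟨P, hP⟩ : ∃ P : S2, Acts w (four' hw hw1) P ∧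
      P = !![1, 2; 0, 1] * !![0, 1; -1, 0] * (!![1, 2; 0, 1] * !![1, 2; 0, 1]) := by
    refine ⟨_, ?_, rfl⟩
    rw [four', dd_inv hw]
    exact ((acts_dd hw hw1).mul hw hw1 (acts_four hw hw1)).mul hw hw1
      ((acts_dd hw hw1).mul hw hw1 (acts_dd hw hw1))
  have e1 : M * !![0, 1; -1, 0] = !![0, 1; -1, 0] * M := (hM.mul hw hw1 (acts_four hw hw1)).unique hw hw1
    (by rw [c1]; exact (acts_four hw hw1).mul hw hw1 hM)
  have e2 : M * P = P * M := (hM.mul hw hw1 hP.1).unique hw hw1 (by rw [c2]; exact hP.1.mul hw hw1 hM)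
  rw [hP.2] at e2
  have hM1 : M = 1 := sl2_cent M (hM.det hw hw1) hM3 e1 e2
  rw [hM1] at hM
  obtain ⟨v, hv⟩ := exists_mv_of_acts_one hw hw1 hM
  rw [eq_zero_of_comm hw hw1 hv hJ, mv_zero, map_one, pr_eq_one] at hv
  obtain ⟨z, hz⟩ := hv
  rw [hz] at hu
  simp at hu
  rw [hu, one_smul] at hz
  rw [(Units.ext hz : hq' = 1), kr_one_one] at hqe
  rw [hq, inv_mul_eq_one] at hqe
  rw [hx] at hqe
  exact mul_inv_eq_iff_eq_mul.1 hqe.symm

/-- The centraliser of the involution normalises. -/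
theorem Over.centralizer_kk (O : Over w p K) {c : G9} (hcK : c ∈ K) (hck : c * kk = kk * c) :
    c ∈ Subgroup.normalizer (std9 w : Set G9) := by
  classical
  haveI : Finite (GL (Fin 3) F) := Finite.of_injective _ Units.val_injective
  haveI : Finite G9 := Finite.of_injective _ Units.val_injective
  have hw := O.hw
  have hw1 := O.hw1
  obtain ⟨Γ, hΓ⟩ : ∃ Γ : Subgroup G3,
      Γ = (K.subgroupOf (Subgroup.centralizer ({kk} : Set G9))).map (rho (F := F)) := ⟨_, rfl⟩
  have hleft : ∀ {g : G3}, g ∈ Subgroup.normalizer (std w : Set G3) → (g : M3).det = 1 → g ∈ Γ := fun {g} hg hd => by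
    rw [hΓ]
    exact ⟨⟨kr (g, 1), mem_centralizer_kk.2 (left_comm_kk g)⟩, O.left_mem hg (by rw [hd, one_pow]),
      Units.ext (rh_left g)⟩
  rcases acts_or_sl O.prime O.card O.dvd hw hw1 (Γ := Γ)
      (hleft (Subgroup.le_normalizer (dia_A_mem w)) (det_dia_A hw hw1))
      (hleft (Subgroup.le_normalizer (cyc_mem w)) det_cyc) (hleft (negSwap_mem_normalizer hw) det_negSwap)
      (hleft (four_mem_normalizer hw hw1) (det_four hw hw1))
      (hleft (four'_mem_normalizer hw hw1) (det_four' hw hw1)) with h | h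
  · obtain ⟨M, hM⟩ := h (rho ⟨c, mem_centralizer_kk.2 hck⟩) (by rw [hΓ]; exact ⟨_, hcK, rfl⟩)
    obtain ⟨l, hl, hA⟩ := exists_lift hw hw1 (hM.det hw hw1)
    have hlN := hA.mem_normalizer hw hw1
    have hAi : Acts w l⁻¹ M⁻¹ := fun v => by
      have hu : IsUnit M.det := by rw [hM.det hw hw1]; exact isUnit_one
      have := hA (M⁻¹ *ᵥ v)
      rw [Matrix.mulVec_mulVec, Matrix.mul_nonsing_inv _ hu, Matrix.one_mulVec] at this
      rw [map_inv, inv_inv, ← this]
      group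
    have h1 := hAi.mul hw hw1 hM
    rw [Matrix.nonsing_inv_mul _ (by rw [hM.det hw hw1]; exact isUnit_one)] at h1
    obtain ⟨v, hv⟩ := exists_mv_of_acts_one hw hw1 h1
    obtain ⟨d, hd⟩ : ∃ d, d = kr (mv w (-v) * l⁻¹, (1 : G3)) * c := ⟨_, rfl⟩
    have hK1 : kr (mv w (-v) * l⁻¹, (1 : G3)) ∈ K := by
      rw [show kr (mv w (-v) * l⁻¹, (1 : G3)) = kr (mv w (-v), 1) * (kr (l, 1))⁻¹ by
        rw [kr_inv, inv_one, kr_mul, mul_one]]
      exact mul_mem (O.std_left (mv_mem _)) (inv_mem (O.ov.kr_lift hl))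
    have hN1 : kr (mv w (-v) * l⁻¹, (1 : G3)) ∈ Subgroup.normalizer (std9 w : Set G9) :=
      kr_mem_normalizer (mul_mem (Subgroup.le_normalizer (mv_mem _)) (inv_mem hlN)) (one_mem _)
    have hdk : d * kk = kk * d := by
      rw [hd]; exact (show Commute _ kk from left_comm_kk _).mul_left hck
    have hdK : d ∈ K := hd ▸ mul_mem hK1 hcK
    obtain ⟨z, hz⟩ : ∃ z : F, rh d = z • 1 := by
      have e : pr (mv w (-v) * l⁻¹ * rho ⟨c, mem_centralizer_kk.2 hck⟩) = 1 := by
        rw [mul_assoc, map_mul, hv, ← pr_mv_add hw hw1, neg_add_cancel, mv_zero, map_one]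
      obtain ⟨z, hz⟩ := pr_eq_one.1 e
      refine ⟨z, ?_⟩
      rw [hd, rh_mul hck, rh_left, ← hz]
      simp only [Units.val_mul, coe_rho]
    have hdn : d ∈ Subgroup.normalizer (std9 w : Set G9) := by
      refine O.mem_of_commute (kr_mem_std9 (dia_A_mem w) (one_mem _)) (fun t ht => ?_) hdK
        (O.commute_of_rh hdK hdk (dia_A_mem w) (by rw [hz, Matrix.smul_mul, Matrix.mul_smul, one_mul, mul_one]))
      have h00 := congrFun (congrFun ht (0, 0)) (0, 0)
      have h11 := congrFun (congrFun ht (1, 0)) (1, 0)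
      simp [kr_apply, coe_dia, A] at h00 h11
      exact hw1 (Units.ext (by rw [Units.val_one]; exact h11.trans h00.symm))
    have hce : c = (kr (mv w (-v) * l⁻¹, (1 : G3)))⁻¹ * d := by rw [hd, inv_mul_cancel_left]
    rw [hce]
    exact mul_mem (inv_mem hN1) hdn
  exfalso
  obtain ⟨s, hs⟩ := O.exists_cube_ne
  obtain ⟨⟨d, hdk'⟩, hdK, hdt⟩ : (dia ![s, s⁻¹, 1] : G3) ∈ (K.subgroupOf (Subgroup.centralizer ({kk} : Set G9))).map
      (rho (F := F)) := hΓ ▸ h ((mem_sl _).2 (by rw [coe_dia, Matrix.det_diagonal, Fin.prod_univ_three]; simp))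
  have hdk := mem_centralizer_kk.1 hdk'
  have hdK : d ∈ K := hdK
  have hrd : rh d = ((dia ![s, s⁻¹, 1] : G3) : M3) := congrArg Units.val hdt
  have hdn : d ∈ Subgroup.normalizer (std9 w : Set G9) := by
    refine O.mem_of_commute (kr_mem_std9 (dia_A_mem w) (one_mem _)) (fun t ht => ?_) hdK
      (O.commute_of_rh hdK hdk (dia_A_mem w) (by rw [hrd, ← Units.val_mul, ← Units.val_mul, ← map_mul, ← map_mul, mul_comm]))
    have h00 := congrFun (congrFun ht (0, 0)) (0, 0)
    have h11 := congrFun (congrFun ht (1, 0)) (1, 0)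
    simp [kr_apply, coe_dia, A] at h00 h11
    exact hw1 (Units.ext (by rw [Units.val_one]; exact h11.trans h00.symm))
  obtain ⟨r, hr, hre⟩ := O.conj_left hdn hdk (cyc_mem w)
  rw [mul_inv_eq_iff_eq_mul] at hre
  have h1 := congrArg rh hre
  rw [rh_mul (left_comm_kk _), rh_mul hdk, rh_left, rh_left, hrd, ← Units.val_mul, ← Units.val_mul] at h1
  have h2 : r * (cyc : G3)⁻¹ = dia (![s, s⁻¹, 1] * (prev ![s, s⁻¹, 1])⁻¹) := by
    rw [map_mul, map_inv, eq_mul_inv_iff_mul_eq, mul_assoc]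
    have h3 : r * dia ![s, s⁻¹, 1] = dia ![s, s⁻¹, 1] * cyc := (Units.ext h1).symm
    have h4 : (cyc : G3)⁻¹ * dia (prev ![s, s⁻¹, 1]) = dia ![s, s⁻¹, 1] * (cyc : G3)⁻¹ := by
      rw [inv_mul_eq_iff_eq_mul, ← mul_assoc, cyc_mul_dia, mul_inv_cancel_right]
    rw [h4, ← mul_assoc, h3, mul_inv_cancel_right]
  obtain ⟨v, hv⟩ := exists_mv hw hw1 (mul_mem hr (inv_mem (cyc_mem w)))
  rw [h2] at hv
  rw [show (![s, s⁻¹, 1] : Fin 3 → Fˣ) * (prev ![s, s⁻¹, 1])⁻¹ = ![s, (s * s)⁻¹, s] by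
    funext i; fin_cases i <;> simp [prev]] at hv
  obtain ⟨z, hz⟩ := pr_eq_pr.1 hv
  have hj : v 1 = 0 := by
    have h00 := congrFun (congrFun hz 0) 0
    by_contra hne
    rcases (show ∀ x : ZMod 3, x ≠ 0 → x = 1 ∨ x = 2 by decide) _ hne with e | e <;>
      simp [mv, e, pow_two, coe_dia, coe_cyc, ZMod.val_one, show (2 : ZMod 3).val = 2 from rfl,
        Matrix.mul_apply, Fin.sum_univ_three, Matrix.diagonal_pow, Matrix.diagonal_apply] at h00
  have h00 := congrFun (congrFun hz 0) 0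
  have h11 := congrFun (congrFun hz 1) 1
  have h22 := congrFun (congrFun hz 2) 2
  have hA : ∀ n : ℕ, (Matrix.diagonal fun i => (A w i : F)) ^ n = Matrix.diagonal fun i : Fin 3 => (A w i : F) ^ n :=
    fun n => Matrix.diagonal_pow _ n
  simp [mv, hj, coe_dia, hA] at h00 h11 h22
  simp [A] at h00 h11 h22
  obtain ⟨a, ha⟩ : ∃ a, a = (w : F) ^ (v 0).val := ⟨_, rfl⟩
  have ha3 : a ^ 3 = 1 := by rw [ha, ← pow_mul, mul_comm, pow_mul, (sum_pow hw hw1).1, one_pow]
  rw [← h00] at h11 h22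
  have ha2 : a ^ 2 = 1 := by
    refine mul_left_cancel₀ s.ne_zero ?_
    rw [mul_one]
    refine Eq.trans ?_ h22.symm
    rw [ha, ← pow_mul, ← pow_mul, mul_comm 2]
  have ha1 : a = 1 := by linear_combination ha3 - a * ha2
  rw [← ha, ha1, mul_one] at h11
  refine hs (Units.ext ?_)
  rw [Units.val_pow_eq_pow_val, Units.val_one]
  field_simp at h11
  linear_combination -h11

end Cfsg.Agent.Classical.LinNine
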