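import Cfsg.Agent.Lib.Classical.LinNine.Kern

/-!
Degree nine: every group of determinant one above the normaliser of the standard group of order 243 normalises it or
contains the special linear group.
-/

set_option autoImplicit false
set_option linter.unusedSectionVars false
set_option maxHeartbeats 1000000

namespace Cfsg.Agent.Classical.LinNine

open Matrix HeisenbergThree SLThree.Hessian

universe u

variable {F : Type u} [Field F] {w : Fˣ}

local notation "G3" => GL (Fin 3) F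
local notation "M3" => Matrix (Fin 3) (Fin 3) F
local notation "G9" => GL (Fin 3 × Fin 3) F
local notation "M9" => Matrix (Fin 3 × Fin 3) (Fin 3 × Fin 3) F
local notation "V2" => (Fin 2 → ZMod 3)
local notation "S2" => Matrix (Fin 2) (Fin 2) (ZMod 3)

/-- Two involutions which are not conjugate centralise a common involution. -/
theorem exists_common_invol {G : Type*} [Group G] [Finite G] {s t : G} (hs : s * s = 1) (ht : t * t = 1)
    (hne : ∀ g : G, g * s * g⁻¹ ≠ t) :
    ∃ z : G, z ≠ 1 ∧ z * z = 1 ∧ z * s = s * z ∧ z * t = t * z ∧ ∃ n : ℕ, z = (s * t) ^ n := by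
  obtain ⟨a, ha⟩ : ∃ a, a = s * t := ⟨_, rfl⟩
  have hinv : ∀ m : ℕ, s * a ^ m = (a ^ m)⁻¹ * s := fun m => by
    have h1 : s * a * s⁻¹ = a⁻¹ := by
      rw [ha, inv_eq_of_mul_eq_one_right hs, _root_.mul_inv_rev, inv_eq_of_mul_eq_one_right hs,
        inv_eq_of_mul_eq_one_right ht, ← mul_assoc s s, hs, one_mul]
    rw [← inv_pow, ← h1, conj_pow, inv_mul_cancel_right]
  rcases Nat.even_or_odd' (orderOf a) with ⟨n, hn | hn⟩
  · have hz1 : a ^ n ≠ 1 := fun e => by
      have h0 := orderOf_pos a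
      have := Nat.le_of_dvd (by omega) (orderOf_dvd_of_pow_eq_one e)
      omega
    have hz2 : a ^ n * a ^ n = 1 := by rw [← pow_add, ← two_mul, ← hn, pow_orderOf_eq_one]
    have hzs : a ^ n * s = s * a ^ n := by rw [hinv, inv_eq_of_mul_eq_one_right hz2]
    refine ⟨a ^ n, hz1, hz2, hzs, ?_, n, by rw [ha]⟩
    have e : t = s * a := by rw [ha, ← mul_assoc, hs, one_mul]
    rw [e, ← mul_assoc, hzs, mul_assoc, mul_assoc, ← pow_succ, ← pow_succ']
  · exfalso
    have hb : a ^ (n + 1) * a ^ (n + 1) = a := by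
      rw [← pow_add, show n + 1 + (n + 1) = (2 * n + 1) + 1 by ring, ← hn, pow_succ, pow_orderOf_eq_one, one_mul]
    refine hne (a ^ (n + 1))⁻¹ ?_
    rw [inv_inv, ← hinv, mul_assoc, hb, ha, ← mul_assoc, hs, one_mul]

theorem std9_cube (hw : w ^ 3 = 1) (hw1 : w ≠ 1) {x : G9} (hx : x ∈ std9 w) : x ^ 3 = 1 := by
  obtain ⟨⟨r, s⟩, ⟨hr, hs⟩, rfl⟩ := hx
  rw [← map_pow, Prod.pow_mk, Ov.no_one_t.std_pow_three hw hw1 hr, Ov.no_one_t.std_pow_three hw hw1 hs, kr_one_one]

theorem mk_comm (hw : w ^ 3 = 1) (hw1 : w ≠ 1) {x y : G9} (hx : x ∈ std9 w) (hy : y ∈ std9 w) :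
    QuotientGroup.mk' (Subgroup.center G9) (x * y) = QuotientGroup.mk' (Subgroup.center G9) (y * x) := by
  obtain ⟨⟨r, s⟩, ⟨hr, hs⟩, rfl⟩ := hx
  obtain ⟨⟨r', s'⟩, ⟨hr', hs'⟩, rfl⟩ := hy
  have hc : ∀ {a b : G3}, a ∈ std w → b ∈ std w → pr (a * b) = pr (b * a) := fun {a b} ha hb => by
    obtain ⟨u, hu⟩ := exists_mv hw hw1 ha
    obtain ⟨v, hv⟩ := exists_mv hw hw1 hb
    rw [map_mul, map_mul, hu, hv, ← pr_mv_add hw hw1, ← pr_mv_add hw hw1, add_comm]
  rw [kr_mul, kr_mul]
  obtain ⟨z, hz⟩ := kr_of_pr (hc hr hr') (hc hs hs')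
  exact mk_eq_of_smul hz

theorem mk_one_iff {x : G9} :
    QuotientGroup.mk' (Subgroup.center G9) x = 1 ↔ ∃ z : F, (x : M9) = z • 1 := by
  constructor
  · intro h
    obtain ⟨z, hz⟩ := exists_smul_of_mk (a := x) (b := 1) (by rw [h, map_one])
    exact ⟨z, by simpa using hz⟩
  · rintro ⟨z, hz⟩
    rw [← map_one (QuotientGroup.mk' (Subgroup.center G9))]
    exact mk_eq_of_smul (show _ = z • ((1 : G9) : M9) by simpa using hz)

/-- Elements centralising the standard group modulo scalars. -/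
theorem exists_std_of_mk_comm (hw : w ^ 3 = 1) (hw1 : w ≠ 1) {g : G9}
    (h : ∀ x ∈ std9 w, QuotientGroup.mk' (Subgroup.center G9) (g * x * g⁻¹) =
      QuotientGroup.mk' (Subgroup.center G9) x) :
    ∃ r ∈ std9 w, QuotientGroup.mk' (Subgroup.center G9) g = QuotientGroup.mk' (Subgroup.center G9) r := by
  have hk : ∀ x ∈ std9 w, ∃ n : ZMod 3, g * x = kr (dia fun _ => w ^ n.val, 1) * (x * g) := fun x hx => by
    obtain ⟨c, hc⟩ := exists_smul_of_mk (h x hx)
    have h3 : c ^ 3 = 1 := by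
      have e : (g * x * g⁻¹) ^ 3 = 1 := by rw [conj_pow, std9_cube hw hw1 hx, mul_one, mul_inv_cancel]
      have := congrArg Units.val e
      rw [Units.val_pow_eq_pow_val, hc, smul_pow, ← Units.val_pow_eq_pow_val, std9_cube hw hw1 hx, Units.val_one] at this
      simpa using congrFun (congrFun this (0, 0)) (0, 0)
    have hc0 : c ≠ 0 := fun e => (g * x * g⁻¹).ne_zero (by rw [hc, e, zero_smul])
    obtain ⟨k, hk3, hk⟩ := cases_cube hw hw1 (t := Units.mk0 c hc0) (Units.ext (by simpa using h3))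
    refine ⟨k, ?_⟩
    rw [ZMod.val_natCast, Nat.mod_eq_of_lt hk3, ← hk, ← mul_assoc, ← mul_inv_eq_iff_eq_mul]
    refine Units.ext ?_
    have e1 : ((kr (dia fun _ : Fin 3 => Units.mk0 c hc0, 1) : G9) : M9) = c • 1 := by
      rw [coe_kr, coe_dia, Units.val_one, show Matrix.diagonal (fun _ : Fin 3 => ((Units.mk0 c hc0 : Fˣ) : F)) = c • 1
        from (Matrix.smul_one_eq_diagonal _).symm, Matrix.smul_kronecker, Matrix.one_kronecker_one]
    rw [hc, Units.val_mul, e1, Matrix.smul_mul, one_mul]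
  obtain ⟨i, hi⟩ := hk _ (kr_mem_std9 (dia_A_mem w) (one_mem _))
  obtain ⟨j, hj⟩ := hk _ (kr_mem_std9 (cyc_mem w) (one_mem _))
  obtain ⟨i', hi'⟩ := hk _ (kr_mem_std9 (one_mem _) (dia_A_mem w))
  obtain ⟨j', hj'⟩ := hk _ (kr_mem_std9 (one_mem _) (cyc_mem w))
  have hz : ∀ (t : Fˣ) (x : G3), dia (fun _ => t) * x = x * dia (fun _ => t) := fun t x => Units.ext (by
    rw [Units.val_mul, Units.val_mul, coe_dia, show Matrix.diagonal (fun _ : Fin 3 => (t : F)) = (t : F) • 1 from
      (Matrix.smul_one_eq_diagonal _).symm, Matrix.smul_mul, Matrix.mul_smul, one_mul, mul_one])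
  have hzz : ∀ t : Fˣ, kr ((1 : G3), dia fun _ => t) = kr (dia (fun _ => t), 1) := fun t => Units.ext (by
    rw [coe_kr, coe_kr, coe_dia, Units.val_one, show Matrix.diagonal (fun _ : Fin 3 => (t : F)) = (t : F) • 1 from
      (Matrix.smul_one_eq_diagonal _).symm, Matrix.smul_kronecker, Matrix.kronecker_smul])
  obtain ⟨m, hm⟩ : ∃ m, m = kr (mv w (![-j, i] : V2), mv w (![-j', i'] : V2)) := ⟨_, rfl⟩
  have hkill : ∀ {x : G9} {n : ZMod 3}, g * x = kr (dia fun _ => w ^ n.val, 1) * (x * g) →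
      m * x = kr (dia fun _ => w ^ (-n).val, 1) * (x * m) → m * g * x = x * (m * g) := by
    intro x n h1 h2
    have e : kr (dia fun _ => w ^ n.val, (1 : G3)) * kr (dia fun _ => w ^ (-n).val, 1) = 1 := by
      rw [kr_mul, one_mul, ← map_mul, show ((fun _ : Fin 3 => w ^ n.val) * fun _ => w ^ (-n).val) = 1 from ?_, map_one,
        kr_one_one]
      funext a
      rw [Pi.mul_apply, ← pow_add, pow_mod_three hw, Pi.one_apply,
        (show ∀ n : ZMod 3, (n.val + (-n).val) % 3 = 0 by decide) n, pow_zero]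
    have hsc := kr_scalar_comm (z := ((w ^ n.val : Fˣ) : F)) (x := dia fun _ => w ^ n.val)
      (by rw [coe_dia]; exact (Matrix.smul_one_eq_diagonal _).symm) m
    calc m * g * x = m * (kr (dia fun _ => w ^ n.val, 1) * (x * g)) := by rw [mul_assoc, h1]
      _ = kr (dia fun _ => w ^ n.val, 1) * (m * x) * g := by
        rw [← mul_assoc m, ← hsc]; simp only [mul_assoc]
      _ = _ := by rw [h2, ← mul_assoc, e, one_mul, mul_assoc]
  have hbr : ∀ a b : ZMod 3, br (![-b, a] : V2) ![1, 0] = -a ∧ br (![-b, a] : V2) ![0, 1] = -b := by decide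
  have hmA : ∀ (a b : ZMod 3), mv w (![-b, a] : V2) * dia (A w) =
      dia (fun _ => w ^ (-a).val) * (dia (A w) * mv w ![-b, a]) := fun a b => by
    have := mv_comm hw hw1 (![-b, a] : V2) ![1, 0]
    rwa [mv_e0, (hbr a b).1] at this
  have hmC : ∀ (a b : ZMod 3), mv w (![-b, a] : V2) * cyc =
      dia (fun _ => w ^ (-b).val) * ((cyc : G3) * mv w ![-b, a]) := fun a b => by
    have := mv_comm hw hw1 (![-b, a] : V2) ![0, 1]
    rwa [mv_e1, (hbr a b).2] at this
  obtain ⟨z, hzg⟩ := eq_scalar_of_commute hw hw1 (g := m * g)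
    (hkill hi (by rw [hm, kr_mul, kr_mul, kr_mul, hmA, one_mul, one_mul, mul_one]))
    (hkill hj (by rw [hm, kr_mul, kr_mul, kr_mul, hmC, one_mul, one_mul, mul_one]))
    (hkill hi' (by rw [hm, kr_mul, kr_mul, ← hzz, kr_mul, hmA, one_mul, one_mul, mul_one]))
    (hkill hj' (by rw [hm, kr_mul, kr_mul, ← hzz, kr_mul, hmC, one_mul, one_mul, mul_one]))
  refine ⟨m⁻¹, inv_mem (hm ▸ kr_mem_std9 (mv_mem _) (mv_mem _)), ?_⟩
  have h1 := mk_one_iff.2 ⟨z, hzg⟩
  rw [map_mul] at h1
  rw [map_inv]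
  exact eq_inv_of_mul_eq_one_right h1

variable [Fintype F] {p : ℕ} {K : Subgroup (GL (Fin 3 × Fin 3) F)}

theorem det_mul_self {x : G9} (h : x * x = 1) {z : F} (hz : (x : M9) = z • 1) (hd : (x : M9).det = 1) : x = 1 := by
  have h1 : z * z = 1 := by
    have := congrArg Units.val h
    rw [Units.val_mul, hz, Matrix.smul_mul, Matrix.mul_smul, smul_smul, one_mul, Units.val_one] at this
    simpa using congrFun (congrFun this (0, 0)) (0, 0)
  rw [hz, Matrix.det_smul, Matrix.det_one, mul_one, Fintype.card_prod, Fintype.card_fin] at hd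
  have h2 : z ^ 9 = z := by linear_combination (z ^ 7 + z ^ 5 + z ^ 3 + z) * h1
  rw [show 3 * 3 = 9 from rfl, h2] at hd
  exact Units.ext (by rw [hz, hd, one_smul, Units.val_one])

/-- Sign changes of the blocks are trivial. -/
theorem Over.sign_trivial (O : Over w p K) {ε : Fin 3 → Fˣ} (h : kr ((1 : G3), dia ε) ∈ K)
    (he : ∀ i, ε i * ε i = 1) : kr ((1 : G3), dia ε) = 1 := by
  have hK : blk (fun _ => (dia ε : G3)) ∈ K := by
    rw [blk_const, ← sw_kr 1 (dia ε)]; exact O.ov.swK h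
  obtain ⟨M, hM⟩ := O.ov.small _ hK 0
  have hc : ε = fun _ => ε 0 := funext fun i => sign_const O.hw O.hw1 he hM i
  refine det_mul_self (z := (ε 0 : F)) ?_ ?_ (O.det _ h)
  · rw [kr_mul, one_mul, ← map_mul, show ε * ε = 1 from funext he, map_one, kr_one_one]
  · rw [hc, coe_kr, coe_dia, Units.val_one, show Matrix.diagonal (fun _ : Fin 3 => (ε 0 : F)) = (ε 0 : F) • 1 from
      (Matrix.smul_one_eq_diagonal _).symm, Matrix.kronecker_smul, Matrix.one_kronecker_one]

/-- An involution centralising a non-scalar standard element is conjugate to the involution of one factor. -/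
theorem Over.conj_kk (O : Over w p K) {z : G9} (hzK : z ∈ K) (hz2 : z * z = 1) (hz1 : z ≠ 1) {x : G9}
    (hx : x ∈ std9 w) (hns : ∀ c : F, (x : M9) ≠ c • 1) (hzx : z * x = x * z) :
    ∃ n ∈ K, n ∈ Subgroup.normalizer (std9 w : Set G9) ∧ z = n * kk * n⁻¹ := by
  haveI : Finite (GL (Fin 3) F) := Finite.of_injective _ Units.val_injective
  have hw := O.hw
  have hw1 := O.hw1
  obtain ⟨⟨r, s⟩, ⟨hr, hs⟩, rfl⟩ := hx
  obtain ⟨u, hu⟩ := exists_mv hw hw1 hr
  obtain ⟨v, hv⟩ := exists_mv hw hw1 hs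
  obtain ⟨cs, hcs⟩ := kr_of_pr hu hv
  have huv : u ≠ 0 ∨ v ≠ 0 := by
    by_contra hcon
    push Not at hcon
    refine hns cs ?_
    rw [hcs, hcon.1, hcon.2, mv_zero, coe_kr, Units.val_one, Matrix.one_kronecker_one]
  obtain ⟨n, hnK, hnN, l, hl⟩ := (O.red_mv huv).smul hcs
  have hl0 : l ≠ 0 := fun e => (n * kr (r, s) * n⁻¹).ne_zero (by rw [hl, e, zero_smul])
  have hcomm : n * z * n⁻¹ * kr (1, dia (A w)) = kr (1, dia (A w)) * (n * z * n⁻¹) := by
    refine Units.ext (smul_right_injective M9 hl0 ?_)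
    show l • _ = l • _
    rw [Units.val_mul, Units.val_mul (kr (1, dia (A w))), ← Matrix.mul_smul, ← Matrix.smul_mul, ← hl, ← Units.val_mul,
      ← Units.val_mul]
    congr 1
    calc n * z * n⁻¹ * (n * kr (r, s) * n⁻¹) = n * (z * kr (r, s)) * n⁻¹ := by group
      _ = _ := by rw [hzx]; group
  obtain ⟨c, hc⟩ := exists_blk hw hw1 hcomm
  have hcK : blk c ∈ K := hc ▸ mul_mem (mul_mem hnK hzK) (inv_mem hnK)
  have hc2' : blk c * blk c = 1 := by rw [← hc, conj_mul, hz2, mul_one, mul_inv_cancel]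
  have hc2 : ∀ a, c a * c a = 1 := fun a => by
    have h := hc2'
    rw [← map_mul, ← map_one (blk (F := F)), blk_injective.eq_iff] at h
    exact congrFun h a
  choose M hM using O.ov.small c hcK
  have hM0 : ∀ a, Acts w (c a) (M 0) := fun a => O.ov.acts_eq (O.ov.no_single O.two_ne) hcK hM a ▸ hM a
  have hJ : Acts w (negSwap : G3) (-1 : S2) := by
    have := (acts_four hw hw1).mul hw hw1 (acts_four hw hw1)
    rwa [four_sq hw hw1, show (!![0, 1; -1, 0] : S2) * !![0, 1; -1, 0] = -1 by decide +kernel] at this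
  have one : Acts w (1 : G3) (1 : S2) := acts_of_pr hw hw1 (v := 0) (by rw [mv_zero])
  have hsq : M 0 * M 0 = 1 := ((hM0 0).mul hw hw1 (hM0 0)).unique hw hw1 (by rw [hc2]; exact one)
  rcases (show ∀ h : S2, h.det = 1 → h * h = 1 → h = 1 ∨ h = -1 by decide +kernel) _ ((hM0 0).det hw hw1) hsq with
    hp | hm
  · -- trivial action: the element is trivial
    exfalso
    have hsc : ∀ a, ∃ e : Fˣ, c a = dia fun _ => e := fun a => by
      obtain ⟨v, hv⟩ := exists_mv_of_acts_one hw hw1 (hp ▸ hM0 a)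
      have h2 : pr (mv w (v + v)) = 1 := by rw [pr_mv_add hw hw1, ← hv, ← map_mul, hc2, map_one]
      rw [(show ∀ v : V2, v + v = 0 → v = 0 by decide +kernel) v (pr_mv_eq_one hw hw1 h2), mv_zero, map_one,
        pr_eq_one] at hv
      obtain ⟨e, he⟩ := hv
      exact scalar_eq he
    choose ε hε using hsc
    rw [show c = fun a => dia fun _ => ε a from funext hε, blk_scalar] at hc hcK
    have := O.sign_trivial hcK fun a => by
      have h := congrArg (fun g : G3 => (g : M3) 0 0) (hc2 a)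
      simp [hε a, coe_dia] at h
      exact Units.ext (by simpa using h)
    rw [this, mul_inv_eq_one, mul_eq_left] at hc
    exact hz1 hc
  -- inversion
  have hd : blk (fun a => negSwap * c a) ∈ K := by
    have := mul_mem (O.left_mem (negSwap_mem_normalizer hw) (by rw [det_negSwap, one_pow])) hcK
    rwa [← blk_const, ← map_mul] at this
  have h1 : ∀ a, Acts w (negSwap * c a) 1 := fun a => by
    have := hJ.mul hw hw1 (hM0 a)
    rwa [hm, neg_one_mul, neg_neg] at this
  choose τ hτ using fun a => exists_mv_of_acts_one hw hw1 (h1 a)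
  have hsum : τ 0 + τ 1 + τ 2 = 0 := by_contra fun hne => O.ov.no_quad (O.ov.no_single O.two_ne) hd hτ hne
  obtain ⟨q, hq, hqK, hqN⟩ := O.ov.exists_shr (τ 1 - τ 0)
  obtain ⟨m, hmd⟩ : ∃ m : Fin 3 → G3, m = fun a : Fin 3 => mv w (τ 0) * q ^ (a : ℕ) := ⟨_, rfl⟩
  have hmb : kr (mv w (τ 0), 1) * shr q = blk m := by rw [shr, ← blk_const, ← map_mul, hmd]; rfl
  have hmK : blk m ∈ K := hmb ▸ mul_mem (O.std_left (mv_mem _)) hqK
  have hmN : blk m ∈ Subgroup.normalizer (std9 w : Set G9) :=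
    hmb ▸ mul_mem (Subgroup.le_normalizer (kr_mem_std9 (mv_mem _) (one_mem _))) hqN
  have hpm : ∀ a, pr (m a) = pr (mv w (τ a)) := fun a => by
    rw [hmd]
    simp only [map_mul, map_pow, hq]
    fin_cases a
    · show pr (mv w (τ 0)) * pr (mv w (τ 1 - τ 0)) ^ 0 = pr (mv w (τ 0))
      rw [pow_zero, mul_one]
    · show pr (mv w (τ 0)) * pr (mv w (τ 1 - τ 0)) ^ 1 = pr (mv w (τ 1))
      rw [pow_one, ← pr_mv_add hw hw1, add_sub_cancel]
    · show pr (mv w (τ 0)) * pr (mv w (τ 1 - τ 0)) ^ 2 = pr (mv w (τ 2))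
      rw [pow_two, ← pr_mv_add hw hw1, ← pr_mv_add hw hw1]
      congr 2
      exact (show ∀ x y z : V2, x + y + z = 0 → x + (y - x + (y - x)) = z by decide +kernel) _ _ _ hsum
  obtain ⟨y, hy⟩ : ∃ y : Fin 3 → G3, y = fun a => m a * negSwap * (m a)⁻¹ := ⟨_, rfl⟩
  have hyb : blk m * kr (negSwap, 1) * (blk m)⁻¹ = blk y := by
    rw [← blk_const, ← map_inv, ← map_mul, ← map_mul, hy]; rfl
  have hJJ : (negSwap : G3)⁻¹ = negSwap := inv_eq_of_mul_eq_one_right negSwap_mul_self
  have hcy : ∀ a, pr (c a) = pr (y a) := fun a => by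
    have hj := hJ (τ a)
    rw [Matrix.neg_mulVec, Matrix.one_mulVec, pr_mv_neg hw hw1] at hj
    have hτ' := hτ a
    rw [map_mul, ← eq_inv_mul_iff_mul_eq, ← map_inv, hJJ] at hτ'
    rw [hy]
    simp only [map_mul, map_inv, hpm]
    rw [hτ']
    have h3 : pr (mv w (τ a)) * pr (mv w (τ a)) = (pr (mv w (τ a)))⁻¹ := by
      rw [← pr_mv_add hw hw1, ← pr_mv_neg hw hw1, (show ∀ v : V2, v + v = -v by decide +kernel) (τ a)]
    have hj' : pr (negSwap : G3) * (pr (mv w (τ a)))⁻¹ = pr (mv w (τ a)) * pr negSwap := by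
      rw [← mul_inv_eq_iff_eq_mul]
      conv_rhs => rw [← inv_inv (pr (mv w (τ a))), ← hj]
      group
    rw [← mul_inv_eq_iff_eq_mul, inv_inv, mul_assoc, h3, hj']
  have hy2 : ∀ a, y a * y a = 1 := fun a => by rw [hy, conj_mul, negSwap_mul_self, mul_one, mul_inv_cancel]
  choose e he using fun a => pr_eq_pr.1 (hcy a)
  have hsc : ∀ a, ∃ ε : Fˣ, c a * y a = dia fun _ => ε := fun a => by
    refine scalar_eq (z := e a) ?_
    rw [Units.val_mul, he a, Matrix.smul_mul, ← Units.val_mul, hy2, Units.val_one]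
  choose ε hε using hsc
  have hyK : blk y ∈ K := hyb ▸ mul_mem (mul_mem hmK
    (O.left_mem (negSwap_mem_normalizer hw) (by rw [det_negSwap, one_pow]))) (inv_mem hmK)
  have hK : kr ((1 : G3), dia ε) ∈ K := by
    have := mul_mem hcK hyK
    rwa [← map_mul, show (c * y : Fin 3 → G3) = fun a => dia fun _ => ε a from funext hε, blk_scalar] at this
  have hone := O.sign_trivial hK fun a => by
    have hz' : c a * y a * (c a * y a) = 1 := by
      have h0 : ∀ g : G3, (dia fun _ => ε a) * g = g * dia (fun _ => ε a) := fun g => Units.ext (by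
        rw [Units.val_mul, Units.val_mul, coe_dia, show Matrix.diagonal (fun _ : Fin 3 => (ε a : F)) = (ε a : F) • 1 from
          (Matrix.smul_one_eq_diagonal _).symm, Matrix.smul_mul, Matrix.mul_smul, one_mul, mul_one])
      have hca : c a = (dia fun _ => ε a) * y a := by rw [← hε, mul_assoc, hy2, mul_one]
      have hcc := hc2 a
      rw [hca, h0, mul_assoc, ← mul_assoc (dia _) (y a), h0, mul_assoc, ← mul_assoc (y a) (y a), hy2, one_mul] at hcc
      rw [hε a]; exact hcc
    rw [hε a, ← map_mul] at hz'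
    have h := congrArg (fun g : G3 => (g : M3) 0 0) hz'
    simp [coe_dia] at h
    exact Units.ext (by simpa using h)
  rw [← blk_scalar, ← map_one (blk (F := F)), blk_injective.eq_iff] at hone
  have hcy' : c = y := funext fun a => by
    have h := congrFun hone a
    rw [← hε, Pi.one_apply] at h
    rw [← mul_right_inj (y a), hy2, ← inv_eq_of_mul_eq_one_left h, mul_inv_cancel]
  refine ⟨n⁻¹ * blk m * sw, mul_mem (mul_mem (inv_mem hnK) hmK) (O.above _ sw_mem_normalizer det_sw),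
    mul_mem (mul_mem (inv_mem hnN) hmN) sw_mem_normalizer, ?_⟩
  have e1 : kr ((negSwap : G3), 1) = sw * kk * (sw : G9)⁻¹ := by rw [sw_inv, kk, sw_kr]
  rw [hcy', ← hyb, e1] at hc
  calc z = n⁻¹ * (n * z * n⁻¹) * n := by group
    _ = _ := by rw [hc]; group

/-- The centraliser of such an involution normalises. -/
theorem Over.cent_conj_kk (O : Over w p K) {z n : G9} (hnK : n ∈ K) (hnN : n ∈ Subgroup.normalizer (std9 w : Set G9))
    (hz : z = n * kk * n⁻¹) {g : G9} (hg : g ∈ K) (hgz : g * z = z * g) :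
    g ∈ Subgroup.normalizer (std9 w : Set G9) := by
  have h := O.centralizer_kk (c := n⁻¹ * g * n) (mul_mem (mul_mem (inv_mem hnK) hg) hnK) (by
    calc n⁻¹ * g * n * kk = n⁻¹ * (g * (n * kk * n⁻¹)) * n := by group
      _ = n⁻¹ * ((n * kk * n⁻¹) * g) * n := by rw [← hz, hgz]
      _ = _ := by group)
  have := mul_mem (mul_mem hnN h) (inv_mem hnN)
  rwa [show n * (n⁻¹ * g * n) * n⁻¹ = g by group] at this

/-- Every member normalises. -/
theorem Over.normalizes (O : Over w p K) : K ≤ Subgroup.normalizer (std9 w : Set G9) := by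
  classical
  haveI : Finite (GL (Fin 3) F) := Finite.of_injective _ Units.val_injective
  haveI : Finite G9 := Finite.of_injective _ Units.val_injective
  have hw := O.hw
  have hw1 := O.hw1
  obtain ⟨π, hπ⟩ : ∃ π, π = QuotientGroup.mk' (Subgroup.center G9) := ⟨_, rfl⟩
  obtain ⟨N, hN⟩ : ∃ N, N = Subgroup.normalizer (std9 w : Set G9) := ⟨_, rfl⟩
  have hRN : ∀ {n : G9}, n ∈ N → ∀ {x : G9}, x ∈ std9 w → n * x * n⁻¹ ∈ std9 w := by
    intro n hn x hx
    rw [hN] at hn
    exact (Subgroup.mem_normalizer_iff.1 hn x).1 hx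
  -- an involution of the normaliser centralises something or inverts everything
  have hdich : ∀ z ∈ N, z * z = 1 → (∃ x ∈ std9 w, (∀ c : F, (x : M9) ≠ c • 1) ∧ z * x = x * z) ∨
      ∀ x ∈ std9 w, π (z * x * z⁻¹) = (π x)⁻¹ := by
    intro z hzN hz2
    by_contra hcon
    push Not at hcon
    obtain ⟨hA, x, hx, hne⟩ := hcon
    have hzi : z⁻¹ = z := inv_eq_of_mul_eq_one_right hz2
    obtain ⟨y, hy⟩ : ∃ y, y = z * x * z⁻¹ * x := ⟨_, rfl⟩
    have hyR : y ∈ std9 w := hy ▸ mul_mem (hRN hzN hx) hx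
    have hns : ∀ c : F, (y : M9) ≠ c • 1 := fun c hc => hne (by
      have h1 : π y = 1 := hπ ▸ mk_one_iff.2 ⟨c, hc⟩
      rw [hy, map_mul] at h1
      exact eq_inv_of_mul_eq_one_left h1)
    have hfix : π (z * y * z⁻¹) = π y := by
      rw [show z * y * z⁻¹ = x * (z * x * z⁻¹) by
        rw [hy, hzi, show z * (z * x * z * x) * z = (z * z) * x * (z * x * z) by simp only [mul_assoc], hz2, one_mul],
        hy, hπ]
      exact mk_comm hw hw1 hx (hRN hzN hx)
    obtain ⟨c, hc⟩ := exists_smul_of_mk (hπ ▸ hfix)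
    have h3 : c ^ 3 = 1 := by
      have e : (z * y * z⁻¹) ^ 3 = 1 := std9_cube hw hw1 (hRN hzN hyR)
      have := congrArg Units.val e
      rw [Units.val_pow_eq_pow_val, hc, smul_pow, ← Units.val_pow_eq_pow_val, std9_cube hw hw1 hyR, Units.val_one] at this
      simpa using congrFun (congrFun this (0, 0)) (0, 0)
    have h2 : c * c = 1 := by
      have e : (y : M9) = (c * c) • (y : M9) := by
        have e1 : z * (z * y * z⁻¹) * z⁻¹ = y := by
          rw [hzi, show z * (z * y * z) * z = (z * z) * y * (z * z) by simp only [mul_assoc], hz2, one_mul, mul_one]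
        have e2 := congrArg Units.val e1
        rw [Units.val_mul, Units.val_mul, hc, Matrix.mul_smul, Matrix.smul_mul, ← Units.val_mul, ← Units.val_mul, hc,
          smul_smul] at e2
        exact e2.symm
      have := smul_left_injective F (show (y : M9) ≠ 0 from y.ne_zero) (show (c * c) • (y : M9) = (1 : F) • _ by
        rw [← e, one_smul])
      exact this
    have hc1 : c = 1 := by linear_combination h3 - c * h2
    rw [hc1, one_smul] at hc
    exact hA y hyR hns (mul_inv_eq_iff_eq_mul.1 (Units.ext hc))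
  -- the involutions
  obtain ⟨j, hj⟩ : ∃ j : G9, j = kr (negSwap, negSwap) := ⟨_, rfl⟩
  have hJN : (negSwap : G3) ∈ Subgroup.normalizer (std w : Set G3) := negSwap_mem_normalizer hw
  have hjK : j ∈ K := hj ▸ O.kr_mem hJN hJN (by rw [det_negSwap, one_pow, one_mul])
  have hjN : j ∈ N := hN ▸ hj ▸ kr_mem_normalizer hJN hJN
  have hj2 : j * j = 1 := by rw [hj, kr_mul, negSwap_mul_self, kr_one_one]
  have hk2 : (kk : G9) * kk = 1 := by rw [kk, kr_mul, one_mul, negSwap_mul_self, kr_one_one]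
  have hkK : (kk : G9) ∈ K := O.kr_mem (one_mem _) hJN (by simp [det_negSwap])
  have htj : (j : M9).trace = 1 := by
    rw [hj, coe_kr, Matrix.trace_kronecker, trace_negSwap, neg_one_mul, neg_neg]
  have htk : ((kk : G9) : M9).trace = -3 := by
    rw [kk, coe_kr, Matrix.trace_kronecker, trace_negSwap, Units.val_one, Matrix.trace_one, Fintype.card_fin]
    norm_num
  have hnconj : ∀ g h : G9, g * kk * g⁻¹ ≠ h * j * h⁻¹ := fun g h e => by
    have := congrArg (fun m : G9 => (m : M9).trace) e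
    simp only [Units.val_mul, Matrix.trace_units_conj, htj, htk] at this
    exact O.two_ne (mul_self_eq_zero.1 (show (2 : F) * 2 = 0 by linear_combination -this))
  -- all conjugates of the involution are in the normaliser
  have hall : ∀ g ∈ K, g * j * g⁻¹ ∈ N := by
    intro g hg
    obtain ⟨t, ht⟩ : ∃ t, t = g * j * g⁻¹ := ⟨_, rfl⟩
    rw [← ht]
    have htK : t ∈ K := ht ▸ mul_mem (mul_mem hg hjK) (inv_mem hg)
    have ht2 : t * t = 1 := by rw [ht, conj_mul, hj2, mul_one, mul_inv_cancel]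
    have hcK : kr ((1 : G3), (cyc : G3)) ∈ K := O.ov.kr_right (cyc_mem w)
    have hcN : kr ((1 : G3), (cyc : G3)) ∈ Subgroup.normalizer (std9 w : Set G9) :=
      Subgroup.le_normalizer (kr_mem_std9 (one_mem _) (cyc_mem w))
    have hget : ∀ m ∈ K, m ∈ Subgroup.normalizer (std9 w : Set G9) → t ∈ N ∨ ∃ z ∈ N, z ∈ K ∧
        z * (m * kk * m⁻¹) = (m * kk * m⁻¹) * z ∧ z * t = t * z ∧ ∀ x ∈ std9 w, π (z * x * z⁻¹) = (π x)⁻¹ := by
      intro m hmK hmN
      obtain ⟨z, hz1, hz2, hzs, hzt, l, hl⟩ := exists_common_invol (s := m * kk * m⁻¹) (t := t)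
        (by rw [conj_mul, hk2, mul_one, mul_inv_cancel]) ht2 (fun a e => hnconj (a * m) g (by
          rw [← ht, ← e]; group))
      have hzK : z ∈ K := hl ▸ pow_mem (mul_mem (mul_mem (mul_mem hmK hkK) (inv_mem hmK)) htK) l
      have hzN : z ∈ N := hN ▸ O.cent_conj_kk hmK hmN rfl hzK hzs
      rcases hdich z hzN hz2 with ⟨x, hx, hns, hzx⟩ | hinv
      · obtain ⟨n, hnK, hnN, e⟩ := O.conj_kk hzK hz2 hz1 hx hns hzx
        exact Or.inl (hN ▸ O.cent_conj_kk hnK hnN e htK hzt.symm)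
      · exact Or.inr ⟨z, hzN, hzK, hzs, hzt, hinv⟩
    rcases hget 1 (one_mem _) (one_mem _) with h | ⟨z, hzN, hzK, hzs, hzt, hinv⟩
    · exact h
    rcases hget _ hcK hcN with h | ⟨z', hzN', hzK', hzs', hzt', hinv'⟩
    · exact h
    have hzz : ∀ x ∈ std9 w, π (z * z' * x * (z * z')⁻¹) = π x := fun x hx => by
      rw [show z * z' * x * (z * z')⁻¹ = z * (z' * x * z'⁻¹) * z⁻¹ by group, hinv _ (hRN hzN' hx), hinv' x hx, inv_inv]
    obtain ⟨r, hr, hzr⟩ := exists_std_of_mk_comm hw hw1 (g := z * z') (fun x hx => hπ ▸ hzz x hx)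
    obtain ⟨c, hc⟩ := exists_smul_of_mk hzr
    by_cases hns : ∀ d : F, (r : M9) ≠ d • 1
    · rw [hN]
      refine O.mem_of_commute hr hns htK ?_
      have hc0 : c ≠ 0 := fun e => (z * z').ne_zero (by rw [hc, e, zero_smul])
      refine Units.ext (smul_right_injective M9 hc0 ?_)
      show c • _ = c • _
      rw [Units.val_mul, Units.val_mul r, ← Matrix.mul_smul, ← Matrix.smul_mul, ← hc, ← Units.val_mul, ← Units.val_mul]
      congr 1
      rw [← mul_assoc, ← hzt, mul_assoc, ← hzt', ← mul_assoc]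
    exfalso
    push Not at hns
    obtain ⟨d, hd⟩ := hns
    have hzz' : ∀ q : G9, z * z' * q = q * (z * z') := fun q => Units.ext (by
      rw [Units.val_mul, Units.val_mul q, hc, hd, smul_smul, Matrix.smul_mul, Matrix.mul_smul, one_mul, mul_one])
    -- then `z` commutes with both involutions
    obtain ⟨k', hk'⟩ : ∃ k', k' = kr ((1 : G3), (cyc : G3)) * kk * (kr ((1 : G3), (cyc : G3)))⁻¹ := ⟨_, rfl⟩
    rw [← hk'] at hzs'
    simp only [one_mul, inv_one, mul_one] at hzs
    have hzk' : z * k' = k' * z := by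
      have h := hzz' k'
      rw [mul_assoc, hzs', ← mul_assoc, ← mul_assoc] at h
      exact mul_right_cancel h
    have hx : z * kr ((1 : G3), (cyc : G3)) = kr (1, cyc) * z := by
      have e : kk * k' = kr ((1 : G3), (cyc : G3)) := by
        have hJC : (negSwap : G3) * ((cyc : G3) * negSwap * (cyc : G3)⁻¹) = cyc := by
          refine Units.ext ?_
          simp only [Units.val_mul, coe_negSwap, coe_cyc]
          ext a b
          have hci : (((cyc : G3)⁻¹ : G3) : M3) = !![0, 1, 0; 0, 0, 1; 1, 0, 0] := rfl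
          rw [hci]
          fin_cases a <;> fin_cases b <;> simp [Matrix.mul_apply, Fin.sum_univ_three]
        rw [hk', kk, kr_inv, kr_mul, kr_mul, kr_mul, inv_one, one_mul, one_mul, one_mul, hJC]
      rw [← e, ← mul_assoc, hzs, mul_assoc, hzk', ← mul_assoc]
    have h1 := hinv _ (kr_mem_std9 (one_mem (std w)) (cyc_mem w))
    rw [hx, mul_inv_cancel_right] at h1
    have h2 : π (kr ((1 : G3), (cyc : G3)) * kr (1, cyc)) = 1 := by
      rw [map_mul]; nth_rewrite 1 [h1]; rw [inv_mul_cancel]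
    rw [hπ, mk_one_iff] at h2
    obtain ⟨c', hc'⟩ := h2
    have := congrFun (congrFun hc' (0, 2)) (0, 0)
    simp [Matrix.mul_apply, Fintype.sum_prod_type, kr_apply, Fin.sum_univ_three, coe_cyc, Matrix.one_apply] at this
  -- all conjugates invert everything
  have hinvAll : ∀ g ∈ K, ∀ x ∈ std9 w, π (g * j * g⁻¹ * x * (g * j * g⁻¹)⁻¹) = (π x)⁻¹ := by
    intro g hg
    have htN := hall g hg
    have ht2 : g * j * g⁻¹ * (g * j * g⁻¹) = 1 := by rw [conj_mul, hj2, mul_one, mul_inv_cancel]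
    rcases hdich _ htN ht2 with ⟨x, hx, hns, hzx⟩ | hinv
    · exfalso
      have hne : g * j * g⁻¹ ≠ 1 := fun e => by
        rw [mul_inv_eq_one, mul_eq_left] at e
        rw [e, Units.val_one, Matrix.trace_one, Fintype.card_prod, Fintype.card_fin] at htj
        norm_num at htj
        have h8 : (2 : F) ^ 3 = 0 := by linear_combination htj
        exact O.two_ne (pow_eq_zero_iff (n := 3) (by norm_num) |>.1 h8)
      obtain ⟨n, -, -, e⟩ := O.conj_kk (mul_mem (mul_mem hg hjK) (inv_mem hg)) ht2 hne hx hns hzx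
      exact hnconj n g e.symm
    · exact hinv
  intro g hg
  have hrR : ∀ r ∈ std9 w, g * r * g⁻¹ ∈ std9 w := by
    intro r hr
    have hrK : r ∈ K := by
      obtain ⟨⟨a, b⟩, ⟨ha, hb⟩, rfl⟩ := hr
      rw [show kr (a, b) = kr (a, 1) * kr (1, b) by rw [kr_mul, mul_one, one_mul]]
      exact mul_mem (O.ov.kr_left ha) (O.ov.kr_right hb)
    obtain ⟨t1, ht1⟩ : ∃ t, t = g * j * g⁻¹ := ⟨_, rfl⟩
    obtain ⟨t2, ht2⟩ : ∃ t, t = g * r * j * (g * r)⁻¹ := ⟨_, rfl⟩
    have h1 := hinvAll g hg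
    have h2 := hinvAll (g * r) (mul_mem hg hrK)
    rw [← ht1] at h1
    rw [← ht2] at h2
    have ht2N : t2 ∈ N := ht2 ▸ hall _ (mul_mem hg hrK)
    have hprod : ∀ x ∈ std9 w, π (t1 * t2 * x * (t1 * t2)⁻¹) = π x := fun x hx => by
      rw [show t1 * t2 * x * (t1 * t2)⁻¹ = t1 * (t2 * x * t2⁻¹) * t1⁻¹ by group, h1 _ (hRN ht2N hx), h2 x hx, inv_inv]
    obtain ⟨s, hs, hts⟩ := exists_std_of_mk_comm hw hw1 (g := t1 * t2) (fun x hx => hπ ▸ hprod x hx)
    -- the product is the conjugate modulo scalars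
    have e : π (t1 * t2) = π (g * r * g⁻¹) := by
      have hjr : π (j * r * j) = (π r)⁻¹ := by
        have h := hinvAll 1 (one_mem _) r hr
        simp only [one_mul, inv_one, mul_one] at h
        rwa [inv_eq_of_mul_eq_one_right hj2] at h
      have hr3 : (π r)⁻¹ * (π r)⁻¹ = π r := by
        rw [← _root_.mul_inv_rev, inv_eq_iff_mul_eq_one, mul_assoc, ← _root_.pow_three, ← map_pow, std9_cube hw hw1 hr,
          map_one]
      rw [show t1 * t2 = g * (j * r * j) * r⁻¹ * g⁻¹ by rw [ht1, ht2]; group]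
      simp only [map_mul, map_inv] at hjr ⊢
      rw [hjr, mul_assoc (π g), hr3]
    rw [← hπ, e, hπ] at hts
    obtain ⟨c, hc⟩ := exists_smul_of_mk hts
    have h3 : c ^ 3 = 1 := by
      have e : (g * r * g⁻¹) ^ 3 = 1 := by rw [conj_pow, std9_cube hw hw1 hr, mul_one, mul_inv_cancel]
      have := congrArg Units.val e
      rw [Units.val_pow_eq_pow_val, hc, smul_pow, ← Units.val_pow_eq_pow_val, std9_cube hw hw1 hs, Units.val_one] at this
      simpa using congrFun (congrFun this (0, 0)) (0, 0)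
    have hc0 : c ≠ 0 := fun e => (g * r * g⁻¹).ne_zero (by rw [hc, e, zero_smul])
    obtain ⟨k, -, hk⟩ := cases_cube hw hw1 (t := Units.mk0 c hc0) (Units.ext (by simpa using h3))
    rw [show g * r * g⁻¹ = kr (dia (fun _ => Units.mk0 c hc0), 1) * s from Units.ext (by
      rw [hc, Units.val_mul, coe_kr, coe_dia, Units.val_one,
        show Matrix.diagonal (fun _ : Fin 3 => ((Units.mk0 c hc0 : Fˣ) : F)) = c • 1 from
          (Matrix.smul_one_eq_diagonal _).symm, Matrix.smul_kronecker, Matrix.one_kronecker_one, Matrix.smul_mul,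
        one_mul])]
    refine mul_mem (kr_mem_std9 ?_ (one_mem _)) hs
    rw [hk, show (fun _ : Fin 3 => w ^ k) = (fun _ => w) ^ k from rfl, map_pow]
    exact pow_mem (const_mem hw) k
  exact mem_normalizer_std9 (hrR _ (kr_mem_std9 (dia_A_mem w) (one_mem _)))
    (hrR _ (kr_mem_std9 (cyc_mem w) (one_mem _))) (hrR _ (kr_mem_std9 (one_mem _) (dia_A_mem w)))
    (hrR _ (kr_mem_std9 (one_mem _) (cyc_mem w)))

end Cfsg.Agent.Classical.LinNine
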