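import Cfsg.Agent.Lib.Classical.LinNine.Dich
import Cfsg.Agent.Lib.Classical.SLNormal

/-!
Degree nine: a proper group above the normaliser of the standard group of order 243 has all blocks of its block
diagonal members in the normaliser of the standard group of order 27.
-/

set_option autoImplicit false
set_option linter.unusedSectionVars false
set_option maxHeartbeats 1000000

namespace Cfsg.Agent.Classical.LinNine

open Matrix HeisenbergThree SLThree.Hessian

universe u

variable {F : Type u} [Field F] {w : Fˣ}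

local notation "G3" => GL (Fin 3) F
local notation "M3" => Matrix (Fin 3) (Fin 3) F
local notation "I9" => (Fin 3 × Fin 3)
local notation "G9" => GL (Fin 3 × Fin 3) F
local notation "M9" => Matrix (Fin 3 × Fin 3) (Fin 3 × Fin 3) F

/-- A proper group above the standard normaliser. -/
structure Over (w : Fˣ) (p : ℕ) (K : Subgroup (GL (Fin 3 × Fin 3) F)) [Fintype F] : Prop where
  hw : w ^ 3 = 1
  hw1 : w ≠ 1
  prime : p.Prime
  card : Fintype.card F = p
  dvd : 3 ∣ p - 1
  det : ∀ g ∈ K, (g : Matrix (Fin 3 × Fin 3) (Fin 3 × Fin 3) F).det = 1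
  above : ∀ g, g ∈ Subgroup.normalizer (std9 w : Set (GL (Fin 3 × Fin 3) F)) →
    (g : Matrix (Fin 3 × Fin 3) (Fin 3 × Fin 3) F).det = 1 → g ∈ K
  noSL : ¬ Geo.specialLinear (Fin 3 × Fin 3) F ≤ K

variable [Fintype F] {p : ℕ} {K : Subgroup (GL (Fin 3 × Fin 3) F)}

theorem Over.two_ne (O : Over w p K) : (2 : F) ≠ 0 := by
  haveI : Fact p.Prime := ⟨O.prime⟩
  haveI : CharP F p := charP_of_card_eq_prime O.card
  intro e
  have h := (Nat.prime_dvd_prime_iff_eq O.prime Nat.prime_two).1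
    ((CharP.cast_eq_zero_iff F p 2).1 (by exact_mod_cast e))
  have := O.dvd
  omega

theorem Over.three_ne (O : Over w p K) : (3 : F) ≠ 0 := by
  haveI : Fact p.Prime := ⟨O.prime⟩
  haveI : CharP F p := charP_of_card_eq_prime O.card
  intro e
  have h := (Nat.prime_dvd_prime_iff_eq O.prime Nat.prime_three).1
    ((CharP.cast_eq_zero_iff F p 3).1 (by exact_mod_cast e))
  have := O.dvd
  omega

theorem Over.exists_cube_ne (O : Over w p K) : ∃ s : Fˣ, s ^ 3 ≠ 1 := by
  by_contra hc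
  push Not at hc
  obtain ⟨g, hg⟩ := IsCyclic.exists_ofOrder_eq_natCard (α := Fˣ)
  have hd := orderOf_dvd_of_pow_eq_one (hc g)
  rw [hg, Nat.card_units, Nat.card_eq_fintype_card, O.card] at hd
  have h3 := Nat.le_of_dvd (by norm_num) hd
  have h1 := O.prime.two_le
  have h2 := O.dvd
  have hp4 : p = 4 := by omega
  have hp := O.prime
  rw [hp4] at hp
  norm_num at hp

theorem Over.kr_mem (O : Over w p K) {g h : G3} (hg : g ∈ Subgroup.normalizer (std w : Set G3))
    (hh : h ∈ Subgroup.normalizer (std w : Set G3)) (hd : (g : M3).det ^ 3 * (h : M3).det ^ 3 = 1) :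
    kr (g, h) ∈ K :=
  O.above _ (kr_mem_normalizer hg hh) (by rw [det_kr, hd])

theorem Over.left_mem (O : Over w p K) {g : G3} (hg : g ∈ Subgroup.normalizer (std w : Set G3))
    (hd : (g : M3).det ^ 3 = 1) : kr (g, 1) ∈ K :=
  O.kr_mem hg (one_mem _) (by rw [Units.val_one, Matrix.det_one, one_pow, mul_one, hd])

theorem det_dd (w : Fˣ) : ((dd w : G3) : M3).det = (w : F) ^ 2 := by
  rw [dd, coe_dia, Matrix.det_diagonal, Fin.prod_univ_three]
  simp
  ring

theorem dd_mem_normalizer (hw : w ^ 3 = 1) (hw1 : w ≠ 1) : (dd w : G3) ∈ Subgroup.normalizer (std w : Set G3) :=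
  dia_mem_normalizer hw hw1 (z := 1) fun i => by fin_cases i <;> simp [hw]

theorem det_shr_cyc : ((shr (cyc : G3) : G9) : M9).det = 1 := by
  rw [shr, det_blk]
  simp [Units.val_pow_eq_pow_val, Matrix.det_pow, det_cyc]

/-- The elementary transvection. -/
def tv (p q : Fin 3 × Fin 3) (h : p ≠ q) (c : F) : GL (Fin 3 × Fin 3) F :=
  Matrix.SpecialLinearGroup.toGL (Matrix.SpecialLinearGroup.transvection h c)

theorem coe_tv (p q : I9) (h : p ≠ q) (c : F) : ((tv p q h c : G9) : M9) = Matrix.transvection p q c := rfl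

theorem blk_tv (a : Fin 3) {b b' : Fin 3} (hb : b ≠ b') (c : F) :
    blk (Pi.mulSingle a (Matrix.SpecialLinearGroup.toGL (Matrix.SpecialLinearGroup.transvection hb c)) : Fin 3 → G3) =
      tv (b, a) (b', a) (by simp [hb]) c := Units.ext (by
  ext ⟨x, y⟩ ⟨x', y'⟩
  rw [blk_apply, coe_tv, Matrix.transvection, Matrix.add_apply, Matrix.one_apply, Matrix.single_apply]
  rcases eq_or_ne y a with rfl | hy
  · rw [Pi.mulSingle_eq_same]
    show (if y = y' then (Matrix.transvection b b' c) x x' else 0) = _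
    rw [Matrix.transvection, Matrix.add_apply, Matrix.one_apply, Matrix.single_apply]
    simp only [Prod.mk.injEq]
    split_ifs <;> simp_all
  · rw [Pi.mulSingle_eq_of_ne hy, Units.val_one, Matrix.one_apply]
    simp only [Prod.mk.injEq]
    split_ifs <;> simp_all)

theorem sw_tv (p q : I9) (h : p ≠ q) (c : F) :
    sw * tv p q h c * sw = tv p.swap q.swap (Prod.swap_injective.ne h) c := Units.ext (by
  ext x y
  rw [sw_conj_apply, coe_tv, coe_tv]
  simp only [Matrix.transvection, Matrix.add_apply, Matrix.one_apply, Matrix.single_apply]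
  congr 1
  · exact if_congr Prod.swap_injective.eq_iff rfl rfl
  · refine if_congr ?_ rfl rfl
    constructor <;> rintro ⟨rfl, rfl⟩ <;> simp)

theorem Over.acts (O : Over w p K) {c : Fin 3 → G3} (hc : blk c ∈ K) (a : Fin 3) :
    ∃ M : Matrix (Fin 2) (Fin 2) (ZMod 3), Acts w (c a) M := by
  classical
  haveI : Finite (GL (Fin 3) F) := Finite.of_injective _ Units.val_injective
  obtain ⟨Γ, hΓ⟩ : ∃ Γ : Fin 3 → Subgroup G3, ∀ a,
      Γ a = ((K.comap (blk (F := F))).map (Pi.evalMonoidHom (fun _ => G3) a)) := ⟨_, fun _ => rfl⟩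
  have hconst : ∀ (b : Fin 3) {g : G3}, g ∈ Subgroup.normalizer (std w : Set G3) → (g : M3).det ^ 3 = 1 → g ∈ Γ b :=
    fun b g hg hd => by
      rw [hΓ]
      exact ⟨fun _ => g, by show blk (fun _ => g) ∈ K; rw [blk_const]; exact O.left_mem hg hd, rfl⟩
  rcases acts_or_sl O.prime O.card O.dvd O.hw O.hw1 (Γ := Γ a)
      (hconst a (Subgroup.le_normalizer (dia_A_mem w)) (by rw [det_dia_A O.hw O.hw1, one_pow]))
      (hconst a (Subgroup.le_normalizer (cyc_mem w)) (by rw [det_cyc, one_pow]))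
      (hconst a (negSwap_mem_normalizer O.hw) (by rw [det_negSwap, one_pow]))
      (hconst a (four_mem_normalizer O.hw O.hw1) (by rw [det_four O.hw O.hw1, one_pow]))
      (hconst a (four'_mem_normalizer O.hw O.hw1) (by rw [det_four' O.hw O.hw1, one_pow])) with h | h
  · exact h (c a) (by rw [hΓ]; exact ⟨c, hc, rfl⟩)
  refine absurd ?_ O.noSL
  have hcycN : kr (1, (cyc : G3)) ∈ K :=
    O.kr_mem (one_mem _) (Subgroup.le_normalizer (cyc_mem w)) (by simp [det_cyc])
  have hshift : ∀ {d : Fin 3 → G3}, blk d ∈ K → blk (fun x => d (x - 1)) ∈ K := fun hd => by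
    rw [← shift_blk]
    exact mul_mem (mul_mem hcycN hd) (inv_mem hcycN)
  have hall : ∀ b, ∀ s : G3, (s : M3).det = 1 → ∃ d, blk d ∈ K ∧ d b = s := by
    have h0 : ∀ s : G3, (s : M3).det = 1 → ∃ d, blk d ∈ K ∧ d a = s := fun s hs => by
      have := h ((mem_sl s).2 hs)
      rw [hΓ] at this
      exact this
    have hstep : ∀ b, (∀ s : G3, (s : M3).det = 1 → ∃ d, blk d ∈ K ∧ d b = s) →
        ∀ s : G3, (s : M3).det = 1 → ∃ d, blk d ∈ K ∧ d (b + 1) = s := fun b hb s hs => by
      obtain ⟨d, hd, e⟩ := hb s hs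
      exact ⟨_, hshift hd, by simpa using e⟩
    intro b
    rcases (show ∀ n k : Fin 3, n = k ∨ n = k + 1 ∨ n = k + 1 + 1 by decide) b a with rfl | rfl | rfl
    exacts [h0, hstep _ h0, hstep _ (hstep _ h0)]
  -- one block alone
  have hsh : shr (cyc : G3) ∈ K :=
    O.above _ (shr_mem_normalizer O.hw O.hw1) det_shr_cyc
  have hci : kr ((cyc : G3)⁻¹, 1) ∈ K :=
    O.left_mem (inv_mem (Subgroup.le_normalizer (cyc_mem w))) (by
      rw [Matrix.coe_units_inv, Matrix.det_nonsing_inv, det_cyc, Ring.inverse_one, one_pow])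
  obtain ⟨s, hs⟩ := O.exists_cube_ne
  obtain ⟨d, hd, hd2⟩ := hall 2 (dia ![s, s⁻¹, 1]) (by
    rw [coe_dia, Matrix.det_diagonal, Fin.prod_univ_three]; simp)
  obtain ⟨u, huK, hu⟩ : ∃ u : G3, blk (Pi.mulSingle 2 u) ∈ K ∧
      u = dia (fun i => (![s ^ 3, (s ^ 3)⁻¹, 1] : Fin 3 → Fˣ) i) := by
    have e1 : ∀ f : Fin 3 → Fˣ, (cyc : G3) * dia f * (cyc : G3)⁻¹ * (dia f)⁻¹ = dia (prev f * f⁻¹) := fun f => by
      rw [cyc_mul_dia, mul_inv_cancel_right, ← map_inv, ← map_mul]
    have e2 : ∀ f : Fin 3 → Fˣ, (cyc : G3) ^ 2 * dia f * ((cyc : G3) ^ 2)⁻¹ * (dia f)⁻¹ =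
        dia (prev (prev f) * f⁻¹) := fun f => by
      rw [pow_two, mul_assoc cyc cyc, cyc_mul_dia, ← mul_assoc, cyc_mul_dia, mul_assoc (dia (prev (prev f))),
        mul_inv_cancel_right, ← map_inv, ← map_mul]
    have hf := mul_mem (mul_mem (mul_mem hsh hd) (inv_mem hsh)) (inv_mem hd)
    have hm := mul_mem hci hsh
    have he := mul_mem (mul_mem (mul_mem hm hf) (inv_mem hm)) (inv_mem hf)
    rw [shr, ← blk_const, ← map_inv, ← map_inv, ← map_mul, ← map_mul, ← map_mul, ← map_mul, ← map_inv, ← map_inv,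
      ← map_mul, ← map_mul, ← map_mul] at he
    refine ⟨dia (prev (prev (prev ![s, s⁻¹, 1]) * (![s, s⁻¹, 1])⁻¹) *
      (prev (prev ![s, s⁻¹, 1]) * (![s, s⁻¹, 1])⁻¹)⁻¹), ?_, congrArg dia ?_⟩
    · convert he using 2
      funext x
      symm
      fin_cases x
      · simp
      · simp [Pi.mulSingle_eq_of_ne]
      · simp only [Pi.mul_apply, Pi.inv_apply]
        show (cyc : G3)⁻¹ * cyc ^ 2 * (cyc ^ 2 * d 2 * (cyc ^ 2)⁻¹ * (d 2)⁻¹) * ((cyc : G3)⁻¹ * cyc ^ 2)⁻¹ *
          (cyc ^ 2 * d 2 * (cyc ^ 2)⁻¹ * (d 2)⁻¹)⁻¹ = (Pi.mulSingle 2 _ : Fin 3 → G3) 2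
        rw [Pi.mulSingle_eq_same, hd2, e2, show (cyc : G3)⁻¹ * cyc ^ 2 = cyc by group, e1]
    · funext i
      fin_cases i <;> simp [prev] <;> refine Units.ext ?_ <;> simp <;> field_simp
  have hsc : ¬ Sc u := by
    rintro ⟨z, hz⟩
    rw [hu, coe_dia] at hz
    have h0 := congrFun (congrFun hz 0) 0
    have h2 := congrFun (congrFun hz 2) 2
    simp at h0 h2
    exact hs (Units.ext (by simpa using h0.trans h2.symm))
  -- the normal subgroup it generates
  obtain ⟨N, hN⟩ : ∃ N : Subgroup (Matrix.SpecialLinearGroup (Fin 3) F),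
      N = (K.comap ((blk (F := F)).comp (MonoidHom.mulSingle (fun _ => G3) 2))).comap
        Matrix.SpecialLinearGroup.toGL := ⟨_, rfl⟩
  have hmemN : ∀ n, n ∈ N ↔ blk (Pi.mulSingle 2 (Matrix.SpecialLinearGroup.toGL n) : Fin 3 → G3) ∈ K := fun n => by
    rw [hN]; rfl
  haveI : N.Normal := ⟨fun n hn g => by
    rw [hmemN] at hn ⊢
    obtain ⟨e, he, he2⟩ := hall 2 (Matrix.SpecialLinearGroup.toGL g) g.2
    have := mul_mem (mul_mem he hn) (inv_mem he)
    rw [← map_inv, ← map_mul, ← map_mul] at this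
    convert this using 2
    funext x
    rcases eq_or_ne x 2 with rfl | hx
    · simp [he2]
    · simp [Pi.mulSingle_eq_of_ne hx]⟩
  have htop : N = ⊤ := by
    haveI := PSL_isSimple (F := F) (n := 3) (by norm_num) (by norm_num)
    refine SL_normal_eq_top (SL_commutator_eq_top_of_three_le (by simp)) N fun hle => hsc ?_
    have hdu : (u : M3).det = 1 := by
      rw [hu, coe_dia, Matrix.det_diagonal, Fin.prod_univ_three]; simp
    have hcen := Subgroup.mem_center_iff.1 (hle (show (⟨(u : M3), hdu⟩ : Matrix.SpecialLinearGroup (Fin 3) F) ∈ N by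
      refine (hmemN _).2 ?_
      convert huK using 4
      exact Units.ext rfl))
    refine sc_of_commute O.hw O.hw1 (Units.ext ?_) (Units.ext ?_)
    · have := congrArg Subtype.val (hcen ⟨((dia (A w) : G3) : M3), det_dia_A O.hw O.hw1⟩)
      exact this.symm
    · have := congrArg Subtype.val (hcen ⟨((cyc : G3) : M3), det_cyc⟩)
      exact this.symm
  have hsing : ∀ (b : Fin 3) (n : Matrix.SpecialLinearGroup (Fin 3) F),
      blk (Pi.mulSingle b (Matrix.SpecialLinearGroup.toGL n) : Fin 3 → G3) ∈ K := by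
    intro b n
    have h2 := (hmemN n).1 (htop ▸ Subgroup.mem_top n)
    have hs : ∀ b : Fin 3, blk (Pi.mulSingle b (Matrix.SpecialLinearGroup.toGL n) : Fin 3 → G3) ∈ K →
        blk (Pi.mulSingle (b + 1) (Matrix.SpecialLinearGroup.toGL n) : Fin 3 → G3) ∈ K := fun b hb => by
      have := hshift hb
      convert this using 2
      funext x
      simp [Pi.mulSingle_apply, sub_eq_iff_eq_add]
    rcases (show ∀ n : Fin 3, n = 2 ∨ n = 2 + 1 ∨ n = 2 + 1 + 1 by decide) b with rfl | rfl | rfl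
    exacts [h2, hs _ h2, hs _ (hs _ h2)]
  -- all elementary transvections
  have hswK : (sw : G9) ∈ K := O.above _ sw_mem_normalizer det_sw
  have hin : ∀ (a b b' : Fin 3) (hb : b ≠ b') (c : F), tv (b, a) (b', a) (by simp [hb]) c ∈ K :=
    fun a b b' hb c => by rw [← blk_tv a hb c]; exact hsing _ _
  have hout : ∀ (b a a' : Fin 3) (ha : a ≠ a') (c : F), tv (b, a) (b, a') (by simp [ha]) c ∈ K :=
    fun b a a' ha c => by
      have := mul_mem (mul_mem hswK (hin b a a' ha c)) hswK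
      rwa [sw_tv] at this
  have htv : ∀ (x y : I9) (h : x ≠ y) (c : F), tv x y h c ∈ K := by
    rintro ⟨b, a⟩ ⟨b', a'⟩ hne c
    by_cases ha : a = a'
    · subst ha; exact hin a b b' (fun e => hne (by rw [e])) c
    by_cases hb : b = b'
    · subst hb; exact hout b a a' ha c
    have h1 : ((b, a) : I9) ≠ (b', a) := by simp [hb]
    have h2 : ((b', a) : I9) ≠ (b', a') := by simp [ha]
    rw [tv, ← transvection_eq_commutator hne h1 h2, map_commutatorElement, commutatorElement_def]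
    exact mul_mem (mul_mem (mul_mem (hin a b b' hb c) (hout b' a a' ha 1)) (inv_mem (hin a b b' hb c)))
      (inv_mem (hout b' a a' ha 1))
  have hle : (⊤ : Subgroup (Matrix.SpecialLinearGroup (Fin 3 × Fin 3) F)) ≤
      K.comap Matrix.SpecialLinearGroup.toGL := by
    rw [← SL_closure_transvections, Subgroup.closure_le]
    rintro _ ⟨⟨i, l, hil, c⟩, rfl⟩
    exact htv i l hil c
  intro g hg
  obtain ⟨v, hv⟩ : ∃ v : Matrix.SpecialLinearGroup I9 F, (v : M9) = g := ⟨⟨(g : M9), (mem_sl g).1 hg⟩, rfl⟩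
  exact (show Matrix.SpecialLinearGroup.toGL v = g from Units.ext hv) ▸ hle (Subgroup.mem_top v)

theorem Over.ov (O : Over w p K) : Ov w O.hw O.hw1 K := by
  haveI : Finite (GL (Fin 3) F) := Finite.of_injective _ Units.val_injective
  refine ⟨O.det, O.left_mem (Subgroup.le_normalizer (dia_A_mem w)) (by rw [det_dia_A O.hw O.hw1, one_pow]),
    O.left_mem (Subgroup.le_normalizer (cyc_mem w)) (by rw [det_cyc, one_pow]),
    O.left_mem (four_mem_normalizer O.hw O.hw1) (by rw [det_four O.hw O.hw1, one_pow]),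
    O.left_mem (dd_mem_normalizer O.hw O.hw1) ?_, O.above _ sw_mem_normalizer det_sw,
    O.above _ (shr_mem_normalizer O.hw O.hw1) det_shr_cyc, fun c hc a => O.acts hc a⟩
  rw [det_dd, ← pow_mul, show 2 * 3 = 3 * 2 from rfl, pow_mul, (sum_pow O.hw O.hw1).1, one_pow]

/-- Elements commuting with the block distinguishing element normalise. -/
theorem Over.mem_normalizer_of_commute (O : Over w p K) {g : G9} (hg : g ∈ K)
    (h : g * kr (1, dia (A w)) = kr (1, dia (A w)) * g) : g ∈ Subgroup.normalizer (std9 w : Set G9) := by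
  obtain ⟨c, rfl⟩ := exists_blk O.hw O.hw1 h
  exact O.ov.blk_mem (O.ov.no_single O.two_ne) hg

end Cfsg.Agent.Classical.LinNine
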