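import Cfsg.Agent.Lib.Classical.LinNine.Act

/-!
A group above the standard normaliser in degree nine: elements commuting with a standard element are in the
normaliser, provided their blocks normalise the standard group of order 27.
-/

set_option autoImplicit false
set_option linter.unusedSectionVars false
set_option quotPrecheck false

namespace Cfsg.Agent.Classical.LinNine

open Matrix HeisenbergThree SLThree.Hessian

universe u

variable {F : Type u} [Field F]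

local notation "G3" => GL (Fin 3) F
local notation "M3" => Matrix (Fin 3) (Fin 3) F
local notation "I9" => (Fin 3 × Fin 3)
local notation "G9" => GL (Fin 3 × Fin 3) F
local notation "M9" => Matrix (Fin 3 × Fin 3) (Fin 3 × Fin 3) F
local notation "Z3" => ZMod 3
local notation "V2" => (Fin 2 → ZMod 3)
local notation "S2" => Matrix (Fin 2) (Fin 2) (ZMod 3)

/-- The shear. -/
def shr (r : GL (Fin 3) F) : GL (Fin 3 × Fin 3) F := blk fun a => r ^ (a : ℕ)

theorem cyc_pow_three : (cyc : G3) ^ 3 = 1 := Units.ext (by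
  rw [Units.val_pow_eq_pow_val, coe_cyc, Units.val_one, _root_.pow_three]
  ext i j
  fin_cases i <;> fin_cases j <;> simp [Matrix.mul_apply, Fin.sum_univ_three])

theorem blk_scalar (z : Fin 3 → Fˣ) : blk (fun a => dia fun _ => z a) = kr (1, (dia z : G3)) := Units.ext (by
  ext ⟨b, a⟩ ⟨b', a'⟩
  rw [blk_apply, kr_apply, coe_dia, coe_dia, Units.val_one]
  simp only [Matrix.diagonal_apply, Matrix.one_apply]
  split_ifs <;> simp_all)

theorem scalar_eq {x : G3} {z : F} (h : (x : M3) = z • 1) : ∃ z' : Fˣ, x = dia fun _ => z' := by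
  have hz : z ≠ 0 := fun e => x.ne_zero (by rw [h, e, zero_smul])
  exact ⟨Units.mk0 z hz, Units.ext (by rw [h, coe_dia, Matrix.smul_one_eq_diagonal]; rfl)⟩

variable {w : Fˣ}

theorem blk_single_comm (g h : G3) :
    blk (Pi.mulSingle 2 g) * kr (h, 1) * (blk (Pi.mulSingle 2 g))⁻¹ * (kr (h, 1))⁻¹ =
      blk (Pi.mulSingle 2 (g * h * g⁻¹ * h⁻¹)) := by
  rw [← blk_const, ← map_inv, ← map_inv, ← map_mul, ← map_mul, ← map_mul]
  congr 1
  funext a
  fin_cases a <;> simp [Pi.mulSingle]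

theorem swap_calc :
    blk (Pi.mulSingle 2 (negSwap : G3)) * (sw * blk (Pi.mulSingle 0 (cyc : G3)) * sw) *
        blk (Pi.mulSingle 2 (negSwap : G3)) =
      sw * blk (Pi.mulSingle 0 (dia ![1, 1, -1] * cyc * dia ![1, 1, -1] : G3)) * sw := by
  have hb : ∀ (c : Fin 3 → G3) (X : M9) (p q : I9), (((blk c : G9) : M9) * X) p q =
      ∑ x, (c p.2 : M3) p.1 x * X (x, p.2) q := fun c X p q => by
    rw [Matrix.mul_apply, Fintype.sum_prod_type]
    exact Finset.sum_congr rfl fun x _ => (Finset.sum_eq_single p.2 (fun y _ hy => by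
      rw [blk_apply, if_neg (Ne.symm hy), zero_mul]) (by simp)).trans (by rw [blk_apply, if_pos rfl])
  have hb' : ∀ (c : Fin 3 → G3) (X : M9) (p q : I9), (X * ((blk c : G9) : M9)) p q =
      ∑ y, X p (y, q.2) * (c q.2 : M3) y q.1 := fun c X p q => by
    rw [Matrix.mul_apply, Fintype.sum_prod_type]
    exact Finset.sum_congr rfl fun x _ => (Finset.sum_eq_single q.2 (fun y _ hy => by
      rw [blk_apply, if_neg hy, mul_zero]) (by simp)).trans (by rw [blk_apply, if_pos rfl])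
  refine Units.ext ?_
  ext ⟨b, a⟩ ⟨b', a'⟩
  rw [Units.val_mul, Units.val_mul, hb', sw_conj_apply, blk_apply]
  simp only [hb, Fin.sum_univ_three, sw_conj_apply, blk_apply, Prod.swap_prod_mk]
  fin_cases a <;> fin_cases a' <;> fin_cases b <;> fin_cases b' <;>
    simp [Pi.mulSingle, negSwap, coe_cyc, coe_dia, Matrix.mul_diagonal, Matrix.diagonal_mul]

/-- A group above the standard normaliser all whose blocks normalise the standard group of order 27. -/
structure Ov (w : Fˣ) (hw : w ^ 3 = 1) (hw1 : w ≠ 1) (K : Subgroup (GL (Fin 3 × Fin 3) F)) : Prop where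
  det : ∀ g ∈ K, (g : Matrix (Fin 3 × Fin 3) (Fin 3 × Fin 3) F).det = 1
  mA : kr (dia (A w), 1) ∈ K
  mC : kr ((cyc : GL (Fin 3) F), 1) ∈ K
  mF : kr (four hw hw1, 1) ∈ K
  mD : kr (dd w, 1) ∈ K
  msw : (sw : GL (Fin 3 × Fin 3) F) ∈ K
  msh : shr (cyc : GL (Fin 3) F) ∈ K
  small : ∀ c, blk c ∈ K → ∀ a, ∃ M : Matrix (Fin 2) (Fin 2) (ZMod 3), Acts w (c a) M

section

variable {hw : w ^ 3 = 1} {hw1 : w ≠ 1} {K : Subgroup (GL (Fin 3 × Fin 3) F)} (O : Ov w hw hw1 K)
include O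

theorem Ov.kr_left {g : G3} (hg : g ∈ std w) : kr (g, 1) ∈ K := by
  have hle : std w ≤ K.comap (kr.comp (MonoidHom.inl G3 G3)) := (Subgroup.closure_le _).2 (by
    rintro x (rfl | rfl)
    exacts [O.mA, O.mC])
  exact hle hg

theorem Ov.kr_right {g : G3} (hg : g ∈ std w) : kr (1, g) ∈ K := by
  rw [← sw_kr g 1]; exact mul_mem (mul_mem O.msw (O.kr_left hg)) O.msw

theorem Ov.kr_lift {g : G3} (hg : g ∈ Subgroup.closure ({four hw hw1, dd w} : Set G3)) : kr (g, 1) ∈ K := by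
  have hle : Subgroup.closure ({four hw hw1, dd w} : Set G3) ≤ K.comap (kr.comp (MonoidHom.inl G3 G3)) :=
    (Subgroup.closure_le _).2 (by
      rintro x (rfl | rfl)
      exacts [O.mF, O.mD])
  exact hle hg

theorem Ov.shift {c : Fin 3 → G3} (hc : blk c ∈ K) : blk (fun a => c (a - 1)) ∈ K := by
  rw [← shift_blk]
  exact mul_mem (mul_mem (O.kr_right (cyc_mem w)) hc) (inv_mem (O.kr_right (cyc_mem w)))

theorem Ov.swK {g : G9} (hg : g ∈ K) : sw * g * sw ∈ K := mul_mem (mul_mem O.msw hg) O.msw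

omit O in
theorem shr_mem_normalizer [Finite F] (hw : w ^ 3 = 1) (hw1 : w ≠ 1) : shr (cyc : G3) ∈ Subgroup.normalizer (std9 w : Set G9) := by
  have hc3 := cyc_pow_three (F := F)
  refine mem_normalizer_std9 ?_ ?_ ?_ ?_
  · rw [show shr (cyc : G3) * kr (dia (A w), 1) * (shr cyc)⁻¹ =
        kr (dia (A w), 1) * blk (fun a : Fin 3 => dia fun _ => w ^ (2 * (a : ℕ))) from ?_, blk_scalar, kr_mul, one_mul,
      mul_one]
    · refine kr_mem_std9 (dia_A_mem w) ?_
      rw [show (fun a : Fin 3 => w ^ (2 * (a : ℕ))) = A w ^ 2 by funext a; simp [A, ← pow_mul, mul_comm], map_pow]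
      exact pow_mem (dia_A_mem w) 2
    · rw [shr, ← blk_const, ← map_inv, ← map_mul, ← map_mul, ← map_mul]
      congr 1
      funext a
      have h := cyc_pow_mul_A_pow (F := F) hw hw1 (a : ℕ) 1
      rw [pow_one, mul_one] at h
      rw [Pi.mul_apply, Pi.mul_apply, Pi.mul_apply, Pi.inv_apply, mul_inv_eq_iff_eq_mul, h, ← mul_assoc,
        ← map_mul, ← map_mul, mul_comm (A w)]
  · rw [show shr (cyc : G3) * kr (cyc, 1) * (shr cyc)⁻¹ = kr (cyc, 1) from ?_]
    · exact kr_mem_std9 (cyc_mem w) (one_mem _)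
    · rw [shr, ← blk_const, ← map_inv, ← map_mul, ← map_mul]
      congr 1
      funext a
      rw [Pi.mul_apply, Pi.mul_apply, Pi.inv_apply, ← pow_succ, pow_succ', mul_inv_cancel_right]
  · rw [show shr (cyc : G3) * kr (1, dia (A w)) * (shr cyc)⁻¹ = kr (1, dia (A w)) from ?_]
    · exact kr_mem_std9 (one_mem _) (dia_A_mem w)
    · rw [shr, ← blk_scalar, ← map_inv, ← map_mul, ← map_mul]
      congr 1
      funext a
      rw [Pi.mul_apply, Pi.mul_apply, Pi.inv_apply]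
      have hz : (dia fun _ => A w a : G3) * cyc ^ (a : ℕ) = cyc ^ (a : ℕ) * dia fun _ => A w a := Units.ext (by
        rw [Units.val_mul, Units.val_mul, coe_dia,
          show Matrix.diagonal (fun _ : Fin 3 => ((A w a : Fˣ) : F)) = (A w a : F) • 1 from
            (Matrix.smul_one_eq_diagonal _).symm, Matrix.smul_mul, Matrix.mul_smul, one_mul, mul_one])
      rw [← hz, mul_inv_cancel_right]
  · rw [show shr (cyc : G3) * kr (1, cyc) * (shr cyc)⁻¹ = kr (cyc, cyc) from ?_]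
    · exact kr_mem_std9 (cyc_mem w) (cyc_mem w)
    · rw [show kr ((cyc : G3), cyc) = kr (cyc, 1) * kr (1, cyc) by rw [kr_mul, mul_one, one_mul]]
      rw [shr, mul_assoc, ← map_inv,
        show kr (1, (cyc : G3)) * blk (fun a : Fin 3 => cyc ^ (a : ℕ))⁻¹ =
          blk (fun a : Fin 3 => ((cyc : G3) ^ ((a - 1 : Fin 3) : ℕ))⁻¹) * kr (1, cyc) by
          rw [← mul_inv_eq_iff_eq_mul]; exact shift_blk _,
        ← mul_assoc, ← map_mul, ← blk_const]
      congr 2
      funext a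
      rw [Pi.mul_apply, mul_inv_eq_iff_eq_mul, ← pow_succ']
      fin_cases a
      · show (cyc : G3) ^ 0 = cyc ^ 3
        rw [hc3, pow_zero]
      · show (cyc : G3) ^ 1 = cyc ^ 1
        rfl
      · show (cyc : G3) ^ 2 = cyc ^ 2
        rfl

theorem Ov.exists_shr [Finite F] (v : V2) :
    ∃ r : G3, pr r = pr (mv w v) ∧ shr r ∈ K ∧ shr r ∈ Subgroup.normalizer (std9 w : Set G9) := by
  rcases eq_or_ne v 0 with rfl | hv
  · refine ⟨1, by rw [mv_zero], ?_⟩
    rw [show shr (1 : G3) = 1 by rw [shr]; simp only [one_pow]; exact map_one _]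
    exact ⟨one_mem _, one_mem _⟩
  obtain ⟨M, hM, e⟩ := (show ∀ v : V2, v ≠ 0 → ∃ M : S2, M.det = 1 ∧ M *ᵥ ![0, 1] = v by decide +kernel) v hv
  obtain ⟨h, hh, hA⟩ := exists_lift hw hw1 hM
  refine ⟨h * cyc * h⁻¹, by rw [map_mul, map_mul, map_inv, ← mv_e1 (w := w), hA, e], ?_⟩
  have hs : shr (h * cyc * h⁻¹) = kr (h, 1) * shr cyc * (kr (h, 1))⁻¹ := by
    rw [shr, shr, ← blk_const, ← map_inv, ← map_mul, ← map_mul]
    congr 1
    funext a
    rw [conj_pow]
    rfl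
  rw [hs]
  have hn : kr (h, 1) ∈ Subgroup.normalizer (std9 w : Set G9) :=
    kr_mem_normalizer (hA.mem_normalizer hw hw1) (one_mem _)
  exact ⟨mul_mem (mul_mem (O.kr_lift hh) O.msh) (inv_mem (O.kr_lift hh)),
    mul_mem (mul_mem hn (shr_mem_normalizer hw hw1)) (inv_mem hn)⟩

omit O in
/-- Sign changes normalising the standard group are constant. -/
theorem sign_const (hw : w ^ 3 = 1) (hw1 : w ≠ 1) {e : Fin 3 → Fˣ} (he : ∀ i, e i * e i = 1) {M : S2}
    (hA : Acts w (dia e) M) (i : Fin 3) : e i = e 0 := by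
  have h1 := hA ![0, 1]
  rw [mv_e1, ← map_inv, ← map_mul, ← map_mul, ← map_inv, mul_assoc, cyc_mul_dia, ← mul_assoc, ← map_mul] at h1
  obtain ⟨f, hf⟩ : ∃ f, f = e * prev e⁻¹ := ⟨_, rfl⟩
  rw [← hf, map_mul, ← eq_mul_inv_iff_mul_eq, ← mv_e1 (w := w), ← pr_mv_neg hw hw1, ← pr_mv_add hw hw1] at h1
  obtain ⟨v, hv⟩ : ∃ v, v = M *ᵥ ![0, 1] + -![0, 1] := ⟨_, rfl⟩
  rw [← hv] at h1
  have hff : f * f = 1 := by
    funext j
    rw [hf]
    fin_cases j <;> simp [prev] <;> rw [mul_mul_mul_comm, he, ← mul_inv, he, inv_one, mul_one]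
  have hv0 : v = 0 := by
    have h2 : pr (mv w (v + v)) = 1 := by rw [pr_mv_add hw hw1, ← h1, ← map_mul, ← map_mul, hff, map_one, map_one]
    exact (show ∀ v : V2, v + v = 0 → v = 0 by decide +kernel) v (pr_mv_eq_one hw hw1 h2)
  rw [hv0, mv_zero, map_one, pr_eq_one] at h1
  obtain ⟨z, hz⟩ := h1
  have hfz : ∀ j, (f j : F) = z := fun j => by
    have := congrFun (congrFun hz j) j
    simpa [coe_dia] using this
  have hf1 : ∀ j, f j = 1 := fun j => by
    have hprod : f 0 * f 1 * f 2 = 1 := by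
      rw [hf]; simp [prev]
      have key : e 0 * (e 2)⁻¹ * (e 1 * (e 0)⁻¹) * (e 2 * (e 1)⁻¹) = 1 := by
        rw [show e 0 * (e 2)⁻¹ * (e 1 * (e 0)⁻¹) * (e 2 * (e 1)⁻¹) =
          (e 0 * (e 0)⁻¹) * ((e 2)⁻¹ * e 2) * (e 1 * (e 1)⁻¹) by ac_rfl]
        simp
      exact key
    have e0 : f 0 = f j := Units.ext (by rw [hfz, hfz])
    rw [show f 1 = f 0 from Units.ext (by rw [hfz, hfz]), show f 2 = f 0 from Units.ext (by rw [hfz, hfz]), e0,
      show f j * f j = 1 from congrFun hff j, one_mul] at hprod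
    exact hprod
  have k : ∀ j, e j = prev e j := fun j => by
    have := hf1 j
    rw [hf, Pi.mul_apply] at this
    fin_cases j <;> simpa [prev, mul_inv_eq_one] using this
  have k1 := k 1
  have k2 := k 2
  simp [prev] at k1 k2
  fin_cases i
  · rfl
  · exact k1
  · exact k2.trans k1

theorem Ov.no_single [Finite F] (h2 : (2 : F) ≠ 0) (h : blk (Pi.mulSingle 2 (negSwap : G3)) ∈ K) : False := by
  have hcy : (negSwap : G3) * cyc * (negSwap : G3)⁻¹ * (cyc : G3)⁻¹ = cyc := by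
    rw [inv_eq_of_mul_eq_one_right (negSwap_mul_self (F := F))]
    refine mul_inv_eq_iff_eq_mul.2 (Units.ext ?_)
    simp only [Units.val_mul, coe_negSwap, coe_cyc]
    ext i j
    fin_cases i <;> fin_cases j <;> simp [Matrix.mul_apply, Fin.sum_univ_three]
  have h1 : blk (Pi.mulSingle 2 (cyc : G3)) ∈ K := by
    have := mul_mem (mul_mem (mul_mem h O.mC) (inv_mem h)) (inv_mem O.mC)
    rwa [blk_single_comm, hcy] at this
  have hE : sw * blk (Pi.mulSingle 0 (cyc : G3)) * sw ∈ K := by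
    refine O.swK ?_
    have := O.shift h1
    rwa [show (fun a : Fin 3 => (Pi.mulSingle 2 (cyc : G3) : Fin 3 → G3) (a - 1)) = Pi.mulSingle 0 cyc by
      funext a; fin_cases a <;> simp [Pi.mulSingle, show (-1 : Fin 3) = 2 from rfl]] at this
  have hg := O.swK (mul_mem (swap_calc (F := F) ▸ mul_mem (mul_mem h hE) h) (inv_mem hE))
  rw [_root_.mul_inv_rev, _root_.mul_inv_rev, sw_inv,
    show ∀ X Y : G9, sw * (sw * X * sw * (sw * (Y * sw))) * sw = X * Y from fun X Y => by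
      simp only [mul_assoc, sw_mul_self, mul_one]
      simp only [← mul_assoc, sw_mul_self, one_mul],
    ← map_inv, ← map_mul] at hg
  obtain ⟨M, hM⟩ := O.small _ hg 0
  have e : ((Pi.mulSingle 0 (dia ![1, 1, -1] * cyc * dia ![1, 1, -1] : G3) : Fin 3 → G3) *
      (Pi.mulSingle 0 (cyc : G3) : Fin 3 → G3)⁻¹) 0 = dia (![1, 1, -1] * prev ![1, 1, -1]) := by
    rw [Pi.mul_apply, Pi.inv_apply, Pi.mulSingle_eq_same, Pi.mulSingle_eq_same, mul_assoc (dia ![1, 1, -1]),
      cyc_mul_dia, ← mul_assoc, ← map_mul, mul_inv_cancel_right]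
  rw [e] at hM
  have h10 := sign_const hw hw1 (fun i => by fin_cases i <;> simp [prev]) hM 1
  refine h2 ?_
  have h10' := congrArg Units.val h10
  simp [prev] at h10'
  linear_combination h10'

theorem Ov.no_one_t [Finite F] (hno : blk (Pi.mulSingle 2 (negSwap : G3)) ∈ K → False) {c : Fin 3 → G3} (hc : blk c ∈ K)
    (hA : ∀ a : Fin 3, Acts w (c a) ((!![1, 1; 0, 1] : S2) ^ (a : ℕ))) : False := by
  obtain ⟨hm, hmM⟩ : ∃ hm : G3, hm = four hw hw1 := ⟨_, rfl⟩
  have haS := acts_four hw hw1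
  rw [← hmM] at haS
  have hcomm : ∀ {g h : G3} {M N M' N' : S2}, Acts w g M → Acts w h N → M' * M = 1 → N' * N = 1 →
      Acts w (g * h * g⁻¹ * h⁻¹) (M * N * M' * N') := by
    intro g h M N M' N' hg hh hM hN
    have hinv : ∀ {x : G3} {P P' : S2}, Acts w x P → P' * P = 1 → Acts w x⁻¹ P' := fun {x P P'} hx e v => by
      have := hx (P' *ᵥ v)
      rw [Matrix.mulVec_mulVec, mul_eq_one_comm.1 e, Matrix.one_mulVec] at this
      rw [map_inv, inv_inv, ← this]
      group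
    exact ((hg.mul hw hw1 hh).mul hw hw1 (hinv hg hM)).mul hw hw1 (hinv hh hN)
  obtain ⟨T, hT⟩ : ∃ T : S2, T = !![1, 1; 0, 1] := ⟨_, rfl⟩
  obtain ⟨S, hS⟩ : ∃ S : S2, S = !![0, 1; -1, 0] := ⟨_, rfl⟩
  rw [← hS] at haS
  rw [← hT] at hA
  obtain ⟨q0, hq0⟩ : ∃ q : S2, q = T * S * T ^ 2 * S ^ 3 := ⟨_, rfl⟩
  obtain ⟨q, hqK, hqA⟩ : ∃ q : G3, kr (q, 1) ∈ K ∧ Acts w q q0 := by
    obtain ⟨q, hq, hqA⟩ := exists_lift hw hw1 (M := q0) (by rw [hq0, hT, hS]; decide +kernel)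
    exact ⟨q, O.kr_lift hq, hqA⟩
  obtain ⟨u, hu⟩ : ∃ u : Fin 3 → G3, u = fun a => c a * hm * (c a)⁻¹ * hm⁻¹ := ⟨_, rfl⟩
  have huK : blk u ∈ K := by
    have hmK : kr (hm, 1) ∈ K := by rw [hmM]; exact O.mF
    have := mul_mem (mul_mem (mul_mem hc hmK) (inv_mem hc)) (inv_mem hmK)
    rw [← blk_const, ← map_inv, ← map_inv, ← map_mul, ← map_mul, ← map_mul] at this
    rw [hu]
    exact this
  obtain ⟨e, he⟩ : ∃ e : Fin 3 → G3, e = fun a => u a * q * (u a)⁻¹ * q⁻¹ := ⟨_, rfl⟩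
  have heK : blk e ∈ K := by
    have := mul_mem (mul_mem (mul_mem huK hqK) (inv_mem huK)) (inv_mem hqK)
    rw [← blk_const, ← map_inv, ← map_inv, ← map_mul, ← map_mul, ← map_mul] at this
    rw [he]
    exact this
  have hdet : ∀ a, (e a : M3).det = 1 := fun a => by
    rw [he]
    show ((u a * q * (u a)⁻¹ * q⁻¹ : G3) : M3).det = 1
    rw [Units.val_mul, Units.val_mul, Units.val_mul, Matrix.det_mul, Matrix.det_units_conj, ← Matrix.det_mul,
      Units.mul_inv, Matrix.det_one]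
  have hue : ∀ a : Fin 3, Acts w (u a) ((T ^ (a : ℕ)) * S * (T ^ (2 * (a : ℕ))) * S ^ 3) := fun a => by
    rw [hu]
    refine hcomm (hA a) haS ?_ ?_
    · subst hT; revert a; decide +kernel
    · subst hS; decide +kernel
  have he0 : ∀ a : Fin 3, Acts w (e a) (if a = 2 then -1 else 1) := fun a => by
    rw [he]
    have key : ∀ a : Fin 3, ((T ^ (a : ℕ)) * S * (T ^ (2 * (a : ℕ))) * S ^ 3) ^ 5 *
        ((T ^ (a : ℕ)) * S * (T ^ (2 * (a : ℕ))) * S ^ 3) ^ 7 = 1 ∧
        q0 ^ 5 * q0 ^ 7 = 1 ∧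
        ((T ^ (a : ℕ)) * S * (T ^ (2 * (a : ℕ))) * S ^ 3) ^ 1 * q0 *
          ((T ^ (a : ℕ)) * S * (T ^ (2 * (a : ℕ))) * S ^ 3) ^ 11 * q0 ^ 11 = (if a = 2 then -1 else 1) := by
      subst hq0 hT hS; decide +kernel
    obtain ⟨k1, k2, k3⟩ := key a
    rw [← k3, pow_one]
    refine hcomm (hue a) hqA ?_ ?_
    · rw [← pow_succ, ← k1, ← pow_add]
    · rw [← pow_succ, ← k2, ← pow_add]
  have hcube : ∀ a : Fin 3, a ≠ 2 → e a ^ 3 = 1 := fun a ha => by
    have h1 := he0 a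
    rw [if_neg ha] at h1
    obtain ⟨v, hv⟩ := exists_mv_of_acts_one hw hw1 h1
    have hm' := mem_std_of_pr hw hw1 (hdet a) hv
    exact std_pow_three hw hw1 hm'
  obtain ⟨r', hr', hx⟩ : ∃ r' : G3, r' ∈ std w ∧ e 2 ^ 3 = r' * negSwap * r'⁻¹ := by
    have h1 := he0 2
    rw [if_pos rfl] at h1
    have hJ : Acts w (negSwap : G3) (-1 : S2) := by
      have := (acts_four hw hw1).mul hw hw1 (acts_four hw hw1)
      rwa [four_sq hw hw1, show (!![0, 1; -1, 0] : S2) * !![0, 1; -1, 0] = -1 by decide +kernel] at this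
    have h1J := h1.mul hw hw1 hJ
    rw [neg_one_mul, neg_neg] at h1J
    obtain ⟨v, hv⟩ := exists_mv_of_acts_one hw hw1 h1J
    refine ⟨mv w (-v), mv_mem _, ?_⟩
    obtain ⟨y, hy⟩ : ∃ y : G3, y = mv w (-v) * negSwap * (mv w (-v))⁻¹ := ⟨_, rfl⟩
    have hJJ : (negSwap : G3)⁻¹ = negSwap := inv_eq_of_mul_eq_one_right negSwap_mul_self
    have hpr : pr (e 2) = pr y := by
      have hj := hJ (-v)
      rw [Matrix.neg_mulVec, Matrix.one_mulVec, neg_neg] at hj
      rw [map_mul] at hv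
      rw [hy, map_mul, map_mul, map_inv, ← pr_mv_neg hw hw1, neg_neg]
      rw [pr_mv_neg hw hw1] at hj ⊢
      have hz : pr (mv w v) = (pr (mv w v))⁻¹ * (pr (mv w v))⁻¹ := by
        rw [← pr_mv_neg hw hw1, ← pr_mv_add hw hw1, show -v + -v = v from
          (show ∀ v : V2, -v + -v = v by decide +kernel) v]
      rw [← map_inv pr (negSwap : G3), hJJ] at hj
      have hja : pr (negSwap : G3) * pr (mv w v) = (pr (mv w v))⁻¹ * pr (negSwap : G3) := by
        rw [← mul_inv_eq_iff_eq_mul, ← map_inv, hJJ]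
        conv_rhs => rw [← hj]
        rw [_root_.mul_inv_rev, _root_.mul_inv_rev, inv_inv, ← map_inv pr (negSwap : G3), hJJ, mul_assoc]
      rw [eq_mul_inv_of_mul_eq hv, ← map_inv pr (negSwap : G3), hJJ, mul_assoc, hja, ← mul_assoc, ← hz]
    obtain ⟨z, hz⟩ := pr_eq_pr.1 hpr
    have hdy : (y : M3).det = 1 := by
      rw [hy, Units.val_mul, Units.val_mul, Matrix.det_units_conj, det_negSwap]
    have hz3 : z ^ 3 = 1 := by
      have := congrArg Matrix.det hz
      rwa [hdet, Matrix.det_smul, hdy, mul_one, Fintype.card_fin, eq_comm] at this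
    have hy2 : y * y = 1 := by rw [hy, conj_mul, negSwap_mul_self, mul_one, mul_inv_cancel]
    rw [← hy]
    refine Units.ext ?_
    rw [Units.val_pow_eq_pow_val, hz, smul_pow, hz3, one_smul, ← Units.val_pow_eq_pow_val]
    congr 1
    rw [_root_.pow_three, hy2, mul_one]
  have hs : blk (Pi.mulSingle 2 (negSwap : G3)) ∈ K := by
    have h3 := pow_mem heK 3
    have := mul_mem (mul_mem (inv_mem (O.kr_left hr')) h3) (O.kr_left hr')
    rw [← map_pow, ← blk_const, ← map_inv, ← map_mul, ← map_mul] at this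
    convert this using 2
    funext a
    symm
    rw [Pi.mul_apply, Pi.mul_apply, Pi.inv_apply, Pi.pow_apply]
    rcases eq_or_ne a 2 with rfl | ha
    · rw [hx, Pi.mulSingle_eq_same]; group
    · rw [hcube a ha, Pi.mulSingle_eq_of_ne ha, mul_one, inv_mul_cancel]
  exact hno hs
where
  std_pow_three {w : Fˣ} (hw : w ^ 3 = 1) (hw1 : w ≠ 1) {g : G3} (hg : g ∈ std w) : g ^ 3 = 1 := by
    obtain ⟨v, hv⟩ := exists_mv hw hw1 hg
    obtain ⟨z, hz⟩ := pr_eq_pr.1 hv
    have hc3 := cyc_pow_three (F := F)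
    have hA3 : (dia (A w) : G3) ^ 3 = 1 := by
      rw [← map_pow, show A w ^ 3 = 1 from funext fun i => ?_, map_one]
      show (w ^ (i : ℕ)) ^ 3 = 1
      rw [← pow_mul, mul_comm, pow_mul, hw, one_pow]
    have hdg : ∀ x ∈ std w, ((x : G3) : M3).det = 1 := fun x hx => by
      induction hx using Subgroup.closure_induction with
      | mem x hx =>
        rcases hx with rfl | rfl
        · rw [coe_dia, Matrix.det_diagonal, Fin.prod_univ_three]
          simp [A]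
          linear_combination (sum_pow hw hw1).1
        · simp [coe_cyc, Matrix.det_fin_three]
      | one => simp
      | mul a b _ _ ha hb => rw [Units.val_mul, Matrix.det_mul, ha, hb, one_mul]
      | inv a _ ha => rw [Matrix.coe_units_inv, Matrix.det_nonsing_inv, ha, Ring.inverse_one]
    have hz3 : z ^ 3 = 1 := by
      have := congrArg Matrix.det hz
      rwa [hdg g hg, Matrix.det_smul, hdg _ (mv_mem v), mul_one, Fintype.card_fin, eq_comm] at this
    have gen : ∀ x y t : G3, (∀ g, g * t = t * g) → y * x = t * (x * y) → t ^ 3 = 1 → x ^ 3 = 1 → y ^ 3 = 1 →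
        (x * y) ^ 3 = 1 := by
      intro x y t hz h ht hx hy
      have l : ∀ g, y * (x * g) = t * (x * (y * g)) := fun g => by rw [← mul_assoc, h, mul_assoc, mul_assoc]
      have cx : ∀ g, x * (t * g) = t * (x * g) := fun g => by rw [← mul_assoc, hz, mul_assoc]
      have cy : ∀ g, y * (t * g) = t * (y * g) := fun g => by rw [← mul_assoc, hz, mul_assoc]
      rw [_root_.pow_three] at ht hx hy ⊢
      simp only [mul_assoc, l, cx, cy]
      rw [hy, mul_one, hx, mul_one, ht]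
    have hm3 : mv w v ^ 3 = 1 := by
      refine gen _ _ (dia fun _ => w ^ (2 * (v 1).val * (v 0).val)) (fun g => Units.ext ?_)
        (cyc_pow_mul_A_pow hw hw1 _ _) ?_ ?_ ?_
      · rw [Units.val_mul, Units.val_mul, coe_dia, show Matrix.diagonal (fun _ : Fin 3 =>
          ((w ^ (2 * (v 1).val * (v 0).val) : Fˣ) : F)) = ((w ^ (2 * (v 1).val * (v 0).val) : Fˣ) : F) • 1 from
          (Matrix.smul_one_eq_diagonal _).symm, Matrix.smul_mul, Matrix.mul_smul, one_mul, mul_one]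
      · rw [← map_pow, show (fun _ : Fin 3 => w ^ (2 * (v 1).val * (v 0).val)) ^ 3 = 1 from funext fun i => ?_,
          map_one]
        show (w ^ (2 * (v 1).val * (v 0).val)) ^ 3 = 1
        rw [← pow_mul, mul_comm, pow_mul, hw, one_pow]
      · rw [← pow_mul, mul_comm, pow_mul, hA3, one_pow]
      · rw [← pow_mul, mul_comm, pow_mul, hc3, one_pow]
    refine Units.ext ?_
    rw [Units.val_pow_eq_pow_val, hz, smul_pow, hz3, one_smul, ← Units.val_pow_eq_pow_val, hm3]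

theorem Ov.no_quad [Finite F] (hno : blk (Pi.mulSingle 2 (negSwap : G3)) ∈ K → False) {c : Fin 3 → G3} (hc : blk c ∈ K) {τ : Fin 3 → V2}
    (hτ : ∀ a, pr (c a) = pr (mv w (τ a))) (hne : τ 0 + τ 1 + τ 2 ≠ 0) : False := by
  -- two translations made trivial
  obtain ⟨r, hr, hrK, -⟩ := O.exists_shr (τ 0 - τ 1)
  obtain ⟨d, hd⟩ : ∃ d : Fin 3 → G3, d = fun a => mv w (-τ 0) * c a * r ^ (a : ℕ) := ⟨_, rfl⟩
  have hdK : blk d ∈ K := by
    have := mul_mem (mul_mem (O.kr_left (mv_mem (-τ 0))) hc) hrK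
    rw [shr, ← blk_const, ← map_mul, ← map_mul] at this
    rw [hd]
    exact this
  have hdt : ∀ a, pr (d a) = pr (mv w (if a = 2 then τ 0 + τ 1 + τ 2 else 0)) := fun a => by
    rw [hd]
    simp only [map_mul, map_pow, hr, hτ]
    fin_cases a
    · show pr (mv w (-τ 0)) * pr (mv w (τ 0)) * pr (mv w (τ 0 - τ 1)) ^ 0 = pr (mv w 0)
      rw [pow_zero, mul_one, ← pr_mv_add hw hw1, neg_add_cancel]
    · show pr (mv w (-τ 0)) * pr (mv w (τ 1)) * pr (mv w (τ 0 - τ 1)) ^ 1 = pr (mv w 0)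
      rw [pow_one, ← pr_mv_add hw hw1, ← pr_mv_add hw hw1]
      congr 2
      abel
    · show pr (mv w (-τ 0)) * pr (mv w (τ 2)) * pr (mv w (τ 0 - τ 1)) ^ 2 = pr (mv w (τ 0 + τ 1 + τ 2))
      rw [pow_two, ← pr_mv_add hw hw1, ← pr_mv_add hw hw1, ← pr_mv_add hw hw1]
      congr 2
      exact (show ∀ x y z : V2, -x + z + (x - y + (x - y)) = x + y + z by decide +kernel) _ _ _
  -- the third one made diagonal
  obtain ⟨s, hs⟩ : ∃ s, s = τ 0 + τ 1 + τ 2 := ⟨_, rfl⟩
  rw [← hs] at hne hdt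
  obtain ⟨M, hM, hMs⟩ := (show ∀ v : V2, v ≠ 0 → ∃ M : S2, M.det = 1 ∧ M *ᵥ v = ![1, 0] by decide +kernel) s hne
  obtain ⟨h, hh, hA⟩ := exists_lift hw hw1 hM
  obtain ⟨e, he⟩ : ∃ e : Fin 3 → G3, e = fun a => h * d a * h⁻¹ := ⟨_, rfl⟩
  have heK : blk e ∈ K := by
    have := mul_mem (mul_mem (O.kr_lift hh) hdK) (inv_mem (O.kr_lift hh))
    rw [← blk_const, ← map_inv, ← map_mul, ← map_mul] at this
    rw [he]
    exact this
  have het : ∀ a, pr (e a) = pr (if a = 2 then dia (A w) else 1) := fun a => by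
    rw [he]
    simp only [map_mul, map_inv, hdt, hA (if a = 2 then s else 0)]
    split_ifs
    · rw [hMs, mv_e0]
    · rw [Matrix.mulVec_zero, mv_zero]
  have hdia : ∀ a, ∃ z : Fˣ, e a = (dia fun _ => z) * if a = 2 then dia (A w) else 1 := fun a => by
    obtain ⟨z, hz⟩ := pr_eq_pr.1 (het a)
    have hz0 : z ≠ 0 := fun e0 => (e a).ne_zero (by rw [hz, e0, zero_smul])
    exact ⟨Units.mk0 z hz0, Units.ext (by
      rw [Units.val_mul, coe_dia, show Matrix.diagonal (fun _ : Fin 3 => ((Units.mk0 z hz0 : Fˣ) : F)) = z • 1 from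
        (Matrix.smul_one_eq_diagonal _).symm, Matrix.smul_mul, one_mul, hz])⟩
  choose μ hμ using hdia
  -- the other view
  obtain ⟨f, hf⟩ : ∃ f : Fin 3 → G3, f = fun b : Fin 3 => dia (μ * ![1, 1, w ^ (b : ℕ)]) := ⟨_, rfl⟩
  have hfe : sw * blk e * sw = blk f := by
    refine Units.ext ?_
    ext ⟨b, a⟩ ⟨b', a'⟩
    rw [sw_conj_apply, blk_apply, blk_apply, hf, hμ]
    simp only [Prod.swap_prod_mk, Units.val_mul, coe_dia]
    fin_cases a <;> fin_cases a' <;> fin_cases b <;> fin_cases b' <;> simp [A, coe_dia, Matrix.diagonal_mul]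
  have hfK : blk f ∈ K := hfe ▸ O.swK heK
  obtain ⟨M₀, hM₀⟩ := O.small _ hfK 0
  rw [hf] at hM₀
  simp only at hM₀
  have hfix : M₀ *ᵥ ![1, 0] = ![1, 0] := by
    refine pr_mv_inj hw hw1 ?_
    rw [← hM₀, mv_e0, ← map_inv, ← map_inv, ← map_mul, ← map_mul, ← map_mul, ← map_mul, mul_comm (μ * _),
      mul_inv_cancel_right]
  obtain ⟨n, n', hn, hN⟩ : ∃ n : Fin 3, ∃ n' : S2, n' = (!![1, 2; 0, 1] : S2) ^ (n : ℕ) ∧ n' * M₀ = 1 := by
    obtain ⟨n, hn⟩ := (show ∀ M : S2, M.det = 1 → M *ᵥ ![1, 0] = ![1, 0] → ∃ n : Fin 3,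
      (!![1, 2; 0, 1] : S2) ^ (n : ℕ) * M = 1 by decide +kernel) M₀ (hM₀.det hw hw1) hfix
    exact ⟨n, _, rfl, hn⟩
  obtain ⟨g, hg⟩ : ∃ g : Fin 3 → G3, g = fun b : Fin 3 => dd w ^ (n : ℕ) * f b := ⟨_, rfl⟩
  have hgK : blk g ∈ K := by
    have := mul_mem (show kr (dd w ^ (n : ℕ), 1) ∈ K from
      O.kr_lift (pow_mem (Subgroup.subset_closure (Or.inr rfl) :
        dd w ∈ Subgroup.closure ({four hw hw1, dd w} : Set G3)) _)) hfK
    rw [← blk_const, ← map_mul] at this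
    rw [hg]
    exact this
  have hdn : ∀ m : ℕ, Acts w (dd w ^ m) ((!![1, 2; 0, 1] : S2) ^ m) := fun m => by
    induction m with
    | zero => simpa using acts_of_pr hw hw1 (g := (1 : G3)) (v := 0) (by rw [mv_zero])
    | succ m ih => rw [pow_succ, pow_succ]; exact ih.mul hw hw1 (acts_dd hw hw1)
  refine O.no_one_t hno hgK fun b => ?_
  have hw2 : (![1, 1, w ^ (b : ℕ)] : Fin 3 → Fˣ) = A w ^ (b : ℕ) * ![1, w, w] ^ (2 * (b : ℕ)) := by
    funext i
    fin_cases i <;> simp [A, ← pow_mul, ← pow_add]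
    · rw [pow_mod_three hw, show ((b : ℕ) + 2 * (b : ℕ)) % 3 = 0 by omega, pow_zero]
    · rw [pow_mod_three hw, pow_mod_three hw (_ + _)]
      congr 1
      omega
  have h1 : Acts w (dia (A w) ^ (b : ℕ) * dd w ^ (2 * (b : ℕ)))
      ((!![1, 2; 0, 1] : S2) ^ (2 * (b : ℕ))) := by
    have hAb : Acts w (dia (A w) ^ (b : ℕ)) 1 := by
      refine acts_of_pr hw hw1 (v := (b : ℕ) • ![1, 0]) ?_
      induction (b : ℕ) with
      | zero => rw [pow_zero, zero_smul, mv_zero]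
      | succ m ih => rw [pow_succ, map_mul, succ_nsmul, pr_mv_add hw hw1, ← ih, mv_e0]
    simpa using hAb.mul hw hw1 (hdn (2 * (b : ℕ)))
  have hM₀' : Acts w (dia μ) M₀ := by
    rw [show (μ * ![1, 1, w ^ ((0 : Fin 3) : ℕ)] : Fin 3 → Fˣ) = μ by funext i; fin_cases i <;> simp] at hM₀
    exact hM₀
  have h3 := ((hdn n).mul hw hw1 hM₀').mul hw hw1 h1
  rw [hn] at hN
  rw [hN, one_mul] at h3
  rw [hg, hf]
  show Acts w (dd w ^ (n : ℕ) * dia (μ * ![1, 1, w ^ (b : ℕ)])) _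
  rw [hw2, map_mul, map_mul, map_pow, map_pow, ← mul_assoc, show (dia ![1, w, w] : G3) = dd w from rfl]
  rw [(show ∀ b : Fin 3, ((!![1, 1; 0, 1] : S2) ^ (b : ℕ)) = (!![1, 2; 0, 1] : S2) ^ (2 * (b : ℕ)) by
    decide +kernel) b]
  simpa only [mul_assoc] using h3

theorem Ov.acts_eq [Finite F] (hno : blk (Pi.mulSingle 2 (negSwap : G3)) ∈ K → False) {c : Fin 3 → G3} (hc : blk c ∈ K) {M : Fin 3 → S2}
    (hM : ∀ a, Acts w (c a) (M a)) (a : Fin 3) : M a = M 0 := by
  have key : ∀ (c : Fin 3 → G3), blk c ∈ K → ∀ M : Fin 3 → S2, (∀ a, Acts w (c a) (M a)) → M 1 = M 2 := by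
    intro c hc M hM
    by_contra hne
    obtain ⟨v, hv⟩ : ∃ v : V2, M 1 *ᵥ v ≠ M 2 *ᵥ v := by
      by_contra hcon
      push Not at hcon
      exact hne (Matrix.ext_iff_mulVec.2 hcon)
    obtain ⟨r, hr, hrK, -⟩ := O.exists_shr v
    obtain ⟨d, hd⟩ : ∃ d : Fin 3 → G3, d = fun a : Fin 3 => c a * r ^ (a : ℕ) * (c a)⁻¹ * (r ^ (a : ℕ))⁻¹ := ⟨_, rfl⟩
    have hdK : blk d ∈ K := by
      have := mul_mem (mul_mem (mul_mem hc hrK) (inv_mem hc)) (inv_mem hrK)
      rw [shr, ← map_inv, ← map_inv, ← map_mul, ← map_mul, ← map_mul] at this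
      rw [hd]
      exact this
    have hrn : ∀ m : ℕ, pr (r ^ m) = pr (mv w (m • v)) := fun m => by
      induction m with
      | zero => rw [pow_zero, zero_smul, mv_zero]
      | succ m ih => rw [pow_succ, map_mul, succ_nsmul, pr_mv_add hw hw1, ih, hr]
    refine O.no_quad hno hdK (τ := fun a : Fin 3 => M a *ᵥ ((a : ℕ) • v) - (a : ℕ) • v) (fun a => ?_) ?_
    · rw [hd, map_mul, map_mul, map_mul, map_inv, map_inv, hrn, hM a, ← pr_mv_neg hw hw1, ← pr_mv_add hw hw1,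
        sub_eq_add_neg]
    · show M 0 *ᵥ (0 • v) - 0 • v + (M 1 *ᵥ (1 • v) - 1 • v) + (M 2 *ᵥ (2 • v) - 2 • v) ≠ 0
      rw [zero_smul, one_smul, Matrix.mulVec_zero, sub_zero, zero_add, Matrix.mulVec_smul, two_smul, two_smul]
      intro e
      exact hv ((show ∀ x y v : V2, x - v + (y + y - (v + v)) = 0 → x = y by decide +kernel) _ _ _ e)
  have h12 := key c hc M hM
  have h01 := key _ (O.shift hc) (fun a => M (a - 1)) fun a => hM _
  simp at h01
  fin_cases a
  · rfl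
  · exact h01.symm
  · exact h12.symm.trans h01.symm

/-- Elements commuting with a standard element. -/
theorem Ov.blk_mem [Finite F] (hno : blk (Pi.mulSingle 2 (negSwap : G3)) ∈ K → False) {c : Fin 3 → G3} (hc : blk c ∈ K) :
    blk c ∈ Subgroup.normalizer (std9 w : Set G9) := by
  choose M hM using O.small c hc
  have hM0 : ∀ a, Acts w (c a) (M 0) := fun a => O.acts_eq hno hc hM a ▸ hM a
  obtain ⟨h, hh, hA⟩ := exists_lift hw hw1 ((hM0 0).det hw hw1)
  have hinv : Acts w h⁻¹ (M 0)⁻¹ := fun v => by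
    have hu : IsUnit (M 0).det := by rw [(hM0 0).det hw hw1]; exact isUnit_one
    have := hA ((M 0)⁻¹ *ᵥ v)
    rw [Matrix.mulVec_mulVec, Matrix.mul_nonsing_inv _ hu, Matrix.one_mulVec] at this
    rw [map_inv, inv_inv, ← this]
    group
  have h1 : ∀ a, Acts w (h⁻¹ * c a) 1 := fun a => by
    have := hinv.mul hw hw1 (hM0 a)
    rwa [Matrix.nonsing_inv_mul _ (by rw [(hM0 0).det hw hw1]; exact isUnit_one)] at this
  choose τ hτ using fun a => exists_mv_of_acts_one hw hw1 (h1 a)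
  have hcK : blk (fun a => h⁻¹ * c a) ∈ K := by
    have := mul_mem (inv_mem (O.kr_lift hh)) hc
    rwa [← blk_const, ← map_inv, ← map_mul] at this
  have hsum : τ 0 + τ 1 + τ 2 = 0 := by_contra fun hne => O.no_quad hno hcK hτ hne
  obtain ⟨r, hr, hrK, hrN⟩ := O.exists_shr (τ 0 - τ 1)
  obtain ⟨d, hd⟩ : ∃ d : Fin 3 → G3, d = fun a => mv w (-τ 0) * (h⁻¹ * c a) * r ^ (a : ℕ) := ⟨_, rfl⟩
  have hde : kr (mv w (-τ 0), 1) * ((kr (h, 1))⁻¹ * blk c) * shr r = blk d := by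
    rw [shr, ← blk_const, ← blk_const, ← map_inv, ← map_mul, ← map_mul, ← map_mul, hd]
    rfl
  have hdK : blk d ∈ K := hde ▸ mul_mem (mul_mem (O.kr_left (mv_mem _))
    (mul_mem (inv_mem (O.kr_lift hh)) hc)) hrK
  have hd1 : ∀ a, ∃ z : F, (d a : M3) = z • 1 := fun a => by
    refine pr_eq_one.1 ?_
    rw [hd]
    simp only [map_mul, map_pow, hr]
    rw [← map_mul, hτ]
    fin_cases a
    · show pr (mv w (-τ 0)) * pr (mv w (τ 0)) * pr (mv w (τ 0 - τ 1)) ^ 0 = 1
      rw [pow_zero, mul_one, ← pr_mv_add hw hw1, neg_add_cancel, mv_zero, map_one]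
    · show pr (mv w (-τ 0)) * pr (mv w (τ 1)) * pr (mv w (τ 0 - τ 1)) ^ 1 = 1
      rw [pow_one, ← pr_mv_add hw hw1, ← pr_mv_add hw hw1, show -τ 0 + τ 1 + (τ 0 - τ 1) = 0 by abel, mv_zero, map_one]
    · show pr (mv w (-τ 0)) * pr (mv w (τ 2)) * pr (mv w (τ 0 - τ 1)) ^ 2 = 1
      rw [pow_two, ← pr_mv_add hw hw1, ← pr_mv_add hw hw1, ← pr_mv_add hw hw1,
        (show ∀ x y z : V2, x + y + z = 0 → -x + z + (x - y + (x - y)) = 0 by decide +kernel) _ _ _ hsum, mv_zero,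
        map_one]
  choose z hz using hd1
  choose μ hμ using fun a => scalar_eq (hz a)
  have hds : blk d = kr (1, (dia μ : G3)) := by rw [← blk_scalar]; exact congrArg blk (funext hμ)
  have hμN : (dia μ : G3) ∈ Subgroup.normalizer (std w : Set G3) := by
    have hsK : blk (fun _ => (dia μ : G3)) ∈ K := by
      rw [blk_const, ← sw_kr 1 (dia μ), ← hds]; exact O.swK hdK
    obtain ⟨M', hM'⟩ := O.small _ hsK 0
    exact hM'.mem_normalizer hw hw1
  have hbc : blk c = kr (h, 1) * ((kr (mv w (-τ 0), 1))⁻¹ * (kr (1, (dia μ : G3))) * (shr r)⁻¹) := by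
    rw [← hds, ← hde]; group
  rw [hbc]
  exact mul_mem (kr_mem_normalizer (hA.mem_normalizer hw hw1) (one_mem _))
    (mul_mem (mul_mem (inv_mem (Subgroup.le_normalizer (kr_mem_std9 (mv_mem _) (one_mem _))))
      (kr_mem_normalizer (one_mem _) hμN)) (inv_mem hrN))

end

end Cfsg.Agent.Classical.LinNine
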